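import Cfsg.Agent.LocalEven48.KlingerMason.Config

/-!
Klinger–Mason: active hyperplanes, the collecting lemma, and the quaternion groups they fix.
-/

set_option autoImplicit false
set_option linter.unusedSectionVars false

namespace CfsgLib.LocalEven48.KlingerMason

open Subgroup Cfsg CfsgLib.CharPLocal CfsgLib.LocalStructure
open scoped commutatorElement

variable {G : Type*} [Group G] [Finite G] {p : ℕ} [hp : Fact p.Prime] {m : ℕ} {t : G}
  {E : Subgroup G}

namespace Cfg

variable (h : Hyp G p m) (C : Cfg p m t E)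
include h C

theorem active_mem {B : Subgroup G} (hB : Active p t E B) {e : G} (he : e ∈ E)
    (hc : ∀ x ∈ sq t, x ∈ centralizer (B : Set G) → Commute e x) : e ∈ B := by
  by_contra hne
  have heB : e ∈ centralizer (B : Set G) := C.E_le_centralizer h hB.1 he
  have hcard := card_elem_sup (C.elem.2 e he) heB hne
  have htop : B ⊔ zpowers e = E := by
    refine Subgroup.eq_of_le_of_card_ge (sup_le hB.1 (zpowers_le.2 he)) ?_
    rw [hcard, hB.2.1]
  refine hB.2.2 fun g hg => mem_centralizer_iff.2 fun x hx => ?_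
  rw [← htop] at hg
  obtain ⟨b, hb, k, rfl⟩ := mem_sup_zpowers heB hg
  exact ((show Commute b x from mem_centralizer_iff.1 hx.2 b hb).mul_left
    ((hc x hx.1 hx.2).zpow_left k)).symm.eq

theorem separated {x : G} (hx : x ∈ E) (hall : ∀ B, Active p t E B → x ∈ B) : x = 1 := by
  refine C.faithful_sq h hx ?_
  have hEne : E ≠ ⊥ := fun e => by
    have := C.card
    rw [e, card_bot] at this
    exact (Nat.one_lt_pow (by have := h.three; omega) hp.out.one_lt).ne this
  have hle : sq t ≤ centralizer ({x} : Set G) := by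
    refine Signalizer.le_of_forall_relIndex_eq C.elem hEne ?_
      (fun e he => C.mem_normalizer_sq h (commute_of_mem_centralizer_singleton (C.le he)))
      fun B hB hidx => ?_
    · intro hdvd
      obtain ⟨k, hk⟩ := IsPGroup.iff_card.1 ((coreT_isPGroup t).to_le (C.sq_le h))
      rw [hk] at hdvd
      exact h.odd ((Nat.prime_dvd_prime_iff_eq hp.out Nat.prime_two).1 (hp.out.dvd_of_dvd_pow hdvd))
    · by_cases hact : Active p t E B
      · exact fun s hs => mem_centralizer_singleton_of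
          (mem_centralizer_iff.1 hs.2 x (hall B hact)).symm
      · have hcard : p * Nat.card B = Nat.card E := by
          have h1 := relIndex_mul_relIndex (⊥ : Subgroup G) B E bot_le hB
          rw [relIndex_bot_left, relIndex_bot_left, hidx] at h1
          rw [mul_comm]; exact h1
        have : E ≤ centralizer ((sq t ⊓ centralizer (B : Set G) : Subgroup G) : Set G) := by
          by_contra hh; exact hact ⟨hB, hcard, hh⟩
        exact fun s hs => mem_centralizer_singleton_of (mem_centralizer_iff.1 (this hx) s hs)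
  exact mem_centralizer_iff.2 fun s hs => (commute_of_mem_centralizer_singleton (hle hs)).eq

theorem exists_active_not_mem {x : G} (hx : x ∈ E) (hx1 : x ≠ 1) :
    ∃ B, Active p t E B ∧ x ∉ B := by
  by_contra hcon
  push Not at hcon
  exact hx1 (C.separated h hx hcon)

theorem active_card {B : Subgroup G} (hB : Active p t E B) : p * Nat.card B = p ^ m := by
  rw [hB.2.1, C.card]

theorem mem_of_coreP {B : Subgroup G} (hB : Active p t E B) {c d : G} (hc : c ∈ E) (hd : d ∈ B)
    (hcd : c ∈ coreP p d) : c ∈ B :=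
  C.active_mem h hB hc fun _ hx hxB => (commute_cores h.odd (C.sq_le h hx) hcd
    (mem_centralizer_iff.1 hxB d hd).symm (commute_of_mem_centralizer_singleton (C.le hc))).symm

theorem exists_adjust {B : Subgroup G} (hB : Active p t E B) {d x : G} (hd : d ∈ E) (hdB : d ∉ B)
    (hx : x ∈ E) : ∃ k : ℤ, x * d ^ k ∈ B := by
  have hdc : d ∈ centralizer (B : Set G) := C.E_le_centralizer h hB.1 hd
  have htop : B ⊔ zpowers d = E :=
    Subgroup.eq_of_le_of_card_ge (sup_le hB.1 (zpowers_le.2 hd))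
      (by rw [card_elem_sup (C.elem.2 d hd) hdc hdB, hB.2.1])
  obtain ⟨b, hb, k, rfl⟩ := mem_sup_zpowers hdc (htop.ge hx)
  exact ⟨-k, by rwa [mul_assoc, ← zpow_add, add_neg_cancel, zpow_zero, mul_one]⟩

theorem exists_second_elem {F : Subgroup G} (hF : F ≤ E) (hcard : p * p ≤ Nat.card F) {d : G}
    (hd : d ∈ F) : ∃ x ∈ F, x ∉ zpowers d := by
  by_contra hcon
  push Not at hcon
  have h1 := Nat.le_of_dvd Nat.card_pos (card_dvd_of_le (fun x hx => hcon x hx : F ≤ zpowers d))
  rw [Nat.card_zpowers] at h1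
  have h2 : orderOf d ≤ p :=
    Nat.le_of_dvd hp.out.pos (orderOf_dvd_of_pow_eq_one (C.elem.2 d (hF hd)))
  have := hp.out.two_le
  nlinarith

/-- Two points of a noncyclic intersection of active hyperplanes whose cores meet trivially
in `C(t)`. -/
theorem exists_points {A : Subgroup G} (hA : A ≤ E) (hA2 : p * p ≤ Nat.card A)
    (hint : ∀ x ∈ E, (∀ B, Active p t E B → A ≤ B → x ∈ B) → x ∈ A) :
    ∃ q ∈ A, ∃ q' ∈ A, q ≠ 1 ∧ q' ≠ 1 ∧
      coreP p q ⊓ coreP p q' ⊓ centralizer ({t} : Set G) ⊓ centralizer (A : Set G) = ⊥ := by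
  classical
  let cl : G → Subgroup G := fun d => A ⊓ ⨅ B : {B : Subgroup G // Active p t E B ∧ d ∈ B}, B.1
  have hcl : ∀ {d x : G}, x ∈ cl d ↔ x ∈ A ∧ ∀ B, Active p t E B → d ∈ B → x ∈ B := by
    intro d x
    simp [cl, Subgroup.mem_iInf]
  have hminimal : ∀ A' : Subgroup G, A' ≤ A → A' ≠ ⊥ → (∀ d ∈ A', d ≠ 1 → cl d ≤ A') →
      ∃ q ∈ A', q ≠ 1 ∧ cl q ≤ zpowers q := by
    intro A' hA' hne hclosed
    haveI : Nontrivial A' := (nontrivial_iff_ne_bot _).2 hne
    obtain ⟨⟨d0, hd0⟩, hd01⟩ := exists_ne (1 : A')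
    obtain ⟨d, ⟨hd, hd1⟩, hmin⟩ := Set.exists_min_image {d : G | d ∈ A' ∧ d ≠ 1}
      (fun d => Nat.card (cl d)) (Set.toFinite _) ⟨d0, hd0, fun e => hd01 (Subtype.ext e)⟩
    refine ⟨d, hd, hd1, fun x hx => ?_⟩
    by_contra hxd
    obtain ⟨B, hB, hdB⟩ := C.exists_active_not_mem h (hA (hA' hd)) hd1
    obtain ⟨k, hk⟩ := C.exists_adjust h hB (hA (hA' hd)) hdB (hA (hcl.1 hx).1)
    have hdcl : d ∈ cl d := hcl.2 ⟨hA' hd, fun _ _ h' => h'⟩
    have hx'cl : x * d ^ k ∈ cl d := mul_mem hx (zpow_mem hdcl k)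
    have hx'1 : x * d ^ k ≠ 1 := fun e => hxd (by
      rw [mul_eq_one_iff_eq_inv.1 e]; exact inv_mem (zpow_mem (mem_zpowers d) k))
    have hle : cl (x * d ^ k) ≤ cl d := fun y hy => hcl.2 ⟨(hcl.1 hy).1, fun B' hB' hdB' =>
      (hcl.1 hy).2 B' hB' ((hcl.1 hx'cl).2 B' hB' hdB')⟩
    have hlt : Nat.card (cl (x * d ^ k)) < Nat.card (cl d) := by
      refine lt_of_le_of_ne (Nat.le_of_dvd Nat.card_pos (card_dvd_of_le hle)) fun e => ?_
      have := Subgroup.eq_of_le_of_card_ge hle e.ge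
      exact hdB ((hcl.1 (this.ge hdcl)).2 B hB hk)
    exact not_lt.2 (hmin _ ⟨hclosed d hd hd1 hx'cl, hx'1⟩) hlt
  have hAne : A ≠ ⊥ := fun e => by
    rw [e, card_bot] at hA2
    have := hp.out.two_le; nlinarith
  obtain ⟨q, hq, hq1, hclq⟩ := hminimal A le_rfl hAne fun d _ _ => inf_le_left
  obtain ⟨B0, hB0, hqB0⟩ := C.exists_active_not_mem h (hA hq) hq1
  obtain ⟨x, hx, hxq⟩ := C.exists_second_elem h hA hA2 hq
  obtain ⟨k, hk⟩ := C.exists_adjust h hB0 (hA hq) hqB0 (hA hx)
  have hne : A ⊓ B0 ≠ ⊥ := fun e => hxq (by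
    have : x * q ^ k = 1 :=
      mem_bot.1 (e ▸ (⟨mul_mem hx (zpow_mem hq k), hk⟩ : x * q ^ k ∈ A ⊓ B0))
    rw [mul_eq_one_iff_eq_inv.1 this]; exact inv_mem (zpow_mem (mem_zpowers q) k))
  obtain ⟨q', hq', hq'1, hclq'⟩ := hminimal (A ⊓ B0) inf_le_left hne fun d hd _ y hy =>
    ⟨(hcl.1 hy).1, (hcl.1 hy).2 B0 hB0 hd.2⟩
  refine ⟨q, hq, q', hq'.1, hq1, hq'1, ?_⟩
  by_contra hne'
  set K := coreP p q ⊓ coreP p q' ⊓ centralizer ({t} : Set G) ⊓ centralizer (A : Set G) with hK
  have hEK : E ≤ normalizer (K : Set G) := by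
    intro e he
    have hcore : ∀ d ∈ E, e ∈ normalizer (coreP p d : Set G) := fun d hd =>
      centralizer_le_normalizer_coreP d (mem_centralizer_singleton_of (C.comm h he hd))
    exact normalizer_inf_le (normalizer_inf_le (normalizer_inf_le (hcore q (hA hq))
      (hcore q' (hA hq'.1))) (le_normalizer (C.le he))) (le_normalizer (C.E_le_centralizer h hA he))
  obtain ⟨y, hy, hy1, hyp, hyE⟩ := exists_fixed_prime (C.isPGroup h)
    ((coreP_isPGroup q).to_le (inf_le_left.trans (inf_le_left.trans inf_le_left))) hEK hne'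
  have hyt : Commute y t := commute_of_mem_centralizer_singleton hy.1.2
  have hyE' : y ∈ E := h.mem_of_bound C.two C.eight C.elem C.card.ge C.le hyp hyE hyt
  have hycl : ∀ d ∈ A, y ∈ coreP p d → y ∈ cl d := fun d hd hyd => hcl.2 ⟨
    hint y hyE' fun B hB hAB => C.mem_of_coreP h hB hyE' (hAB hd) hyd,
    fun B hB hdB => C.mem_of_coreP h hB hyE' hdB hyd⟩
  have h1 := hclq (hycl q hq hy.1.1.1)
  have h2 := hclq' (hycl q' hq'.1 hy.1.1.2)
  have horder : orderOf y = p := orderOf_eq_prime hyp hy1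
  have e1 : zpowers y = zpowers q := Subgroup.eq_of_le_of_card_ge (zpowers_le.2 h1) (by
    rw [Nat.card_zpowers, Nat.card_zpowers, horder, C.orderOf_mem h (hA hq) hq1])
  have e2 : zpowers y = zpowers q' := Subgroup.eq_of_le_of_card_ge (zpowers_le.2 h2) (by
    rw [Nat.card_zpowers, Nat.card_zpowers, horder, C.orderOf_mem h (hA hq'.1) hq'1])
  exact hqB0 (zpowers_le.2 hq'.2 ((e1.symm.trans e2).le (mem_zpowers q)))

/-- The collecting lemma: a good property of `p`-elements holding in each `zc A d` and propagating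
gives one element in all cores, hence a contradiction. -/
theorem collect {A : Subgroup G} (hA : A ≤ E) (hA2 : p * p ≤ Nat.card A) {q q' : G} (hq : q ∈ A)
    (hq' : q' ∈ A) (hq1 : q ≠ 1) (hq'1 : q' ≠ 1)
    (hK : coreP p q ⊓ coreP p q' ⊓ centralizer ({t} : Set G) ⊓ centralizer (A : Set G) = ⊥)
    {a : G} (ha : orderOf a = 2) (ha8 : InEight a) (haA : a ∈ centralizer (A : Set G)) (good : G → Prop)
    (hgood : ∀ y, good y → y ^ p = 1 ∧ y ≠ 1 ∧ Commute y a ∧ y ∈ centralizer (A : Set G))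
    (moved : ∀ N : Subgroup G, IsPGroup p N → N ≤ centralizer (A : Set G) →
      centralizer (A : Set G) ≤ normalizer (N : Set G) →
      t ∉ centralizer ((N ⊓ centralizer ({a} : Set G) : Subgroup G) : Set G) → ∃ y ∈ N, good y)
    (moved_d : ∀ d ∈ A, d ≠ 1 → ∃ y ∈ zc p A d, good y)
    (line : ∀ (J : Subgroup G) (y w : G), J ≤ zc p A q →
      centralizer (A : Set G) ≤ normalizer (J : Set G) → y ∈ J → good y → good w →
      (∀ u ∈ J, Commute u a → Commute u w) → w ∈ zpowers y) : False := by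
  classical
  have step : ∀ (J : Subgroup G) (d : G), d ∈ A → d ≠ 1 → J ≤ zc p A q →
      centralizer (A : Set G) ≤ normalizer (J : Set G) → J ⊓ zc p A d ≤ coreP p q' →
      (∃ y ∈ J, good y) → ∃ y ∈ J ⊓ zc p A d, good y := by
    rintro J d hd hd1 hJ hJn hJq ⟨y, hy, hgy⟩
    by_cases hmv : t ∈ centralizer ((J ⊓ zc p A d ⊓ centralizer ({a} : Set G) : Subgroup G) : Set G)
    swap
    · exact moved (J ⊓ zc p A d) ((h.zc_isPGroup A q).to_le (inf_le_left.trans hJ))
        (inf_le_left.trans (hJ.trans ((h.zc_le A q).trans inf_le_right)))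
        (fun g hg => normalizer_inf_le (hJn hg) (h.centralizer_le_normalizer_zc hd hg)) hmv
    obtain ⟨w, hw, hgw⟩ := moved_d d hd hd1
    have hwA := (h.zc_le A d hw).2
    have key : ∀ u ∈ J, Commute u a → Commute u w := by
      intro u hu hua
      rw [← commutatorElement_eq_one_iff_commute]
      have huA : u ∈ centralizer (A : Set G) := (h.zc_le A q (hJ hu)).2
      have hc : ⁅u, w⁆ ∈ J ⊓ zc p A d := by
        refine ⟨?_, ?_⟩
        · rw [commutatorElement_def, mul_assoc, mul_assoc]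
          refine mul_mem hu ?_
          rw [← mul_assoc]
          exact conj_mem_of_mem_normalizer (hJn hwA) (J.inv_mem hu)
        · show ⁅u, w⁆ ∈ zc p A d
          rw [commutatorElement_def]
          exact mul_mem (conj_mem_of_mem_normalizer (h.centralizer_le_normalizer_zc hd huA) hw)
            (Subgroup.inv_mem _ hw)
      have hca : Commute ⁅u, w⁆ a := by
        have hwa := (hgood w hgw).2.2.1
        rw [commutatorElement_def]
        exact ((hua.mul_left hwa).mul_left hua.inv_left).mul_left hwa.inv_left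
      have hct : Commute t ⁅u, w⁆ :=
        (mem_centralizer_iff.1 hmv _ ⟨hc, mem_centralizer_singleton_of hca⟩).symm
      have hcK : ⁅u, w⁆ ∈ coreP p q ⊓ coreP p q' ⊓ centralizer ({t} : Set G) ⊓
          centralizer (A : Set G) :=
        ⟨⟨⟨(h.zc_le A q (hJ hc.1)).1, hJq hc⟩, mem_centralizer_singleton_of hct.symm⟩,
          (h.zc_le A d hc.2).2⟩
      rw [hK] at hcK
      exact mem_bot.1 hcK
    have hwJ : w ∈ J := zpowers_le.2 hy (line J y w hJ hJn hy hgy hgw key)
    exact ⟨w, ⟨hwJ, hw⟩, hgw⟩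
  obtain ⟨y0, hy0, hg0⟩ := step (zc p A q) q' hq' hq'1 le_rfl (h.centralizer_le_normalizer_zc hq)
    (inf_le_right.trans ((h.zc_le A q').trans inf_le_left)) (moved_d q hq hq1)
  have hall : ∀ S : Finset G, (∀ d ∈ S, d ∈ A ∧ d ≠ 1) →
      ∃ y, good y ∧ y ∈ zc p A q ⊓ zc p A q' ∧ ∀ d ∈ S, y ∈ zc p A d := by
    intro S
    induction S using Finset.induction_on with
    | empty => intro _; exact ⟨y0, hg0, hy0, by simp⟩
    | @insert d S hdS ih =>
      intro hS
      obtain ⟨y, hgy, hy, hyS⟩ := ih fun x hx => hS x (Finset.mem_insert_of_mem hx)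
      set J := zc p A q ⊓ zc p A q' ⊓ ⨅ x : {x // x ∈ S}, zc p A x.1 with hJ
      obtain ⟨y', hy', hgy'⟩ := step J d (hS d (Finset.mem_insert_self d S)).1
        (hS d (Finset.mem_insert_self d S)).2 (inf_le_left.trans inf_le_left) (fun g hg => by
          refine normalizer_inf_le (normalizer_inf_le (h.centralizer_le_normalizer_zc hq hg)
            (h.centralizer_le_normalizer_zc hq' hg)) (mem_normalizer_of_conj fun x hx => ?_)
          rw [Subgroup.mem_iInf] at hx ⊢
          exact fun i => conj_mem_of_mem_normalizer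
            (h.centralizer_le_normalizer_zc (hS i.1 (Finset.mem_insert_of_mem i.2)).1 hg) (hx i))
        (inf_le_left.trans (inf_le_left.trans (inf_le_right.trans ((h.zc_le A q').trans inf_le_left))))
        ⟨y, ⟨hy, Subgroup.mem_iInf.2 fun i => hyS i.1 i.2⟩, hgy⟩
      refine ⟨y', hgy', hy'.1.1, fun x hx => ?_⟩
      rcases Finset.mem_insert.1 hx with rfl | hxS
      · exact hy'.2
      · exact (Subgroup.mem_iInf.1 hy'.1.2) ⟨x, hxS⟩
  obtain ⟨y, hgy, -, hyall⟩ := hall (Set.Finite.toFinset (Set.toFinite {d : G | d ∈ A ∧ d ≠ 1}))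
    (fun d hd => by simpa using hd)
  obtain ⟨hyp, hy1, hya, -⟩ := hgood y hgy
  have hncyc : ¬ IsCyclic A := fun hc => by
    obtain ⟨g, hg⟩ := hc.exists_generator
    obtain ⟨x, hx, hxg⟩ := C.exists_second_elem h hA hA2 g.2
    obtain ⟨k, hk⟩ := mem_zpowers_iff.1 (hg ⟨x, hx⟩)
    exact hxg (mem_zpowers_iff.2 ⟨k, congrArg Subtype.val hk⟩)
  exact hy1 (h.eq_one_of_mem_all_cores ha ha8 (C.elem_of_le h hA) hncyc
    (fun x hx => mem_centralizer_singleton_of (mem_centralizer_iff.1 haA x hx))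
    hya hyp fun d hd hd1 => (h.zc_le A d (hyall d (by simp [hd, hd1]))).1)

theorem sq_self {x : G} (hx : x ∈ sq t) : x * x = 1 ∨ x * x = t := ((C.mem_sq_iff h).1 hx).2

theorem sq_commutator {x y : G} (hx : x ∈ sq t) (hy : y ∈ sq t) : ⁅x, y⁆ = 1 ∨ ⁅x, y⁆ = t :=
  C.commutator_critT h (C.sq_le_critT h hx) (C.sq_le_critT h hy)

theorem t_mul_t (x : G) : t * (t * x) = x := by rw [← mul_assoc, C.sq_t h, one_mul]

theorem conj_of_commutator {x z : G} (he : ⁅z, x⁆ = t) : z * x * z⁻¹ = t * x := by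
  rw [commutatorElement_def] at he
  exact mul_inv_eq_iff_eq_mul.1 he

theorem conj_sq_inf {B : Subgroup G} (hB : B ≤ E) {e x : G} (he : e ∈ E)
    (hx : x ∈ sq t ⊓ centralizer (B : Set G)) : e * x * e⁻¹ ∈ sq t ⊓ centralizer (B : Set G) :=
  ⟨conj_mem_of_mem_normalizer (C.mem_normalizer_sq h (commute_of_mem_centralizer_singleton (C.le he))) hx.1,
    conj_mem_of_mem_normalizer (le_normalizer (C.E_le_centralizer h hB he)) hx.2⟩

/-- An involution of `sq t` fixed by an active hyperplane lies in an elementary group of order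
eight. -/
theorem inEight_of_fixes {B : Subgroup G} (hB : Active p t E B) {x : G}
    (hx : x ∈ sq t ⊓ centralizer (B : Set G)) (hx2 : x * x = 1) (hx1 : x ≠ 1) (hxt : x ≠ t)
    (hB2 : p * p ≤ Nat.card B) : InEight x := by
  have hB1 : ∃ d ∈ B, d ≠ 1 := by
    by_contra! hcon
    rw [(Subgroup.eq_bot_iff_forall B).2 hcon, card_bot] at hB2
    have := hp.out.two_le
    nlinarith
  obtain ⟨d, hd, hd1⟩ := hB1
  obtain ⟨B', hB', hdB'⟩ := C.exists_active_not_mem h (hB.1 hd) hd1
  obtain ⟨g, hgB, hgd⟩ := C.exists_second_elem h hB.1 hB2 hd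
  obtain ⟨k, hk⟩ := C.exists_adjust h hB' (hB.1 hd) hdB' (hB.1 hgB)
  set d' := g * d ^ k
  have hd'B : d' ∈ B := mul_mem hgB (zpow_mem hd k)
  have hd'1 : d' ≠ 1 := fun e => hgd (by
    rw [mul_eq_one_iff_eq_inv.1 e]; exact inv_mem (zpow_mem (mem_zpowers d) k))
  obtain ⟨B'', hB'', hd'B''⟩ := C.exists_active_not_mem h (hB.1 hd'B) hd'1
  have key : ∀ y ∈ sq t, ∀ e ∈ E, ∀ u ∈ sq t, Commute e y → Commute y ⁅e, u⁆ := by
    intro y hy e he u hu hey
    have het : Commute e t := commute_of_mem_centralizer_singleton (C.le he)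
    set u' := e * u * e⁻¹ with hu'
    have hu'm : u' ∈ sq t := conj_mem_of_mem_normalizer (C.mem_normalizer_sq h het) hu
    have h' : ⁅y, u'⁆ = ⁅y, u⁆ := by
      rw [hu', ← conj_eq_of_commute hey, ← conj_commutator, conj_eq_of_commute hey]
      rcases C.sq_commutator h hy hu with e1 | e1 <;> rw [e1]
      · group
      · exact conj_eq_of_commute het
    rw [← commutatorElement_eq_one_iff_commute, show ⁅e, u⁆ = u' * u⁻¹ from rfl]
    have hc : Commute (u' * u⁻¹) ⁅y, u⁆ := by
      rcases C.sq_commutator h hy hu with e1 | e1 <;> rw [e1]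
      · exact Commute.one_right _
      · exact C.commute_core h (C.sq_le h (mul_mem hu'm (inv_mem hu)))
    have e3 : ⁅y, u' * u⁻¹⁆ = ⁅y, u'⁆ * (u' * u⁻¹ * ⁅y, u⁆⁻¹ * u * u'⁻¹) := by
      simp only [commutatorElement_def]; group
    rw [e3, h', hc.inv_right.eq]
    group
  have moved : ∀ {B₀ : Subgroup G} {e : G}, Active p t E B₀ → e ∈ E → e ∉ B₀ →
      ∃ w ∈ sq t, w ∈ centralizer (B₀ : Set G) ∧ ¬ Commute e w ∧
        ∀ y ∈ sq t, Commute e y → Commute y w := by
    intro B₀ e hB₀ he he₀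
    obtain ⟨u, hu, hue⟩ : ∃ u ∈ sq t ⊓ centralizer (B₀ : Set G), ¬ Commute e u := by
      by_contra! hcon
      refine he₀ (C.active_mem h hB₀ he fun w hw hwB => hcon w ⟨hw, hwB⟩)
    have hm : e * u * e⁻¹ ∈ sq t ⊓ centralizer (B₀ : Set G) := C.conj_sq_inf h hB₀.1 he hu
    refine ⟨⁅e, u⁆, mul_mem hm.1 (inv_mem hu.1), mul_mem hm.2 (inv_mem hu.2), fun hc => hue ?_,
      fun y hy hey => key y hy e he u hu.1 hey⟩
    obtain ⟨l, hl⟩ := IsPGroup.iff_orderOf.1 (coreT_isPGroup t)
      ⟨⁅e, u⁆, C.sq_le h (mul_mem hm.1 (inv_mem hu.1))⟩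
    rw [Subgroup.orderOf_mk] at hl
    exact commute_of_stab (coprime_two_of_pow h.odd (k := 1) (by rw [pow_one]; exact C.elem.2 e he))
      (k := l) (by rw [← hl, pow_orderOf_eq_one]) hc
  obtain ⟨w, hw, hwB, hwd, hwk⟩ := moved hB' (hB.1 hd) hdB'
  obtain ⟨w', hw', hw'B, hw'd, hw'k⟩ := moved hB'' (hB.1 hd'B) hd'B''
  have hxd : Commute d x := mem_centralizer_iff.1 hx.2 d hd
  have hxd' : Commute d' x := mem_centralizer_iff.1 hx.2 d' hd'B
  have hxw : Commute x w := hwk x hx.1 hxd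
  have hxw' : Commute x w' := hw'k x hx.1 hxd'
  have hd'w : Commute d' w := mem_centralizer_iff.1 hwB d' hk
  have hww' : Commute w w' := hw'k w hw hd'w
  have htx : Commute t x := (C.commute_core h (C.sq_le h hx.1)).symm
  have hct : ∀ {e : G}, e ∈ B → Commute e t := fun he =>
    commute_of_mem_centralizer_singleton (C.le (hB.1 he))
  suffices hex : ∃ u : G, u ∈ sq t ∧ u * u = 1 ∧ Commute x u ∧ ∃ e ∈ B, ¬ Commute e u by
    obtain ⟨u, hu, hu2, hxu, e, he, hne⟩ := hex
    have hex' : Commute e x := mem_centralizer_iff.1 hx.2 e he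
    obtain ⟨V, hV, h8, -, hxV, -⟩ := exists_eight (C.sq_t h) hx2 hu2 (C.ne_one h) hx1 hxt htx
      (C.commute_core h (C.sq_le h hu)).symm hxu (fun e1 => hne (e1 ▸ Commute.one_right e))
      (fun e1 => hne (e1 ▸ hct he)) (fun e1 => hne (e1 ▸ hex'))
      (fun e1 => hne (e1 ▸ (hct he).mul_right hex'))
    exact ⟨V, hV, h8, hxV⟩
  rcases C.sq_self h hw with e1 | e1
  · exact ⟨w, hw, e1, hxw, d, hd, hwd⟩
  rcases C.sq_self h hw' with e2 | e2
  · exact ⟨w', hw', e2, hxw', d', hd'B, hw'd⟩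
  refine ⟨w * w', mul_mem hw hw', ?_, hxw.mul_right hxw', d', hd'B, fun hc => hw'd ?_⟩
  · rw [hww'.symm.mul_mul_mul_comm, e1, e2, C.sq_t h]
  · have := hd'w.inv_right.mul_right hc
    rwa [inv_mul_cancel_left] at this

/-- An active hyperplane fixes no involution of `sq t` but `t`. -/
theorem active_involution {B : Subgroup G} (hB : Active p t E B) {x : G}
    (hx : x ∈ sq t ⊓ centralizer (B : Set G)) (hx2 : x * x = 1) : x = 1 ∨ x = t := by
  set T := sq t ⊓ centralizer (B : Set G) with hT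
  have hTt : ∀ u ∈ T, Commute u t := fun u hu => C.commute_core h (C.sq_le h hu.1)
  by_cases hcen : ∀ z ∈ T, Commute z x
  · refine C.eq_of_fixed h (C.sq_le h hx.1) hx2 (mem_centralizer_iff.2 fun e he => ?_)
    refine (mem_centralizer_iff.1 (C.abelian_fixed h (A := T ⊓ centralizer (T : Set G))
      (inf_le_left.trans (inf_le_left.trans (C.sq_le h)))
      (fun u hu v hv => mem_centralizer_iff.1 hv.2 u hu.1) ?_ he) x
      ⟨hx, mem_centralizer_iff.2 fun z hz => (hcen z hz).eq⟩).symm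
    intro g hg
    have : g ∈ normalizer (T : Set G) :=
      mem_normalizer_of_conj fun u hu => C.conj_sq_inf h hB.1 hg hu
    exact normalizer_inf_le this (mem_normalizer_centralizer this)
  exfalso
  push Not at hcen
  obtain ⟨z, hz, hzx⟩ := hcen
  have hzxa : z * x * z⁻¹ = t * x := C.conj_of_commutator h
    ((C.sq_commutator h hz.1 hx.1).resolve_left fun e => hzx (commutatorElement_eq_one_iff_commute.1 e))
  have hx1 : x ≠ 1 := fun e => hzx (e ▸ Commute.one_right z)
  have hxt : x ≠ t := fun e => hzx (e ▸ hTt z hz)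
  have hxo : orderOf x = 2 := orderOf_two_of hx2 hx1
  have hBcard := C.active_card h hB
  have hB2 : p * p ≤ Nat.card B := by
    have h1 : p * (p * p) ≤ p * Nat.card B := by
      rw [hBcard, show p * (p * p) = p ^ 3 by ring]
      exact Nat.pow_le_pow_right hp.out.pos h.three
    exact Nat.le_of_mul_le_mul_left h1 hp.out.pos
  have hx8 : InEight x := C.inEight_of_fixes h hB hx hx2 hx1 hxt hB2
  obtain ⟨q, hq, q', hq', hq1, hq'1, hK⟩ := C.exists_points h hB.1 hB2
    fun y _ hy => hy B hB le_rfl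
  have htB := C.t_mem_centralizer h hB.1
  let good : G → Prop := fun y => y ^ p = 1 ∧ y ≠ 1 ∧ t * y * t⁻¹ = y⁻¹ ∧ Commute y x ∧
    y ∈ centralizer (B : Set G)
  have moved : ∀ N : Subgroup G, IsPGroup p N → N ≤ centralizer (B : Set G) →
      centralizer (B : Set G) ≤ normalizer (N : Set G) →
      t ∉ centralizer ((N ⊓ centralizer ({x} : Set G) : Subgroup G) : Set G) → ∃ y ∈ N, good y := by
    intro N hN hNB hNn hmv
    obtain ⟨y, hy, hyp, hy1, hyi⟩ := exists_inverted h.odd (hN.to_le inf_le_left) (C.sq_t h)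
      (normalizer_inf_le (hNn htB) (mem_normalizer_centralizer_singleton (hTt x hx).symm)) hmv
    exact ⟨y, hy.1, hyp, hy1, hyi, commute_of_mem_centralizer_singleton hy.2, hNB hy.1⟩
  refine C.collect h hB.1 hB2 hq hq' hq1 hq'1 hK hxo hx8 hx.2 good
    (fun y hy => ⟨hy.1, hy.2.1, hy.2.2.2.1, hy.2.2.2.2⟩) moved (fun d hd hd1 => ?_) ?_
  · have hn := h.centralizer_le_normalizer_zc (p := p) hd
    refine moved _ (h.zc_isPGroup B d) ((h.zc_le B d).trans inf_le_right) hn ?_
    exact not_mem_centralizer_inf_of_swap h.odd (h.zc_isPGroup B d) (C.sq_t h) hx2 (hTt x hx).symm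
      hxt hx1 (C.ne_one h) (hn htB) (hn hx.2) (hn hz.2) (hTt z hz) hzxa
      (h.not_centralizes_zc (C.orderOf_mem h (hB.1 hd) hd1) (C.cube h (hB.1 hd)) (C.elem_of_le h hB.1) hd C.two htB)
  · intro J y w hJ hJn hy hgy hgw hcom
    obtain ⟨hyp, hy1, hyi, hyx, hyB⟩ := hgy
    obtain ⟨hwp, hw1, hwi, hwx, hwB⟩ := hgw
    have hyw : Commute y w := hcom y hy hyx
    have hynot : y ∉ B := fun e => hy1 (C.fixed_inverted h (hB.1 e) hyi)
    have hwF : w ∈ B ⊔ zpowers y := by
      refine h.mem_of_bound hxo hx8 (OddOrder.BG11.elem_sup_zpowers (C.elem_of_le h hB.1) hyp hyB)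
        (by rw [card_elem_sup hyp hyB hynot, hBcard]) ?_ hwp ?_ hwx
      · exact sup_le (fun e he => mem_centralizer_singleton_of (mem_centralizer_iff.1 hx.2 e he))
          (zpowers_le.2 (mem_centralizer_singleton_of hyx))
      · refine mem_centralizer_iff.2 fun u hu => ?_
        obtain ⟨b, hb, k, rfl⟩ := mem_sup_zpowers hyB hu
        exact ((show Commute b w from mem_centralizer_iff.1 hwB b hb).mul_left
          (hyw.zpow_left k)).eq
    obtain ⟨b, hb, k, rfl⟩ := mem_sup_zpowers hyB hwF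
    suffices hb1 : b = 1 by rw [hb1, one_mul]; exact zpow_mem (mem_zpowers y) k
    refine C.fixed_inverted h (hB.1 hb) ?_
    have hyk : t * y ^ k * t⁻¹ = (y ^ k)⁻¹ := by rw [← conj_zpow, hyi, inv_zpow]
    have hbt : Commute b (y ^ k) := (show Commute b y from mem_centralizer_iff.1 hyB b hb).zpow_right k
    have : t * b * t⁻¹ * (t * y ^ k * t⁻¹) = b⁻¹ * (y ^ k)⁻¹ := by
      rw [show t * b * t⁻¹ * (t * y ^ k * t⁻¹) = t * (b * y ^ k) * t⁻¹ by group, hwi, mul_inv_rev,
        hbt.symm.inv_inv.eq]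
    rw [hyk] at this
    exact mul_right_cancel this

section quaternion

variable {B : Subgroup G} (hB : Active p t E B)
include hB

theorem sq_eq_of_ne {x : G} (hx : x ∈ sq t ⊓ centralizer (B : Set G)) (h1 : x ≠ 1) (ht : x ≠ t) :
    x * x = t :=
  (C.sq_self h hx.1).resolve_left fun e => (C.active_involution h hB hx e).elim h1 ht

theorem commutator_cases {x y : G} (hx : x ∈ sq t ⊓ centralizer (B : Set G))
    (hy : y ∈ sq t ⊓ centralizer (B : Set G)) (hx1 : x ≠ 1) (hxt : x ≠ t) (hy1 : y ≠ 1)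
    (hyt : y ≠ t) : ⁅x, y⁆ = t ∨ y = x ∨ y = t * x := by
  rcases C.sq_commutator h hx.1 hy.1 with e | e
  swap
  · exact Or.inl e
  right
  have hc : Commute x y := commutatorElement_eq_one_iff_commute.1 e
  have hxx := C.sq_eq_of_ne h hB hx hx1 hxt
  have h2 : (x * y) * (x * y) = 1 := by
    rw [hc.symm.mul_mul_mul_comm, hxx, C.sq_eq_of_ne h hB hy hy1 hyt, C.sq_t h]
  have hxinv : x⁻¹ = t * x := by
    refine inv_eq_of_mul_eq_one_right ?_
    rw [← mul_assoc, (C.commute_core h (C.sq_le h hx.1)).eq, mul_assoc, hxx, C.sq_t h]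
  rcases C.active_involution h hB (mul_mem hx hy) h2 with e' | e'
  · exact Or.inr ((inv_eq_of_mul_eq_one_right e').symm.trans hxinv)
  · refine Or.inl ?_
    rw [eq_inv_mul_of_mul_eq e', hxinv, mul_assoc, (C.commute_core h (C.sq_le h hx.1)).eq,
      C.t_mul_t h]

theorem decompose {x z w : G} (hx : x ∈ sq t ⊓ centralizer (B : Set G))
    (hz : z ∈ sq t ⊓ centralizer (B : Set G)) (hxz : ⁅x, z⁆ = t)
    (hw : w ∈ sq t ⊓ centralizer (B : Set G)) (hw1 : w ≠ 1) (hwt : w ≠ t) :
    (w = x ∨ w = t * x) ∨ (w = z ∨ w = t * z) ∨ (w = x * z ∨ w = t * (x * z)) := by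
  have hne : ∀ {a b : G}, ⁅a, b⁆ = t → a ∈ sq t → b ∈ sq t → a ≠ 1 ∧ a ≠ t ∧ b ≠ 1 ∧ b ≠ t := by
    intro a b e ha hb
    have hn : ∀ {u : G}, ⁅u, b⁆ = t → ¬ Commute u b := fun e' hc =>
      C.ne_one h (e'.symm.trans (commutatorElement_eq_one_iff_commute.2 hc))
    refine ⟨fun e1 => hn e (e1 ▸ Commute.one_left b), fun e1 => hn e (e1 ▸ (C.commute_core h (C.sq_le h hb)).symm),
      fun e1 => hn e (e1 ▸ Commute.one_right a), fun e1 => hn e (e1 ▸ C.commute_core h (C.sq_le h ha))⟩
  obtain ⟨hx1, hxt, hz1, hzt⟩ := hne hxz hx.1 hz.1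
  rcases C.commutator_cases h hB hx hw hx1 hxt hw1 hwt with e1 | e1
  swap
  · exact Or.inl e1
  rcases C.commutator_cases h hB hz hw hz1 hzt hw1 hwt with e2 | e2
  swap
  · exact Or.inr (Or.inl e2)
  have hcomm : Commute (x * z) w := by
    rw [← commutatorElement_eq_one_iff_commute]
    have : ⁅x * z, w⁆ = x * ⁅z, w⁆ * x⁻¹ * ⁅x, w⁆ := by simp only [commutatorElement_def]; group
    rw [this, e2, conj_eq_of_commute (C.commute_core h (C.sq_le h hx.1)), e1, C.sq_t h]
  have hxzm : x * z ∈ sq t ⊓ centralizer (B : Set G) := mul_mem hx hz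
  have hxz1 : ¬ Commute x z := fun hc =>
    C.ne_one h (hxz.symm.trans (commutatorElement_eq_one_iff_commute.2 hc))
  have hxz1' : x * z ≠ 1 := fun e => hxz1 (by
    rw [mul_eq_one_iff_eq_inv.1 e]; exact (Commute.refl z).inv_left)
  have hxzt : x * z ≠ t := fun e => hxz1 (by
    rw [eq_mul_inv_of_mul_eq e]
    exact ((C.commute_core h (C.sq_le h hz.1)).symm).mul_left ((Commute.refl z).inv_left))
  rcases C.commutator_cases h hB hxzm hw hxz1' hxzt hw1 hwt with e3 | e3
  · exact absurd (e3.symm.trans (commutatorElement_eq_one_iff_commute.2 hcomm)) (C.ne_one h)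
  · exact Or.inr (Or.inr e3)

theorem exists_noncommuting : ∃ x z, x ∈ sq t ⊓ centralizer (B : Set G) ∧
    z ∈ sq t ⊓ centralizer (B : Set G) ∧ ⁅x, z⁆ = t := by
  by_contra hcon
  push Not at hcon
  refine hB.2.2 (C.abelian_fixed h (inf_le_left.trans (C.sq_le h)) (fun x hx y hy => ?_) ?_)
  · exact commutatorElement_eq_one_iff_commute.1
      ((C.sq_commutator h hx.1 hy.1).resolve_right (hcon x y hx hy))
  · exact fun e he => mem_normalizer_of_conj fun x hx => C.conj_sq_inf h hB.1 he hx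

/-- An element of `E` outside `B` moves every nontrivial coset of `⟨t⟩`. -/
theorem moves {e x : G} (he : e ∈ E) (heB : e ∉ B) (hx : x ∈ sq t ⊓ centralizer (B : Set G))
    (hx1 : x ≠ 1) (hxt : x ≠ t) : ⁅x, e * x * e⁻¹⁆ = t := by
  obtain ⟨s, hs⟩ := hp.out.odd_of_ne_two h.odd
  have hep : e ^ p = 1 := C.elem.2 e he
  have het : Commute e t := commute_of_mem_centralizer_singleton (C.le he)
  have hodd : ∀ u : G, u * u = t ∨ u * u = 1 → ∃ v, (v = 1 ∨ v = t) ∧ u ^ p = v * u := by
    intro u hu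
    refine ⟨(u * u) ^ s, ?_, by rw [hs, pow_succ, pow_mul, pow_two]⟩
    rcases hu with e | e <;> rw [e]
    · rcases Nat.even_or_odd' s with ⟨r, rfl | rfl⟩
      · left; rw [pow_mul, pow_two, C.sq_t h, one_pow]
      · right; rw [pow_succ, pow_mul, pow_two, C.sq_t h, one_pow, one_mul]
    · left; rw [one_pow]
  have htB : t ∈ sq t ⊓ centralizer (B : Set G) :=
    ⟨C.t_mem_sq h, C.t_mem_centralizer h hB.1⟩
  have he' : ∀ w ∈ sq t ⊓ centralizer (B : Set G), w ≠ 1 → w ≠ t →
      e * w * e⁻¹ ≠ 1 ∧ e * w * e⁻¹ ≠ t := fun w _ h1 h2 =>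
    ⟨fun hh => h1 (conj_eq_one_iff.1 hh),
      fun hh => h2 ((MulAut.conj e).injective (hh.trans (conj_eq_of_commute het).symm))⟩
  have fixcoset : ∀ w ∈ sq t ⊓ centralizer (B : Set G), w ≠ 1 → w ≠ t →
      (e * w * e⁻¹ = w ∨ e * w * e⁻¹ = t * w) → Commute e w := by
    intro w _ _ _ hw
    rcases hw with e1 | e1
    · exact commute_of_conj_eq e1
    exfalso
    have key : ∀ k : ℕ, e ^ k * w * (e ^ k)⁻¹ = t ^ k * w := by
      intro k
      induction k with
      | zero => simp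
      | succ k ih =>
        calc e ^ (k + 1) * w * (e ^ (k + 1))⁻¹ = e * (e ^ k * w * (e ^ k)⁻¹) * e⁻¹ := by
              rw [pow_succ']; group
          _ = (e * t * e⁻¹) ^ k * (e * w * e⁻¹) := by rw [ih, conj_pow]; group
          _ = t ^ (k + 1) * w := by rw [conj_eq_of_commute het, e1, pow_succ, mul_assoc]
    have := key p
    rw [hep, one_mul, inv_one, mul_one, hs, pow_succ, pow_mul, pow_two, C.sq_t h, one_pow,
      one_mul] at this
    exact C.ne_one h (mul_eq_right.mp this.symm)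
  obtain ⟨hx'1, hx't⟩ := he' x hx hx1 hxt
  refine (C.commutator_cases h hB hx (C.conj_sq_inf h hB.1 he hx) hx1 hxt hx'1 hx't).resolve_right
    fun hfix => ?_
  have hex : Commute e x := fixcoset x hx hx1 hxt hfix
  refine heB (C.active_mem h hB he fun w hw hwB => ?_)
  have hwm : w ∈ sq t ⊓ centralizer (B : Set G) := ⟨hw, hwB⟩
  by_cases hw1 : w = 1
  · exact hw1 ▸ Commute.one_right e
  by_cases hwt : w = t
  · exact hwt ▸ het
  rcases C.commutator_cases h hB hx hwm hx1 hxt hw1 hwt with hxw | hxw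
  swap
  · rcases hxw with rfl | rfl
    · exact hex
    · exact het.mul_right hex
  obtain ⟨hw'1, hw't⟩ := he' w hwm hw1 hwt
  have hxw' : ⁅x, e * w * e⁻¹⁆ = t := by
    rw [← conj_eq_of_commute hex, ← conj_commutator, hxw, conj_eq_of_commute het]
  rcases C.decompose h hB hx hwm hxw (C.conj_sq_inf h hB.1 he hwm) hw'1 hw't with e1 | e1 | e1
  · exfalso
    refine C.ne_one h (hxw'.symm.trans (commutatorElement_eq_one_iff_commute.2 ?_))
    rcases e1 with e1 | e1 <;> rw [e1]
    exact (C.commute_core h (C.sq_le h hx.1)).mul_right (Commute.refl x)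
  · exact fixcoset w hwm hw1 hwt e1
  · exfalso
    obtain ⟨u, hu, hew⟩ : ∃ u, (u = x ∨ u = t * x) ∧ e * w * e⁻¹ = u * w := by
      rcases e1 with e1 | e1
      · exact ⟨x, Or.inl rfl, e1⟩
      · exact ⟨t * x, Or.inr rfl, by rw [e1, mul_assoc]⟩
    have heu : Commute e u := by
      rcases hu with rfl | rfl
      · exact hex
      · exact het.mul_right hex
    have key : ∀ k : ℕ, e ^ k * w * (e ^ k)⁻¹ = u ^ k * w := by
      intro k
      induction k with
      | zero => simp
      | succ k ih =>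
        calc e ^ (k + 1) * w * (e ^ (k + 1))⁻¹ = e * (e ^ k * w * (e ^ k)⁻¹) * e⁻¹ := by
              rw [pow_succ']; group
          _ = (e * u ^ k * e⁻¹) * (e * w * e⁻¹) := by rw [ih]; group
          _ = u ^ (k + 1) * w := by
              rw [conj_eq_of_commute (heu.pow_right k), hew, pow_succ, mul_assoc]
    have hu1 := key p
    rw [hep, one_mul, inv_one, mul_one] at hu1
    have hup : u ^ p = 1 := mul_eq_right.mp hu1.symm
    have hum : u ∈ sq t := by
      rcases hu with rfl | rfl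
      · exact hx.1
      · exact mul_mem htB.1 hx.1
    obtain ⟨v, hv, hvu⟩ := hodd u ((C.sq_self h hum).symm)
    have huv : u = 1 ∨ u = t := by
      rw [hvu] at hup
      rcases hv with rfl | rfl
      · exact Or.inl (by rwa [one_mul] at hup)
      · exact Or.inr ((mul_eq_one_iff_inv_eq.1 hup).symm.trans (inv_of_sq_one (C.sq_t h)))
    rcases hu with rfl | rfl <;> rcases huv with e2 | e2
    · exact hx1 e2
    · exact hxt e2
    · exact hxt (by rw [← C.t_mul_t h x, e2, mul_one])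
    · exact hx1 (mul_eq_left.mp e2)

/-- Active hyperplanes force `p = 3`. -/
theorem eq_three : p = 3 := by
  obtain ⟨e, he, heB⟩ : ∃ e ∈ E, e ∉ B := by
    by_contra hcon
    push Not at hcon
    have hEB : E = B := le_antisymm (fun e he => hcon e he) hB.1
    have := hB.2.1
    rw [hEB] at this
    have := hp.out.two_le
    have := Nat.card_pos (α := B)
    nlinarith
  have het : Commute e t := commute_of_mem_centralizer_singleton (C.le he)
  obtain ⟨x, z, hx, hz, hxz⟩ := C.exists_noncommuting h hB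
  have hncl : ∀ {a b : G}, ⁅a, b⁆ = t → a ∈ sq t → b ∈ sq t → (a ≠ 1 ∧ a ≠ t) ∧ (b ≠ 1 ∧ b ≠ t) := by
    intro a b e ha hb
    have hn : ¬ Commute a b := fun hc =>
      C.ne_one h (e.symm.trans (commutatorElement_eq_one_iff_commute.2 hc))
    exact ⟨⟨fun e1 => hn (e1 ▸ Commute.one_left b), fun e1 => hn (e1 ▸ (C.commute_core h (C.sq_le h hb)).symm)⟩,
      ⟨fun e1 => hn (e1 ▸ Commute.one_right a), fun e1 => hn (e1 ▸ C.commute_core h (C.sq_le h ha))⟩⟩
  obtain ⟨⟨hx1, hxt⟩, -⟩ := hncl hxz hx.1 hz.1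
  set f : G → G := fun w => e * w * e⁻¹ with hf
  have hfmem : ∀ w ∈ sq t ⊓ centralizer (B : Set G), f w ∈ sq t ⊓ centralizer (B : Set G) :=
    fun w hw => C.conj_sq_inf h hB.1 he hw
  have hmv := C.moves h hB he heB hx hx1 hxt
  obtain ⟨-, hy1, hyt⟩ := hncl hmv hx.1 (hfmem x hx).1
  have hmv2 := C.moves h hB he heB (hfmem x hx) hy1 hyt
  obtain ⟨-, hz1, hzt⟩ := hncl hmv2 (hfmem x hx).1 (hfmem _ (hfmem x hx)).1
  have hne2 : e * e ∉ B := fun hh => heB (by
    obtain ⟨s, hs⟩ := hp.out.odd_of_ne_two h.odd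
    have : e = (e * e) ^ (s + 1) := by
      rw [← pow_two, ← pow_mul, show 2 * (s + 1) = p + 1 by omega, pow_succ, C.elem.2 e he, one_mul]
    rw [this]; exact pow_mem hh _)
  have hff : (e * e) * x * (e * e)⁻¹ = f (f x) := by simp only [hf]; group
  have hmv3 : ⁅x, f (f x)⁆ = t := hff ▸ C.moves h hB (mul_mem he he) hne2 hx hx1 hxt
  have hlast : f (f x) = x * f x ∨ f (f x) = t * (x * f x) := by
    rcases C.decompose h hB hx (hfmem x hx) hmv (hfmem _ (hfmem x hx)) hz1 hzt with e1 | e1 | e1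
    · exfalso
      refine C.ne_one h (hmv3.symm.trans (commutatorElement_eq_one_iff_commute.2 ?_))
      rcases e1 with e1 | e1 <;> rw [e1]
      exact (C.commute_core h (C.sq_le h hx.1)).mul_right (Commute.refl x)
    · exfalso
      refine C.ne_one h (hmv2.symm.trans (commutatorElement_eq_one_iff_commute.2 ?_))
      show Commute (f x) (f (f x))
      rcases e1 with e1 | e1 <;> rw [e1]
      exact (C.commute_core h (C.sq_le h (hfmem x hx).1)).mul_right (Commute.refl (f x))
    · exact e1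
  have hfmul : ∀ u v, f (u * v) = f u * f v := fun u v => by simp only [hf]; group
  have hft : f t = t := conj_eq_of_commute het
  -- the third image returns to the first coset
  have hfff : f (f (f x)) = x ∨ f (f (f x)) = t * x := by
    have hyy : f x * f x = t := C.sq_eq_of_ne h hB (hfmem x hx) hy1 hyt
    have hprod : f x * (x * f x) = x := by
      rw [← mul_assoc, ← inv_inv (f x * x)]
      have hcm : f x * x = t * (x * f x) := by
        have : x * f x * x⁻¹ * (f x)⁻¹ = t := hmv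
        calc f x * x = t⁻¹ * (x * f x) := by rw [← this]; group
          _ = t * (x * f x) := by rw [inv_of_sq_one (C.sq_t h)]
      rw [inv_inv, hcm, mul_assoc t, mul_assoc x, hyy, (C.commute_core h (C.sq_le h hx.1)).eq,
        C.t_mul_t h]
    rcases hlast with e1 | e1
    · left; rw [e1, hfmul, e1, hprod]
    · left
      rw [e1, hfmul, hfmul, hft, e1, ← mul_assoc (f x) t,
        (C.commute_core h (C.sq_le h (hfmem x hx).1)).eq, mul_assoc t, hprod, C.t_mul_t h]
  by_contra hp3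
  have he3 : e ^ 3 ∈ E := pow_mem he 3
  have he3B : e ^ 3 ∉ B := fun hh => heB (by
    have hco : Nat.Coprime 3 p := (Nat.coprime_primes Nat.prime_three hp.out).2 (Ne.symm hp3)
    obtain ⟨r, hr⟩ := exists_pow_eq_self_of_coprime (n := 3) (x := e)
      (hco.coprime_dvd_right (orderOf_dvd_of_pow_eq_one (C.elem.2 e he)))
    exact hr ▸ pow_mem hh r)
  refine C.ne_one h ((C.moves h hB he3 he3B hx hx1 hxt).symm.trans
    (commutatorElement_eq_one_iff_commute.2 ?_))
  rw [show e ^ 3 * x * (e ^ 3)⁻¹ = f (f (f x)) by simp only [hf, pow_succ, pow_zero, one_mul]; group]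
  rcases hfff with e1 | e1 <;> rw [e1]
  exact (C.commute_core h (C.sq_le h hx.1)).mul_right (Commute.refl x)

end quaternion

end Cfg

end CfsgLib.LocalEven48.KlingerMason
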