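import Cfsg.Agent.LocalEven48.KlingerMason.Tools

/-!
The setting of the Klinger–Mason theorem: the cores of centralizers of involutions and of elements
of order `p`, and critical subgroups.
-/

set_option autoImplicit false
set_option linter.unusedSectionVars false

namespace CfsgLib.LocalEven48.KlingerMason

open Subgroup Cfsg CfsgLib.CharPLocal CfsgLib.LocalStructure
open scoped commutatorElement

variable {G : Type*} [Group G]

/-- `O_2(C(t))`. -/
def coreT (t : G) : Subgroup G := pCoreOf 2 (centralizer ({t} : Set G))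

/-- `O_p(C(d))`. -/
def coreP (p : ℕ) (d : G) : Subgroup G := pCoreOf p (centralizer ({d} : Set G))

/-- A subgroup of exponent `p` and class at most two detecting coprime automorphisms. -/
def IsCritExp (p : ℕ) (N Q : Subgroup G) : Prop :=
  Q ≤ N ∧ (∀ x ∈ Q, x ^ p = 1) ∧ (∀ x ∈ Q, ∀ y ∈ Q, ∀ z ∈ Q, Commute ⁅x, y⁆ z) ∧
    normalizer (N : Set G) ≤ normalizer (Q : Set G) ∧
    ∀ x ∈ normalizer (N : Set G), (orderOf x).Coprime p → x ∈ centralizer (Q : Set G) →
      x ∈ centralizer (N : Set G)

/-- A chosen subgroup with `IsCritExp`. -/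
noncomputable def crit (p : ℕ) (N : Subgroup G) : Subgroup G :=
  Classical.epsilon (IsCritExp p N)

/-- The critical subgroup of `O_p(C(d)) ∩ C(F)`. -/
noncomputable def zc (p : ℕ) (F : Subgroup G) (d : G) : Subgroup G :=
  crit p (coreP p d ⊓ centralizer (F : Set G))

/-- A critical subgroup of a 2-group, inside the ambient group. -/
def IsCritTwo (R C : Subgroup G) : Prop :=
  C ≤ R ∧ normalizer (R : Set G) ≤ normalizer (C : Set G) ∧
    (∀ x ∈ C, ∀ r ∈ R, ⁅x, r⁆ ∈ C ⊓ centralizer (C : Set G)) ∧
    (∀ x ∈ C, x * x ∈ centralizer (C : Set G)) ∧ R ⊓ centralizer (C : Set G) ≤ C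

/-- A chosen critical subgroup of `O_2(C(t))`. -/
noncomputable def critT (t : G) : Subgroup G := Classical.epsilon (IsCritTwo (coreT t))

/-- The elements of the critical subgroup squaring into `⟨t⟩`. -/
noncomputable def sq (t : G) : Subgroup G :=
  Subgroup.closure {x : G | x ∈ critT t ∧ x * x ∈ zpowers t}

/-- An element of an elementary abelian 2-group of order at least eight. -/
def InEight (t : G) : Prop := ∃ V : Subgroup G, IsElementaryAbelian 2 V ∧ 8 ≤ Nat.card V ∧ t ∈ V

/-- An element of an elementary abelian `p`-group of order at least `p³`. -/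
def InCube (p : ℕ) (d : G) : Prop :=
  ∃ E : Subgroup G, IsElementaryAbelian p E ∧ p ^ 3 ≤ Nat.card E ∧ d ∈ E

/-- The hypotheses: both local characteristics at the elements of rank three, and a maximal rank
`m ≥ 3` in centralizers of involutions of rank three. -/
structure Hyp (G : Type*) [Group G] (p m : ℕ) : Prop where
  odd : p ≠ 2
  three : 3 ≤ m
  charTwo : ∀ t : G, orderOf t = 2 → InEight t → IsCharP 2 (centralizer ({t} : Set G))
  charP : ∀ d : G, orderOf d = p → InCube p d → IsCharP p (centralizer ({d} : Set G))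
  bound : ∀ t : G, orderOf t = 2 → InEight t → ∀ E : Subgroup G, IsElementaryAbelian p E →
    E ≤ centralizer ({t} : Set G) → Nat.card E ≤ p ^ m

/-- An involution with an elementary abelian subgroup of maximal rank in its centralizer. -/
structure Cfg (p m : ℕ) (t : G) (E : Subgroup G) : Prop where
  two : orderOf t = 2
  eight : InEight t
  elem : IsElementaryAbelian p E
  card : Nat.card E = p ^ m
  le : E ≤ centralizer ({t} : Set G)

variable [Finite G] {p : ℕ} [hp : Fact p.Prime]

theorem coreT_isPGroup (t : G) : IsPGroup 2 (coreT t) := pCoreOf_isPGroup _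

theorem coreP_isPGroup (d : G) : IsPGroup p (coreP p d) := pCoreOf_isPGroup _

theorem coreT_le (t : G) : coreT t ≤ centralizer ({t} : Set G) := pCoreOf_le _

theorem coreP_le (d : G) : coreP p d ≤ centralizer ({d} : Set G) := pCoreOf_le _

theorem centralizer_le_normalizer_coreT (t : G) :
    centralizer ({t} : Set G) ≤ normalizer (coreT t : Set G) := le_normalizer_pCoreOf _

theorem centralizer_le_normalizer_coreP (d : G) :
    centralizer ({d} : Set G) ≤ normalizer (coreP p d : Set G) := le_normalizer_pCoreOf _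

theorem self_mem_coreT {t : G} (ht : orderOf t = 2) : t ∈ coreT t := by
  refine le_pCoreOf (p := 2) (L := centralizer ({t} : Set G))
    (zpowers_le.2 (mem_centralizer_singleton_of (Commute.refl t))) ?_
    (isPGroup_two_zpowers_of_orderOf ht) (mem_zpowers t)
  rw [centralizer_singleton_eq_normalizer ht]

theorem self_mem_coreP {d : G} (hd : orderOf d = p) : d ∈ coreP p d := by
  refine le_pCoreOf (p := p) (L := centralizer ({d} : Set G))
    (zpowers_le.2 (mem_centralizer_singleton_of (Commute.refl d))) ?_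
    (IsPGroup.of_card (n := 1) (by rw [Nat.card_zpowers, hd, pow_one])) (mem_zpowers d)
  intro g hg
  refine centralizer_le_normalizer _ ?_
  rw [zpowers_eq_closure, centralizer_closure]
  exact hg

theorem exists_isCritExp (hp2 : p ≠ 2) {N : Subgroup G} (hN : IsPGroup p N) :
    ∃ Q, IsCritExp p N Q := by
  obtain ⟨Q, hQc, hQe, hQcl, hQf⟩ := OddOrder.BG4.exists_critical_exponent hp2 hN
  haveI := hQc
  refine ⟨Q.map N.subtype, map_subtype_le _, ?_, ?_,
    CfsgLib.Components.normalizer_le_normalizer_map_subtype N Q, ?_⟩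
  · rintro _ ⟨x, hx, rfl⟩
    rw [← map_pow, hQe x hx, map_one]
  · rintro _ ⟨x, hx, rfl⟩ _ ⟨y, hy, rfl⟩ _ ⟨z, hz, rfl⟩
    rw [← map_commutatorElement]
    exact (hQcl x hx y hy z hz).map N.subtype
  · intro x hx hxo hxc
    have hd : orderOf (normalizerMonoidHom N ⟨x, hx⟩) ∣ orderOf x :=
      (orderOf_map_dvd _ _).trans (by rw [Subgroup.orderOf_mk])
    have ha := hQf (normalizerMonoidHom N ⟨x, hx⟩) (hxo.coprime_dvd_left hd) fun y hy =>
      Subtype.ext (conj_eq_of_commute (mem_centralizer_iff.1 hxc _ (mem_map_of_mem N.subtype hy)).symm)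
    refine mem_centralizer_iff.2 fun y hy => ?_
    have := congrArg Subtype.val (DFunLike.congr_fun ha ⟨y, hy⟩)
    exact (commute_of_conj_eq this).symm.eq

theorem crit_spec (hp2 : p ≠ 2) {N : Subgroup G} (hN : IsPGroup p N) :
    IsCritExp p N (crit p N) := Classical.epsilon_spec (exists_isCritExp hp2 hN)

/-- A 2-group has a critical subgroup. -/
theorem exists_isCritTwo {R : Subgroup G} (hR : IsPGroup 2 R) : ∃ C, IsCritTwo R C := by
  haveI : Fact (Nat.Prime 2) := ⟨Nat.prime_two⟩
  obtain ⟨H, hHc, hfr, hcm, hcc⟩ := Transfer.exists_critical hR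
  haveI := hHc
  refine ⟨H.map R.subtype, map_subtype_le _,
    CfsgLib.Components.normalizer_le_normalizer_map_subtype _ H, ?_, ?_, ?_⟩
  · rintro _ ⟨x, hx, rfl⟩ r hr
    have h1 := hcm (commutator_mem_commutator hx (mem_top (⟨r, hr⟩ : R)))
    refine ⟨⟨_, h1.1, rfl⟩, mem_centralizer_iff.2 ?_⟩
    rintro _ ⟨y, hy, rfl⟩
    exact congrArg Subtype.val (mem_centralizer_iff.1 h1.2 y hy)
  · rintro _ ⟨x, hx, rfl⟩
    refine mem_centralizer_iff.2 ?_
    rintro _ ⟨y, hy, rfl⟩
    have h2 : (⟨x, hx⟩ : H) * ⟨x, hx⟩ ∈ frattini H := by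
      have hHp : IsPGroup 2 H := hR.to_subgroup H
      haveI : Fact (Nat.Prime 2) := ⟨Nat.prime_two⟩
      rw [← pow_two]; exact CfsgLib.Solvable.pow_mem_frattini hHp _
    exact congrArg Subtype.val (mem_centralizer_iff.1 (hfr ⟨_, h2, rfl⟩) y hy)
  · rintro x ⟨hxR, hxc⟩
    exact ⟨⟨x, hxR⟩, hcc (mem_centralizer_iff.2 fun y hy =>
      Subtype.ext (mem_centralizer_iff.1 hxc _ (mem_map_of_mem _ hy))), rfl⟩

theorem isCritTwo_critT (t : G) : IsCritTwo (coreT t) (critT t) :=
  Classical.epsilon_spec (exists_isCritTwo (coreT_isPGroup t))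

/-- The 2-core of `C(t)` and the `p`-core of `C(d)` commute where they normalize one another. -/
theorem commute_cores (hp2 : p ≠ 2) {t d x y : G} (hx : x ∈ coreT t) (hy : y ∈ coreP p d)
    (hxd : Commute x d) (hyt : Commute y t) : Commute x y := by
  rw [← commutatorElement_eq_one_iff_commute]
  have h1 : ⁅x, y⁆ ∈ coreT t := by
    have := conj_mem_of_mem_normalizer
      (centralizer_le_normalizer_coreT t (mem_centralizer_singleton_of hyt)) (inv_mem hx)
    rw [commutatorElement_def, mul_assoc x y, mul_assoc x]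
    exact mul_mem hx this
  have h2 : ⁅x, y⁆ ∈ coreP p d := by
    rw [commutatorElement_def]
    exact mul_mem (conj_mem_of_mem_normalizer
      (centralizer_le_normalizer_coreP d (mem_centralizer_singleton_of hxd)) hy) (inv_mem hy)
  have := IsPGroup.disjoint_of_ne 2 p (Ne.symm hp2) _ _ (coreT_isPGroup t) (coreP_isPGroup (p := p) d)
  exact disjoint_def.1 this h1 h2

/-- A 2-element and a `p`-element have coprime orders. -/
theorem coprime_orderOf_of_coreT (hp2 : p ≠ 2) {t x : G} (hx : x ∈ coreT t) :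
    (orderOf x).Coprime p := by
  obtain ⟨k, hk⟩ := IsPGroup.iff_orderOf.1 (coreT_isPGroup t) ⟨x, hx⟩
  rw [Subgroup.orderOf_mk] at hk
  rw [hk]
  exact Nat.Coprime.pow_left k ((Nat.coprime_primes Nat.prime_two hp.out).2 (Ne.symm hp2))

theorem coprime_two_of_pow {x : G} (hp2 : p ≠ 2) {k : ℕ} (hx : x ^ p ^ k = 1) :
    (orderOf x).Coprime 2 :=
  (Nat.Coprime.pow_left k ((Nat.coprime_primes hp.out Nat.prime_two).2 hp2)).coprime_dvd_left
    (orderOf_dvd_of_pow_eq_one hx)

theorem odd_orderOf_of_pow {x : G} (hp2 : p ≠ 2) {k : ℕ} (hx : x ^ p ^ k = 1) :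
    Odd (orderOf x) := by
  rw [← Nat.coprime_two_left]; exact (coprime_two_of_pow hp2 hx).symm

namespace Hyp

variable {m : ℕ} (h : Hyp G p m)
include h

theorem eq_one_of_centralizes_coreT {t x : G} (ht : orderOf t = 2) (ht8 : InEight t) (hxt : Commute x t)
    (hx : x ∈ centralizer (coreT t : Set G)) {k : ℕ} (hxp : x ^ p ^ k = 1) : x = 1 :=
  (h.charTwo t ht ht8).eq_one (mem_centralizer_singleton_of hxt) hx (coprime_two_of_pow h.odd hxp)

/-- A `p'`-element centralizing `F` and `O_p(C(d)) ∩ C(F)` is trivial. -/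
theorem faithful {d : G} (hd : orderOf d = p) (hdc : InCube p d) {F : Subgroup G} (hF : IsElementaryAbelian p F)
    (hdF : d ∈ F) {x : G} (hxo : (orderOf x).Coprime p) (hxF : x ∈ centralizer (F : Set G))
    (hxZ : x ∈ centralizer (zc p F d : Set G)) : x = 1 := by
  have hxd : x ∈ centralizer ({d} : Set G) :=
    mem_centralizer_singleton_of (mem_centralizer_iff.1 hxF d hdF).symm
  have hxN : x ∈ normalizer ((coreP p d ⊓ centralizer (F : Set G) : Subgroup G) : Set G) :=
    normalizer_inf_le (centralizer_le_normalizer_coreP d hxd) (le_normalizer hxF)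
  have hxC : x ∈ centralizer ((coreP p d ⊓ centralizer (F : Set G) : Subgroup G) : Set G) :=
    (crit_spec h.odd ((coreP_isPGroup d).to_le inf_le_left)).2.2.2.2 x hxN hxo hxZ
  have hFd : F ≤ centralizer ({d} : Set G) := fun f hf => by
    haveI := hF.1
    exact mem_centralizer_singleton_of (setLike_mul_comm (s := F) hf hdF)
  refine (h.charP d hd hdc).eq_one hxd (commute_of_axb (coreP_isPGroup d) (Signalizer.isPGroup_of_elab hF)
    hxo (centralizer_le_normalizer_coreP d hxd) hxF
    (hFd.trans (centralizer_le_normalizer_coreP d)) fun u hu hu' =>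
      mem_centralizer_iff.1 hxC u ⟨hu, hu'⟩) hxo

theorem zc_le (F : Subgroup G) (d : G) : zc p F d ≤ coreP p d ⊓ centralizer (F : Set G) :=
  (crit_spec h.odd ((coreP_isPGroup d).to_le inf_le_left)).1

theorem zc_pow (F : Subgroup G) (d : G) {x : G} (hx : x ∈ zc p F d) : x ^ p = 1 :=
  (crit_spec h.odd ((coreP_isPGroup d).to_le inf_le_left)).2.1 x hx

theorem zc_class (F : Subgroup G) (d : G) {x y z : G} (hx : x ∈ zc p F d) (hy : y ∈ zc p F d)
    (hz : z ∈ zc p F d) : Commute ⁅x, y⁆ z :=
  (crit_spec h.odd ((coreP_isPGroup d).to_le inf_le_left)).2.2.1 x hx y hy z hz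

theorem zc_isPGroup (F : Subgroup G) (d : G) : IsPGroup p (zc p F d) :=
  ((coreP_isPGroup d).to_le inf_le_left).to_le (h.zc_le F d)

theorem mem_normalizer_zc {F : Subgroup G} {d g : G}
    (hd : g ∈ normalizer (coreP p d : Set G)) (hF : g ∈ normalizer (F : Set G)) :
    g ∈ normalizer (zc p F d : Set G) :=
  (crit_spec h.odd ((coreP_isPGroup d).to_le inf_le_left)).2.2.2.1
    (normalizer_inf_le hd (mem_normalizer_centralizer hF))

theorem centralizer_le_normalizer_zc {F : Subgroup G} {d : G} (hdF : d ∈ F) :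
    centralizer (F : Set G) ≤ normalizer (zc p F d : Set G) := fun _ hg =>
  h.mem_normalizer_zc
    (centralizer_le_normalizer_coreP d (mem_centralizer_singleton_of (mem_centralizer_iff.1 hg d hdF).symm))
    (centralizer_le_normalizer _ hg)

theorem not_centralizes_zc {d : G} (hd : orderOf d = p) (hdc : InCube p d) {F : Subgroup G}
    (hF : IsElementaryAbelian p F) (hdF : d ∈ F) {t : G} (ht : orderOf t = 2)
    (htF : t ∈ centralizer (F : Set G)) : t ∉ centralizer (zc p F d : Set G) := fun hc => by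
  have := h.faithful hd hdc hF hdF (by rw [ht]; exact coprime_two h.odd) htF hc
  rw [this, orderOf_one] at ht
  exact absurd ht (by norm_num)

/-- The rank bound, one element at a time. -/
theorem mem_of_bound {a : G} (ha : orderOf a = 2) (ha8 : InEight a) {F : Subgroup G} (hF : IsElementaryAbelian p F)
    (hcard : p ^ m ≤ Nat.card F) (hFa : F ≤ centralizer ({a} : Set G)) {y : G} (hyp : y ^ p = 1)
    (hyF : y ∈ centralizer (F : Set G)) (hya : Commute y a) : y ∈ F := by
  by_contra hy
  have h1 := h.bound a ha ha8 (F ⊔ zpowers y) (OddOrder.BG11.elem_sup_zpowers hF hyp hyF)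
    (sup_le hFa (zpowers_le.2 (mem_centralizer_singleton_of hya)))
  rw [card_elem_sup hyp hyF hy] at h1
  have h2 : p * p ^ m ≤ p ^ m := (Nat.mul_le_mul_left p hcard).trans h1
  have h3 : 2 * p ^ m ≤ p * p ^ m := Nat.mul_le_mul_right _ hp.out.two_le
  have h4 : 0 < p ^ m := pow_pos hp.out.pos m
  omega

/-- A `p`-element centralizing all `O_p(C(d))`-compatible parts of `O_2(C(a))` over a noncyclic
group is trivial. -/
theorem eq_one_of_mem_all_cores {a : G} (ha : orderOf a = 2) (ha8 : InEight a) {A : Subgroup G}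
    (hA : IsElementaryAbelian p A) (hA2 : ¬ IsCyclic A) (hAa : A ≤ centralizer ({a} : Set G))
    {y : G} (hya : Commute y a) (hyp : y ^ p = 1)
    (hy : ∀ d ∈ A, d ≠ 1 → y ∈ coreP p d) : y = 1 := by
  haveI := hA.1
  refine h.eq_one_of_centralizes_coreT ha ha8 hya ?_ (k := 1) (by rwa [pow_one])
  have hle : coreT a ≤ centralizer ({y} : Set G) := by
    refine Coprime.le_of_forall_inf_centralizer_le hA2 (hAa.trans (centralizer_le_normalizer_coreT a))
      ?_ fun d hd hd1 => fun w hw =>
        mem_centralizer_singleton_of (commute_cores h.odd hw.1 (hy d hd hd1)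
          (commute_of_mem_centralizer_singleton hw.2) hya)
    obtain ⟨k, hk⟩ := IsPGroup.iff_card.1 (Signalizer.isPGroup_of_elab hA : IsPGroup p A)
    obtain ⟨l, hl⟩ := IsPGroup.iff_card.1 (coreT_isPGroup a)
    rw [hk, hl]
    exact Nat.Coprime.pow k l ((Nat.coprime_primes hp.out Nat.prime_two).2 h.odd)
  exact mem_centralizer_iff.2 fun w hw => (commute_of_mem_centralizer_singleton (hle hw)).eq

end Hyp

end CfsgLib.LocalEven48.KlingerMason
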