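import Cfsg.Agent.LocalEven48.KlingerMason.Three

/-!
Klinger–Mason, rank three: the group `zc b` is central in `O_p(C(b))`.
-/

set_option autoImplicit false
set_option linter.unusedSectionVars false

namespace CfsgLib.LocalEven48.KlingerMason

open Subgroup Cfsg CfsgLib.CharPLocal CfsgLib.LocalStructure
open scoped commutatorElement

variable {G : Type*} [Group G] [Finite G] {p : ℕ} [hp : Fact p.Prime] {m : ℕ} {t : G}
  {E B₁ B₂ : Subgroup G} {x₁ z₁ x₂ z₂ b : G}

namespace Cfg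

variable (h : Hyp G p m) (C : Cfg p m t E) (F : Frame p t E B₁ B₂ x₁ z₁ x₂ z₂) (hm : m = 3)
  (hb : b ∈ B₁ ⊓ B₂) (hb1 : b ≠ 1)
include h C F hm hb hb1

/-- No active hyperplane of the configuration at `a` contains `b`. -/
theorem b_not_mem {y : G} (hy : y ∈ zc p (B₁ ⊓ B₂) b)
    (hg : Good p t (x₁ * x₂) (z₁ * z₂) (B₁ ⊓ B₂) y) {E' : Subgroup G}
    (C' : Cfg p m (x₁ * x₂) E')
    (hE' : E' = (B₁ ⊓ B₂) ⊔ zpowers y ⊔ zpowers (x₁ * y * x₁⁻¹))
    {B : Subgroup G} (hB : Active p (x₁ * x₂) E' B) : b ∉ B := by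
  obtain ⟨-, -, -, hy'a, -, -⟩ := C.good_conj h F hg
  have hy' : x₁ * y * x₁⁻¹ ∈ zc p (B₁ ⊓ B₂) b :=
    conj_mem_of_mem_normalizer (h.centralizer_le_normalizer_zc hb (C.x₁_centralizes h F)) hy
  intro hbB
  refine hB.2.2 fun e he => mem_centralizer_iff.2 fun x hx => ?_
  have hxb : Commute x b := (mem_centralizer_iff.1 hx.2 b hbB).symm
  have hxc : ∀ w, w ∈ coreP p b → Commute w (x₁ * x₂) → Commute x w := fun w hw hwa =>
    commute_cores h.odd (C'.sq_le h hx.1) hw hxb hwa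
  have hle : (B₁ ⊓ B₂) ⊔ zpowers y ⊔ zpowers (x₁ * y * x₁⁻¹) ≤ centralizer ({x} : Set G) := by
    refine sup_le (sup_le ?_ ?_) ?_
    · rw [C.A_eq h F hm hb hb1, zpowers_le]
      exact mem_centralizer_singleton_of hxb.symm
    · exact zpowers_le.2 (mem_centralizer_singleton_of
        (hxc y (h.zc_le _ b hy).1 hg.2.2.2.1).symm)
    · exact zpowers_le.2 (mem_centralizer_singleton_of (hxc _ (h.zc_le _ b hy').1 hy'a).symm)
  exact (commute_of_mem_centralizer_singleton (hle (hE' ▸ he))).symm.eq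

/-- `zc b` is generated by `A`, the fixed points of `a`, and their images under `z₁`. -/
theorem zc_le_of {W : Subgroup G} (hA : B₁ ⊓ B₂ ≤ W)
    (hW : ∀ u ∈ zc p (B₁ ⊓ B₂) b, Commute u (x₁ * x₂) → u ∈ W ∧ z₁ * u * z₁⁻¹ ∈ W) :
    zc p (B₁ ⊓ B₂) b ≤ W := by
  have hn := h.centralizer_le_normalizer_zc (p := p) hb
  refine le_of_four h.odd (h.zc_isPGroup _ b) (C.sq_t h) (C.a_sq h F)
    (C.commute_core h (C.sq_le h (C.a_mem h F))).symm (C.a_ne h F).2
    (C.a_ne h F).1 (C.ne_one h) (hn (C.t_mem_centralizer h (C.A_le h F)))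
    (hn (C.a_centralizes h F))
    (fun u hu => hA (C.fixed_mem h F hm hb hb1 hu.1 (commute_of_mem_centralizer_singleton hu.2)))
    (fun u hu => (hW u hu.1 (commute_of_mem_centralizer_singleton hu.2)).1)
    (fun u hu => ?_)
  have hu' : z₁⁻¹ * u * z₁ ∈ zc p (B₁ ⊓ B₂) b := by
    simpa using conj_mem_of_mem_normalizer (inv_mem (hn (C.z₁_centralizes h F))) hu.1
  have hua : Commute (z₁⁻¹ * u * z₁) (x₁ * x₂) := by
    have e : x₁ * x₂ = z₁⁻¹ * (t * (x₁ * x₂)) * z₁ := by rw [← C.z₁_conj_a h F]; group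
    have := (commute_of_mem_centralizer_singleton hu.2).map (MulAut.conj z₁⁻¹).toMonoidHom
    simp only [MulEquiv.toMonoidHom_eq_coe, MonoidHom.coe_coe, MulAut.conj_apply, inv_inv] at this
    rwa [← e] at this
  have := (hW _ hu' hua).2
  rwa [show z₁ * (z₁⁻¹ * u * z₁) * z₁⁻¹ = u by group] at this

/-- The fixed points of `t` in `O_p(C(b))` centralize `zc b`. -/
theorem coreP_fixed {w : G} (hw : w ∈ coreP p b) (hwt : Commute w t) :
    w ∈ centralizer (zc p (B₁ ⊓ B₂) b : Set G) := by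
  have hwb : Commute w b := commute_of_mem_centralizer_singleton (coreP_le b hw)
  have hwA := C.centralizes_A h F hm hb hb1 hwb
  have hwn := h.centralizer_le_normalizer_zc hb hwA
  have core : ∀ x ∈ sq t, Commute x b → Commute x w := fun x hx hxb =>
    commute_cores h.odd (C.sq_le h hx) hw hxb hwt
  have hbc : ∀ {x : G}, x ∈ centralizer ((B₁ ⊓ B₂ : Subgroup G) : Set G) → Commute x b :=
    fun hx => (mem_centralizer_iff.1 hx b hb).symm
  have hwx : Commute x₁ w := core _ F.x₁_mem.1 (hbc (C.x₁_centralizes h F))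
  have hwz : Commute z₁ w := core _ F.z₁_mem.1 (hbc (C.z₁_centralizes h F))
  have hwa : Commute (x₁ * x₂) w := core _ (C.a_mem h F) (hbc (C.a_centralizes h F))
  have hwj : Commute (z₁ * z₂) w := core _ (C.j_mem h F) (hbc (C.j_centralizes h F))
  obtain ⟨y, hy, hg, hc, hy'⟩ := C.good_mem h F hm hb hb1
  obtain ⟨hyp, hy1, hyi, hya, hyj, hyA⟩ := hg
  have hyg : Good p t (x₁ * x₂) (z₁ * z₂) (B₁ ⊓ B₂) (w * y * w⁻¹) := by
    refine ⟨by rw [conj_pow, hyp, mul_one, mul_inv_cancel], fun e => hy1 (conj_eq_one_iff.1 e), ?_,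
      (hwa.symm.mul_left hya).mul_left hwa.symm.inv_left,
      (hwj.symm.mul_left hyj).mul_left hwj.symm.inv_left,
      mul_mem (mul_mem hwA hyA) (inv_mem hwA)⟩
    calc t * (w * y * w⁻¹) * t⁻¹ = (t * w) * y * (t * w)⁻¹ := by group
      _ = (w * t) * y * (w * t)⁻¹ := by rw [hwt.eq]
      _ = w * (t * y * t⁻¹) * w⁻¹ := by group
      _ = (w * y * w⁻¹)⁻¹ := by rw [hyi, conj_inv]
  have hyz : w * y * w⁻¹ ∈ zc p (B₁ ⊓ B₂) b := conj_mem_of_mem_normalizer hwn hy
  have hline := C.good_line h F ⟨hyp, hy1, hyi, hya, hyj, hyA⟩ hc hyg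
    (C.zc_comm h F hm hb hb1 hy hyz) (C.zc_comm h F hm hb hb1 hy' hyz)
  have hord : orderOf y = p := orderOf_eq_prime hyp hy1
  obtain ⟨r, hr, hr1, hrp, hrw⟩ := exists_fixed_prime (p := p) (E := zpowers w) (N := zpowers y)
    ((coreP_isPGroup b).to_le (zpowers_le.2 hw))
    (IsPGroup.of_card (n := 1) (by rw [Nat.card_zpowers, hord, pow_one]))
    (zpowers_le.2 (mem_normalizer_of_conj fun v hv => by
      obtain ⟨k, rfl⟩ := mem_zpowers_iff.1 hv
      rw [← conj_zpow]
      exact zpow_mem hline k))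
    (fun e => hy1 (zpowers_eq_bot.1 e))
  have hwy : Commute w y := by
    have hrw' : Commute w r := mem_centralizer_iff.1 hrw w (mem_zpowers w)
    have heq : zpowers r = zpowers y := Subgroup.eq_of_le_of_card_ge (zpowers_le.2 hr)
      (by rw [Nat.card_zpowers, Nat.card_zpowers, hord, orderOf_eq_prime hrp hr1])
    obtain ⟨k, hk⟩ := mem_zpowers_iff.1 (heq.ge (mem_zpowers y))
    exact hk ▸ hrw'.zpow_right k
  have hwy' : Commute w (x₁ * y * x₁⁻¹) :=
    (hwx.symm.mul_right hwy).mul_right hwx.symm.inv_right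
  have hE : (B₁ ⊓ B₂) ⊔ zpowers y ⊔ zpowers (x₁ * y * x₁⁻¹) ≤ centralizer ({w} : Set G) :=
    sup_le (sup_le (fun v hv => mem_centralizer_singleton_of
      (mem_centralizer_iff.1 hwA v hv)) (zpowers_le.2 (mem_centralizer_singleton_of hwy.symm)))
      (zpowers_le.2 (mem_centralizer_singleton_of hwy'.symm))
  refine mem_centralizer_iff.2 fun v hv => (commute_of_mem_centralizer_singleton
    (C.zc_le_of h F hm hb hb1 (W := centralizer ({w} : Set G))
      (le_sup_left.trans (le_sup_left.trans hE)) (fun u hu hua => ?_) hv)).eq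
  have huw := hE (C.fixed_a_mem h F hm hb hb1 hy ⟨hyp, hy1, hyi, hya, hyj, hyA⟩ hu hua)
  refine ⟨huw, mem_centralizer_singleton_of ?_⟩
  exact (hwz.mul_left (commute_of_mem_centralizer_singleton huw)).mul_left hwz.inv_left

/-- `O_p(C(b))` acts trivially on `zc b` modulo `A`. -/
theorem coreP_le_stab : coreP p b ≤ stab (B₁ ⊓ B₂) (zc p (B₁ ⊓ B₂) b) := by
  intro w hw
  have htb : t ∈ centralizer ({b} : Set G) := mem_centralizer_singleton_of
    (commute_of_mem_centralizer_singleton (C.le (C.A_le h F hb))).symm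
  obtain ⟨f, i, hf, hi, htf, hti, rfl, -⟩ := exists_fixed_mul_inverted h.odd (coreP_isPGroup b)
    (C.sq_t h) (centralizer_le_normalizer_coreP b htb) hw
  refine mul_mem ⟨C.centralizes_A h F hm hb hb1
    (commute_of_mem_centralizer_singleton (coreP_le b hf)), fun u hu => ?_⟩ ?_
  · rw [commutatorElement_eq_one_iff_commute.2 (show Commute f u from
      (mem_centralizer_iff.1 (C.coreP_fixed h F hm hb hb1 hf htf.symm) u hu).symm)]
    exact one_mem _
  · obtain ⟨k, hk⟩ := coreP_isPGroup (p := p) b ⟨i, hi⟩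
    exact C.mem_stab_of_inverted h F hm hb hb1
      (commute_of_mem_centralizer_singleton (coreP_le b hi)) (congrArg Subtype.val hk) hti

/-- An element of `O_p(C(b)) ∩ C(a)` centralizes the configuration group at `a`. -/
theorem centralizes_dual {w : G} (hw : w ∈ coreP p b) (hwa : Commute w (x₁ * x₂)) {y : G}
    (hy : y ∈ zc p (B₁ ⊓ B₂) b) (hg : Good p t (x₁ * x₂) (z₁ * z₂) (B₁ ⊓ B₂) y) :
    (B₁ ⊓ B₂) ⊔ zpowers y ⊔ zpowers (x₁ * y * x₁⁻¹) ≤ centralizer ({w} : Set G) := by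
  obtain ⟨hEel, hEcard, hEa⟩ := C.good_elem h F hg (C.good_commute h F hb hy hg)
  have hy' : x₁ * y * x₁⁻¹ ∈ zc p (B₁ ⊓ B₂) b :=
    conj_mem_of_mem_normalizer (h.centralizer_le_normalizer_zc hb (C.x₁_centralizes h F)) hy
  set A := B₁ ⊓ B₂ with hA
  set E' := A ⊔ zpowers y ⊔ zpowers (x₁ * y * x₁⁻¹) with hE'
  have C' : Cfg p m (x₁ * x₂) E' :=
    ⟨orderOf_two_of (C.a_sq h F) (C.a_ne h F).1, C.eight_a h F, hEel, hEcard, hEa⟩
  have hst := C.coreP_le_stab h F hm hb hb1 hw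
  have hAE : A ≤ E' := le_sup_left.trans le_sup_left
  have hbE' : b ∈ E' := hAE hb
  have hcomm : ∀ v ∈ E', ⁅w, v⁆ ∈ A := by
    intro v hv
    obtain ⟨u, hu, l, rfl⟩ := mem_sup_zpowers (x := x₁ * y * x₁⁻¹) (mem_centralizer_iff.2 fun v hv => by
      obtain ⟨x, hx, k, rfl⟩ := mem_sup_zpowers hg.2.2.2.2.2 hv
      exact ((show Commute x _ from mem_centralizer_iff.1 (h.zc_le A b hy').2 x hx).mul_left
        ((C.zc_comm h F hm hb hb1 hy hy').zpow_left k)).eq) hv
    obtain ⟨α, hα, k, rfl⟩ := mem_sup_zpowers hg.2.2.2.2.2 hu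
    have hwα : Commute w α := (mem_centralizer_iff.1 hst.1 α hα).symm
    have e : ⁅w, α * y ^ k * (x₁ * y * x₁⁻¹) ^ l⁆ =
        ⁅w, α⁆ * (α * ⁅w, y ^ k * (x₁ * y * x₁⁻¹) ^ l⁆ * α⁻¹) := by
      simp only [commutatorElement_def]; group
    rw [e, commutatorElement_eq_one_iff_commute.2 hwα, one_mul]
    exact mul_mem (mul_mem hα (hst.2 _ (mul_mem (zpow_mem hy k) (zpow_mem hy' l)))) (inv_mem hα)
  have hwn : w ∈ normalizer (E' : Set G) := mem_normalizer_of_conj fun v hv => by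
    have := mul_mem (hAE (hcomm v hv)) hv
    rwa [commutatorElement_def, inv_mul_cancel_right] at this
  have hnot : ∀ B, Active p (x₁ * x₂) E' B → b ∉ B := fun B hB =>
    C.b_not_mem h F hm hb hb1 hy hg C' rfl hB
  have htriv : ∀ B, Active p (x₁ * x₂) E' B → ∀ c ∈ A, c ∈ B → c = 1 := fun B hB c hc hcB =>
    by_contra fun hc1 => hnot B hB (C.A_le_of_mem h F hm hb hb1 hc hc1 hcB hb)
  have hstable : ∀ g : G, (∀ v ∈ E', ⁅g, v⁆ ∈ A) → ∀ B, Active p (x₁ * x₂) E' B →
      B.map (MulAut.conj g).toMonoidHom ≤ B → Commute g b → E' ≤ centralizer ({g} : Set G) := by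
    intro g hgA B hB hle hgb
    have hgB : ∀ v ∈ B, Commute g v := fun v hv =>
      commutatorElement_eq_one_iff_commute.1 (htriv B hB _ (hgA v (hB.1 hv)) (by
        rw [commutatorElement_def]; exact mul_mem (hle ⟨v, hv, rfl⟩) (inv_mem hv)))
    intro v hv
    obtain ⟨k, hk⟩ := C'.exists_adjust h hB hbE' (hnot B hB) hv
    refine mem_centralizer_singleton_of (Commute.symm ?_)
    have := (hgB _ hk).mul_right (hgb.zpow_right k).inv_right
    rwa [mul_inv_cancel_right] at this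
  by_contra hne
  have hwb : Commute w b := (mem_centralizer_iff.1 hst.1 b hb).symm
  obtain ⟨B, hB, -⟩ := C'.exists_active_not_mem h
    (mem_sup_left (mem_sup_right (mem_zpowers y)) : y ∈ E') hg.2.1
  have hB' := C.active_conj h F hm hb hb1 C' hB hwa hwn
  set B' := B.map (MulAut.conj w).toMonoidHom with hB'def
  have hB'' := C.active_conj h F hm hb hb1 C' hB' hwa hwn
  set B'' := B'.map (MulAut.conj w).toMonoidHom with hB''def
  have hne1 : B ≠ B' := fun e => hne (hstable w hcomm B hB e.ge hwb)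
  have hne2 : B'' ≠ B' := fun e => hne1 (map_injective (MulAut.conj w).injective e).symm
  have hne3 : B'' ≠ B := fun e => by
    have hww : ∀ v ∈ E', ⁅w * w, v⁆ ∈ A := fun v hv => by
      have e' : ⁅w * w, v⁆ = w * ⁅w, v⁆ * w⁻¹ * ⁅w, v⁆ := by
        simp only [commutatorElement_def]; group
      rw [e', conj_eq_of_commute (show Commute w ⁅w, v⁆ from
        (mem_centralizer_iff.1 hst.1 _ (hcomm v hv)).symm)]
      exact mul_mem (hcomm v hv) (hcomm v hv)
    have hmap : B.map (MulAut.conj (w * w)).toMonoidHom ≤ B := by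
      rintro _ ⟨v, hv, rfl⟩
      refine e.le ⟨w * v * w⁻¹, ⟨v, hv, rfl⟩, ?_⟩
      simp [mul_assoc]
    have h2 := hstable (w * w) hww B hB hmap (hwb.mul_left hwb)
    obtain ⟨k, hk⟩ := coreP_isPGroup (p := p) b ⟨w, hw⟩
    obtain ⟨r, hr⟩ := exists_pow_eq_self_of_coprime (n := 2) (x := w)
      (coprime_two_of_pow h.odd (congrArg Subtype.val hk)).symm
    refine hne fun v hv => mem_centralizer_singleton_of ?_
    rw [← hr, pow_two]
    exact (commute_of_mem_centralizer_singleton (h2 hv)).pow_right r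
  -- a common point
  have hcard : Nat.card ↥(B ⊓ B') = p := by
    have h1 := C'.card_inf_active h hB hB' hne1
    have h2 := C'.active_card h hB
    rw [← h1, hm, show p ^ 3 = p * (p * p) by ring] at h2
    exact Nat.eq_of_mul_eq_mul_left hp.out.pos (Nat.eq_of_mul_eq_mul_left hp.out.pos h2)
  haveI : Nontrivial ↥(B ⊓ B') := by
    rw [← Finite.one_lt_card_iff_nontrivial, hcard]; exact hp.out.one_lt
  obtain ⟨⟨q, hq⟩, hq1⟩ := exists_ne (1 : ↥(B ⊓ B'))
  obtain ⟨r, hr, hrq⟩ := hq.2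
  simp only [MulEquiv.toMonoidHom_eq_coe, MonoidHom.coe_coe, MulAut.conj_apply] at hrq
  have hcwr : ⁅w, r⁆ = 1 := htriv B hB _ (hcomm r (hB.1 hr)) (by
    rw [commutatorElement_def, hrq]; exact mul_mem hq.1 (inv_mem hr))
  have hrq' : r = q := by
    rw [← hrq]; exact (conj_eq_of_commute (commutatorElement_eq_one_iff_commute.1 hcwr)).symm
  have hq3 : q ∈ B'' := ⟨q, hq.2, by
    simp only [MulEquiv.toMonoidHom_eq_coe, MonoidHom.coe_coe, MulAut.conj_apply]
    rw [← hrq']; exact conj_eq_of_commute (commutatorElement_eq_one_iff_commute.1 hcwr)⟩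
  obtain ⟨u₁, v₁, u₂, v₂, F'⟩ := C'.exists_frame h hB hB' hne1
  exact C'.no_third h F' hm hq (fun e => hq1 (Subtype.ext e)) (C'.eq_three h hB) hB'' hq3 hne3 hne2

/-- `zc b` is central in `O_p(C(b))`. -/
theorem zc_central : coreP p b ≤ centralizer (zc p (B₁ ⊓ B₂) b : Set G) := by
  have hat : Commute (x₁ * x₂) t := C.commute_core h (C.sq_le h (C.a_mem h F))
  have htb : t ∈ centralizer ({b} : Set G) := mem_centralizer_singleton_of
    (commute_of_mem_centralizer_singleton (C.le (C.A_le h F hb))).symm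
  have hab : x₁ * x₂ ∈ centralizer ({b} : Set G) := mem_centralizer_singleton_of
    (mem_centralizer_iff.1 (C.a_centralizes h F) b hb).symm
  obtain ⟨y, hy, hg, -, -⟩ := C.good_mem h F hm hb hb1
  have hfix : ∀ w ∈ coreP p b, Commute w (x₁ * x₂) →
      w ∈ centralizer (zc p (B₁ ⊓ B₂) b : Set G) := by
    intro w hw hwa
    obtain ⟨f, i, hf, hi, htf, hti, rfl, hsp⟩ := exists_fixed_mul_inverted h.odd
      (coreP_isPGroup b) (C.sq_t h) (centralizer_le_normalizer_coreP b htb) hw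
    obtain ⟨-, hai⟩ := hsp (x₁ * x₂) hat hwa.symm
    refine mul_mem (C.coreP_fixed h F hm hb hb1 hf htf.symm) ?_
    have hst := C.coreP_le_stab h F hm hb hb1 hi
    have hAi : B₁ ⊓ B₂ ≤ centralizer ({i} : Set G) := fun v hv =>
      mem_centralizer_singleton_of (mem_centralizer_iff.1 hst.1 v hv)
    refine mem_centralizer_iff.2 fun v hv => (commute_of_mem_centralizer_singleton
      (C.zc_le_of h F hm hb hb1 (W := centralizer ({i} : Set G)) hAi (fun u hu hua => ?_) hv)).eq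
    refine ⟨C.centralizes_dual h F hm hb hb1 hi hai.symm hy hg
      (C.fixed_a_mem h F hm hb hb1 hy hg hu hua), mem_centralizer_singleton_of ?_⟩
    have hz : z₁ * u * z₁⁻¹ ∈ zc p (B₁ ⊓ B₂) b := conj_mem_of_mem_normalizer
      (h.centralizer_le_normalizer_zc hb (C.z₁_centralizes h F)) hu
    have hzta : Commute (z₁ * u * z₁⁻¹) (t * (x₁ * x₂)) := by
      have := hua.map (MulAut.conj z₁).toMonoidHom
      simp only [MulEquiv.toMonoidHom_eq_coe, MonoidHom.coe_coe, MulAut.conj_apply] at this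
      rwa [C.z₁_conj_a h F] at this
    obtain ⟨g, v', hg', hv', htv', he, hsp'⟩ := C.zc_split h F hm hb hb1 hz
    obtain ⟨-, htav⟩ := hsp' (t * (x₁ * x₂)) ((Commute.refl t).mul_left hat) hzta.symm
    rw [he]
    refine (commute_of_mem_centralizer_singleton (hAi hg')).mul_left (Commute.symm ?_)
    rw [← commutatorElement_eq_one_iff_commute]
    set c := ⁅i, v'⁆ with hc
    have hcA : c ∈ B₁ ⊓ B₂ := hst.2 v' hv'
    have hav : x₁ * x₂ * v' * (x₁ * x₂)⁻¹ = v'⁻¹ := by
      have : t * (t * (x₁ * x₂) * v' * (t * (x₁ * x₂))⁻¹) * t⁻¹ =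
          x₁ * x₂ * v' * (x₁ * x₂)⁻¹ := by
        rw [show t * (t * (x₁ * x₂) * v' * (t * (x₁ * x₂))⁻¹) * t⁻¹ =
          (t * t) * (x₁ * x₂ * v' * (x₁ * x₂)⁻¹) * (t * t)⁻¹ by group, C.sq_t h, one_mul, inv_one,
          mul_one]
      rw [← this, conj_eq_of_commute htav, htv']
    have h1 : x₁ * x₂ * c * (x₁ * x₂)⁻¹ = c⁻¹ := by
      rw [hc, conj_commutator, conj_eq_of_commute hai, hav]
      exact (commutator_inv_inv (commute_of_mem_centralizer_singleton (hAi hcA))
        (show Commute c v' from mem_centralizer_iff.1 (h.zc_le _ b hv').2 c hcA)).2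
    rw [conj_eq_of_commute (show Commute (x₁ * x₂) c from
      (mem_centralizer_iff.1 (C.a_centralizes h F) c hcA).symm), eq_comm] at h1
    exact eq_one_of_inv_eq' hp.out h.odd (C.elem.2 c (C.A_le h F hcA)) h1
  have hzn := h.centralizer_le_normalizer_zc (p := p) hb (C.z₁_centralizes h F)
  refine le_of_four h.odd (coreP_isPGroup b) (C.sq_t h) (C.a_sq h F) hat.symm (C.a_ne h F).2
    (C.a_ne h F).1 (C.ne_one h) (centralizer_le_normalizer_coreP b htb)
    (centralizer_le_normalizer_coreP b hab)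
    (fun w hw => C.coreP_fixed h F hm hb hb1 hw.1 (commute_of_mem_centralizer_singleton hw.2))
    (fun w hw => hfix w hw.1 (commute_of_mem_centralizer_singleton hw.2)) (fun w hw => ?_)
  have hw' : z₁⁻¹ * w * z₁ ∈ coreP p b := by
    simpa using conj_mem_of_mem_normalizer (inv_mem (centralizer_le_normalizer_coreP b
      (mem_centralizer_singleton_of
        (mem_centralizer_iff.1 (C.z₁_centralizes h F) b hb).symm))) hw.1
  have hwa : Commute (z₁⁻¹ * w * z₁) (x₁ * x₂) := by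
    have e : x₁ * x₂ = z₁⁻¹ * (t * (x₁ * x₂)) * z₁ := by rw [← C.z₁_conj_a h F]; group
    have := (commute_of_mem_centralizer_singleton hw.2).map (MulAut.conj z₁⁻¹).toMonoidHom
    simp only [MulEquiv.toMonoidHom_eq_coe, MonoidHom.coe_coe, MulAut.conj_apply, inv_inv] at this
    rwa [← e] at this
  have := conj_mem_of_mem_normalizer (mem_normalizer_centralizer hzn) (hfix _ hw' hwa)
  rwa [show z₁ * (z₁⁻¹ * w * z₁) * z₁⁻¹ = w by group] at this

end Cfg

end CfsgLib.LocalEven48.KlingerMason
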