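import Cfsg.Agent.LocalEven48.KlingerMason.Eight

/-!
Klinger–Mason: the structure of `O_2(C(t))` relative to a maximal `E ≤ C(t)`: `E` fixes no other
involution, invariant abelian subgroups are fixed, and the group `sq t`.
-/

set_option autoImplicit false
set_option linter.unusedSectionVars false

namespace CfsgLib.LocalEven48.KlingerMason

open Subgroup Cfsg CfsgLib.CharPLocal CfsgLib.LocalStructure
open scoped commutatorElement

variable {G : Type*} [Group G] [Finite G] {p : ℕ} [hp : Fact p.Prime] {m : ℕ} {t : G}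
  {E : Subgroup G}

/-- A hyperplane of `E` on whose fixed part of `sq t` the group `E` acts nontrivially. -/
def Active (p : ℕ) (t : G) (E B : Subgroup G) : Prop :=
  B ≤ E ∧ p * Nat.card B = Nat.card E ∧
    ¬ E ≤ centralizer ((sq t ⊓ centralizer (B : Set G) : Subgroup G) : Set G)

namespace Cfg

variable (h : Hyp G p m) (C : Cfg p m t E)
include h C

theorem sq_t : t * t = 1 := mul_self_of_orderOf_two C.two

theorem ne_one : t ≠ 1 := fun e => by have := C.two; rw [e, orderOf_one] at this; norm_num at this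

theorem isPGroup : IsPGroup p E := Signalizer.isPGroup_of_elab C.elem

theorem comm {x y : G} (hx : x ∈ E) (hy : y ∈ E) : Commute x y := by
  haveI := C.elem.1; exact setLike_mul_comm (s := E) hx hy

theorem t_mem_centralizer {F : Subgroup G} (hF : F ≤ E) : t ∈ centralizer (F : Set G) :=
  mem_centralizer_iff.2 fun _ hf => (commute_of_mem_centralizer_singleton (C.le (hF hf))).eq

theorem E_le_centralizer {F : Subgroup G} (hF : F ≤ E) : E ≤ centralizer (F : Set G) :=
  fun _ he => mem_centralizer_iff.2 fun _ hf => (C.comm h (hF hf) he).eq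

theorem E_le_normalizer : E ≤ normalizer (coreT t : Set G) :=
  C.le.trans (centralizer_le_normalizer_coreT t)

theorem elem_of_le {F : Subgroup G} (hF : F ≤ E) : IsElementaryAbelian p F := by
  haveI := C.elem.1
  exact ⟨⟨⟨fun a b => Subtype.ext (setLike_mul_comm (s := E) (hF a.2) (hF b.2))⟩⟩,
    fun a ha => C.elem.2 a (hF ha)⟩

theorem cube {d : G} (hd : d ∈ E) : InCube p d :=
  ⟨E, C.elem, (Nat.pow_le_pow_right hp.out.pos h.three).trans C.card.ge, hd⟩

theorem cube_card : p ^ 3 ≤ Nat.card E :=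
  (Nat.pow_le_pow_right hp.out.pos h.three).trans C.card.ge

theorem orderOf_mem {d : G} (hd : d ∈ E) (hd1 : d ≠ 1) : orderOf d = p :=
  orderOf_eq_prime (C.elem.2 d hd) hd1

theorem fixed_inverted {y : G} (hy : y ∈ E) (hi : t * y * t⁻¹ = y⁻¹) : y = 1 :=
  eq_one_of_fixed_inverted hp.out h.odd (C.elem.2 y hy) hi
    (commute_of_mem_centralizer_singleton (C.le hy)).symm

theorem commute_core {x : G} (hx : x ∈ coreT t) : Commute x t :=
  commute_of_mem_centralizer_singleton (coreT_le t hx)

theorem p_mul_ne : ¬ p * p ^ m ≤ p ^ m := by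
  intro hle
  have h3 : 2 * p ^ m ≤ p * p ^ m := Nat.mul_le_mul_right _ hp.out.two_le
  have h4 : 0 < p ^ m := pow_pos hp.out.pos m
  omega

/-- `E` fixes no involution of `O_2(C(t))` but `t`. -/
theorem eq_of_fixed {a : G} (ha : a ∈ coreT t) (ha2 : a * a = 1)
    (haE : a ∈ centralizer (E : Set G)) : a = 1 ∨ a = t := by
  by_contra hcon
  push Not at hcon
  obtain ⟨ha1, hat⟩ := hcon
  haveI : Nontrivial E := by
    rw [← Finite.one_lt_card_iff_nontrivial, C.card]
    exact Nat.one_lt_pow (by have := h.three; omega) hp.out.one_lt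
  obtain ⟨⟨d, hd⟩, hd1⟩ := exists_ne (1 : E)
  have hdp := C.orderOf_mem h hd (fun e => hd1 (Subtype.ext e))
  have hta : Commute t a := (C.commute_core h ha).symm
  have htE := C.t_mem_centralizer h le_rfl
  have hnz := h.centralizer_le_normalizer_zc (p := p) hd
  have h8 : ∀ g : G, orderOf g = 2 → Commute g t → g ∈ centralizer (E : Set G) → InEight g := by
    intro g hg hgt hgE
    set S := coreT t ⊓ centralizer ({g} : Set G) with hS
    refine inEight_of_central h.odd ((coreT_isPGroup t).to_le inf_le_left : IsPGroup 2 S) C.elem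
      (C.cube_card h) (fun e he => normalizer_inf_le (C.E_le_normalizer h he)
        (mem_normalizer_centralizer_singleton (mem_centralizer_iff.1 hgE e he))) (fun e he hec => ?_)
      (mul_self_of_orderOf_two hg) (mem_centralizer_iff.2 fun u hu =>
        (commute_of_mem_centralizer_singleton hu.2).eq)
    haveI : Fact (Nat.Prime 2) := ⟨Nat.prime_two⟩
    refine h.eq_one_of_centralizes_coreT C.two C.eight
      (commute_of_mem_centralizer_singleton (C.le he))
      (commute_of_axb (coreT_isPGroup t) (isPGroup_two_zpowers_of_orderOf hg)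
        (coprime_two_of_pow h.odd (k := 1) (by rw [pow_one]; exact C.elem.2 e he))
        (C.E_le_normalizer h he) ?_
        (zpowers_le.2 (centralizer_le_normalizer_coreT t (mem_centralizer_singleton_of hgt)))
        fun u hu hu' => mem_centralizer_iff.1 hec u ⟨hu, ?_⟩) (k := 1)
      (by rw [pow_one]; exact C.elem.2 e he)
    · rw [zpowers_eq_closure, centralizer_closure]
      exact mem_centralizer_singleton_of (mem_centralizer_iff.1 hgE e he)
    · rw [zpowers_eq_closure, centralizer_closure] at hu'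
      exact hu'
  have key : ∀ g : G, orderOf g = 2 → Commute g t → g ∈ centralizer (E : Set G) →
      zc p E d ⊓ centralizer ({g} : Set G) ≤ centralizer ({t} : Set G) := by
    intro g hg hgt hgE
    by_contra hne
    have hmove : t ∉ centralizer ((zc p E d ⊓ centralizer ({g} : Set G) : Subgroup G) : Set G) :=
      fun hc => hne fun u hu => mem_centralizer_singleton_of (mem_centralizer_iff.1 hc u hu)
    obtain ⟨y, hy, hyp, hy1, hyi⟩ := exists_inverted h.odd ((h.zc_isPGroup E d).to_le inf_le_left)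
      (C.sq_t h) (normalizer_inf_le (hnz htE) (mem_normalizer_centralizer_singleton hgt.symm)) hmove
    exact hy1 (C.fixed_inverted h (h.mem_of_bound hg (h8 g hg hgt hgE) C.elem C.card.ge
      (fun e he => mem_centralizer_singleton_of (mem_centralizer_iff.1 hgE e he)) hyp
      ((h.zc_le E d hy.1).2) (commute_of_mem_centralizer_singleton hy.2)) hyi)
  refine h.not_centralizes_zc hdp (C.cube h hd) C.elem hd C.two htE ?_
  refine mem_centralizer_of_four h.odd (h.zc_isPGroup E d) (C.sq_t h) ha2 hta hat ha1 (C.ne_one h)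
    (hnz htE) (hnz haE) (key a (orderOf_two_of ha2 ha1) hta.symm haE)
    (key (t * a) (orderOf_two_of ?_ ?_) ((Commute.refl t).mul_left hta.symm) (mul_mem htE haE))
  · rw [hta.symm.mul_mul_mul_comm, C.sq_t h, ha2, one_mul]
  · intro e
    exact hat ((mul_eq_one_iff_inv_eq.1 e).symm.trans (inv_of_sq_one (C.sq_t h)))

/-- An invariant elementary abelian 2-subgroup containing `t` is `⟨t⟩`. -/
theorem elem_le {A₀ : Subgroup G} (hA : A₀ ≤ coreT t) (hA0 : IsElementaryAbelian 2 A₀)
    (hE : E ≤ normalizer (A₀ : Set G)) (htA : t ∈ A₀) : A₀ ≤ zpowers t := by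
  classical
  haveI := hA0.1
  have hsq : ∀ x ∈ A₀, x * x = 1 := fun x hx => by rw [← pow_two]; exact hA0.2 x hx
  have hEne : E ≠ ⊥ := fun e => by
    have := C.card
    rw [e, card_bot] at this
    exact (Nat.one_lt_pow (by have := h.three; omega) hp.out.one_lt).ne this
  refine Signalizer.le_of_forall_relIndex_eq C.elem hEne ?_ hE fun B hB hidx => ?_
  · intro hdvd
    obtain ⟨k, hk⟩ := IsPGroup.iff_card.1 (Signalizer.isPGroup_of_elab hA0 : IsPGroup 2 A₀)
    rw [hk] at hdvd
    exact h.odd ((Nat.prime_dvd_prime_iff_eq hp.out Nat.prime_two).1 (hp.out.dvd_of_dvd_pow hdvd))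
  intro a ha
  by_contra hat
  set A₁ := A₀ ⊓ centralizer (B : Set G) with hA₁
  have hmemA : ∀ x ∈ A₁, x ∈ coreT t ∧ x ∈ centralizer (B : Set G) ∧ Commute t x := fun x hx =>
    ⟨hA hx.1, hx.2, (C.commute_core h (hA hx.1)).symm⟩
  have htA₁ : t ∈ A₁ := ⟨htA, C.t_mem_centralizer h hB⟩
  have hEA₁ : ∀ e ∈ E, ∀ x ∈ A₁, e * x * e⁻¹ ∈ A₁ := fun e he x hx =>
    ⟨conj_mem_of_mem_normalizer (hE he) hx.1,
      conj_mem_of_mem_normalizer (le_normalizer (C.E_le_centralizer h hB he)) hx.2⟩
  have hcomm : ∀ x ∈ A₁, ∀ y ∈ A₁, Commute x y := fun x hx y hy =>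
    setLike_mul_comm (s := A₀) hx.1 hy.1
  have hat1 : a ≠ 1 ∧ a ≠ t := ⟨fun e => hat (e ▸ one_mem _), fun e => hat (e ▸ mem_zpowers t)⟩
  -- a second element
  obtain ⟨b, hb, hb1, hbt, hba, hbta⟩ : ∃ b ∈ A₁, b ≠ 1 ∧ b ≠ t ∧ b ≠ a ∧ b ≠ t * a := by
    by_contra hcon
    push Not at hcon
    have h4 : ∀ x ∈ A₁, x = 1 ∨ x = t ∨ x = a ∨ x = t * a := fun x hx => by
      by_contra hx'
      push Not at hx'
      exact hx'.2.2.2 (hcon x hx hx'.1 hx'.2.1 hx'.2.2.1)
    refine ((C.eq_of_fixed h (hA ha.1) (hsq a ha.1) (mem_centralizer_iff.2 fun e he => ?_))).elim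
      hat1.1 hat1.2
    have het : Commute e t := commute_of_mem_centralizer_singleton (C.le he)
    have hmove : ∀ g ∈ E, g * a * g⁻¹ = a ∨ g * a * g⁻¹ = t * a := by
      intro g hg
      have hgt : g * t * g⁻¹ = t :=
        conj_eq_of_commute (commute_of_mem_centralizer_singleton (C.le hg))
      rcases h4 _ (hEA₁ g hg a ha) with e1 | e1 | e1 | e1
      · exact absurd (conj_eq_one_iff.1 e1) hat1.1
      · exact absurd (MulAut.conj g |>.injective (e1.trans hgt.symm)) hat1.2
      · exact Or.inl e1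
      · exact Or.inr e1
    rcases hmove e he with e1 | e1
    · exact (commute_of_conj_eq e1).eq
    · -- an odd order element cannot exchange `a` and `ta`
      exfalso
      have key : ∀ k : ℕ, e ^ k * a * (e ^ k)⁻¹ = t ^ k * a := by
        intro k
        induction k with
        | zero => simp
        | succ k ih =>
          calc e ^ (k + 1) * a * (e ^ (k + 1))⁻¹ = e * (e ^ k * a * (e ^ k)⁻¹) * e⁻¹ := by
                rw [pow_succ']; group
            _ = (e * t * e⁻¹) ^ k * (e * a * e⁻¹) := by rw [ih, conj_pow]; group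
            _ = t ^ (k + 1) * a := by rw [conj_eq_of_commute het, e1, pow_succ, mul_assoc]
      have := key p
      rw [C.elem.2 e he, one_mul, inv_one, mul_one] at this
      obtain ⟨s, hs⟩ := hp.out.odd_of_ne_two h.odd
      rw [hs, pow_succ, pow_mul, pow_two, C.sq_t h, one_pow, one_mul] at this
      exact C.ne_one h (mul_eq_right.mp this.symm)
  have hBcard : p * Nat.card B = p ^ m := by
    have h1 := relIndex_mul_relIndex (⊥ : Subgroup G) B E bot_le hB
    rw [relIndex_bot_left, relIndex_bot_left, hidx, C.card] at h1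
    rw [mul_comm]; exact h1
  haveI : Nontrivial B := by
    rw [← Finite.one_lt_card_iff_nontrivial]
    by_contra h1
    have hB1 : Nat.card B = 1 := le_antisymm (by omega) Nat.card_pos
    rw [hB1] at hBcard
    rw [mul_one] at hBcard
    have := Nat.pow_right_injective hp.out.two_le ((pow_one p).trans hBcard)
    have := h.three; omega
  obtain ⟨⟨d, hdB⟩, hd1⟩ := exists_ne (1 : B)
  have hdp := C.orderOf_mem h (hB hdB) (fun e => hd1 (Subtype.ext e))
  have hBel := C.elem_of_le h hB
  set N := zc p B d with hN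
  have hnz : ∀ x ∈ A₁, x ∈ normalizer (N : Set G) := fun x hx =>
    h.centralizer_le_normalizer_zc hdB hx.2
  have hNp : IsPGroup p N := h.zc_isPGroup B d
  have hfixed : ∀ u ∈ N, Commute u t → ∀ x ∈ A₁, Commute x u := fun u hu hut x hx =>
    commute_cores h.odd (hA hx.1) (h.zc_le B d hu).1
      (mem_centralizer_iff.1 hx.2 d hdB).symm hut
  -- `t` moves the centralizer of a complement of `t`
  let P : Subgroup G → Prop := fun H => H ≤ A₁ ∧ t ∉ H ∧
    ∃ u ∈ N, u ∈ centralizer (H : Set G) ∧ ¬ Commute u t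
  have hgrow : ∀ H, Maximal P H → ∀ g ∈ A₁, g ∈ H ∨ t * g ∈ H := by
    intro H hH g hg
    obtain ⟨hHA, htH, u, hu, huH, hut⟩ := hH.prop
    by_contra hcon
    push Not at hcon
    set NH := N ⊓ centralizer (H : Set G) with hNH
    have hnH : ∀ x ∈ A₁, x ∈ normalizer (NH : Set G) := fun x hx =>
      normalizer_inf_le (hnz x hx) (le_normalizer (mem_centralizer_iff.2 fun y hy =>
        (hcomm y (hHA hy) x hx).eq))
    have hg1 : g ≠ 1 := fun e => hcon.1 (e ▸ one_mem H)
    have hgt : g ≠ t := fun e => hcon.2 (by rw [e, C.sq_t h]; exact one_mem H)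
    have hext : ∀ g' ∈ A₁, g' ∉ H → t * g' ∉ H → NH ⊓ centralizer ({g'} : Set G) ≤
        centralizer ({t} : Set G) := by
      intro g' hg' hg'H htg' v hv
      refine mem_centralizer_singleton_of ?_
      by_contra hvt
      have hle : H ≤ H ⊔ zpowers g' := le_sup_left
      have hg'c : g' ∈ centralizer (H : Set G) :=
        mem_centralizer_iff.2 fun y hy => (hcomm y (hHA hy) g' hg').eq
      have hP : P (H ⊔ zpowers g') := by
        refine ⟨sup_le hHA (zpowers_le.2 hg'), fun htm => ?_, v, hv.1.1, ?_, hvt⟩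
        · obtain ⟨x, hx, k, hk⟩ := mem_sup_zpowers hg'c htm
          rcases mem_zpowers_involution (hsq g' hg'.1) (zpow_mem (mem_zpowers g') k) with e | e
          · rw [e, mul_one] at hk; exact htH (hk ▸ hx)
          · rw [e] at hk
            refine htg' ?_
            rw [hk, mul_assoc, hsq g' hg'.1, mul_one]; exact hx
        · refine mem_centralizer_iff.2 fun y hy => ?_
          obtain ⟨x, hx, k, rfl⟩ := mem_sup_zpowers hg'c hy
          exact ((show Commute x v from mem_centralizer_iff.1 hv.1.2 x hx).mul_left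
            ((commute_of_mem_centralizer_singleton hv.2).symm.zpow_left k)).eq
      exact hg'H (hH.2 hP hle (mem_sup_right (mem_zpowers g')))
    have htg : t * g ∈ A₁ := mul_mem htA₁ hg
    refine hut (commute_of_mem_centralizer_singleton ?_)
    have := mem_centralizer_of_four h.odd (hNp.to_le inf_le_left) (C.sq_t h) (hsq g hg.1)
      (hmemA g hg).2.2 hgt hg1 (C.ne_one h) (hnH t htA₁) (hnH g hg) (hext g hg hcon.1 hcon.2)
      (hext (t * g) htg hcon.2 (by rw [← mul_assoc, C.sq_t h, one_mul]; exact hcon.1))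
    exact mem_centralizer_singleton_of (mem_centralizer_iff.1 this u ⟨hu, huH⟩)
  have hcompl : ∀ g ∈ A₁, g ≠ t → (∃ u ∈ N, Commute u g ∧ ¬ Commute u t) →
      ∃ H, Maximal P H ∧ g ∈ H := by
    intro g hg hgt hu
    obtain ⟨u, hu, hug, hut⟩ := hu
    have hPg : P (zpowers g) := ⟨zpowers_le.2 hg, fun htg => by
      rcases mem_zpowers_involution (hsq g hg.1) htg with e | e
      · exact C.ne_one h e
      · exact hgt e.symm, u, hu, by
      rw [zpowers_eq_closure, centralizer_closure]; exact mem_centralizer_singleton_of hug, hut⟩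
    obtain ⟨H, hle, hH⟩ := Set.Finite.exists_le_maximal (Set.toFinite {H | P H}) hPg
    exact ⟨H, hH, hle (mem_zpowers g)⟩
  have hmoveN : t ∉ centralizer (N : Set G) :=
    h.not_centralizes_zc hdp (C.cube h (hB hdB)) hBel hdB C.two htA₁.2
  obtain ⟨H, hH⟩ : ∃ H, Maximal P H := by
    have hP : P ⊥ := ⟨bot_le, fun e => C.ne_one h (mem_bot.1 e), by
      obtain ⟨u, hu, hut⟩ : ∃ u ∈ N, ¬ Commute u t := by
        by_contra hcon
        push Not at hcon
        exact hmoveN (mem_centralizer_iff.2 fun u hu => (hcon u hu).eq)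
      exact ⟨u, hu, mem_centralizer_iff.2 fun y hy => by rw [mem_bot.1 hy]; simp, hut⟩⟩
    obtain ⟨H, -, hH⟩ := Set.Finite.exists_le_maximal (Set.toFinite {H | P H}) hP
    exact ⟨H, hH⟩
  obtain ⟨hHA, htH, u, hu, huH, hut⟩ := hH.prop
  obtain ⟨h0, hh0, hh01⟩ : ∃ g ∈ H, g ≠ 1 := by
    rcases hgrow H hH a ha with e | e
    · exact ⟨a, e, hat1.1⟩
    · exact ⟨t * a, e, fun e' => hat1.2
        ((mul_eq_one_iff_inv_eq.1 e').symm.trans (inv_of_sq_one (C.sq_t h)))⟩
  have hh0t : h0 ≠ t := fun e => htH (e ▸ hh0)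
  have hth0 : t * h0 ∈ A₁ := mul_mem htA₁ (hHA hh0)
  -- `t` moves `C_N(t h₀)`
  obtain ⟨v, hv, hvh, hvt⟩ : ∃ v ∈ N, Commute v (t * h0) ∧ ¬ Commute v t := by
    by_contra hcon
    push Not at hcon
    have hh := (hcomm t htA₁ h0 (hHA hh0))
    have hx : h0 ∈ centralizer (N : Set G) := by
      refine mem_centralizer_of_four h.odd hNp (hsq h0 (hHA hh0).1) (C.sq_t h) hh.symm
        (Ne.symm hh0t) (C.ne_one h) hh01 (hnz h0 (hHA hh0)) (hnz t htA₁) (fun w hw => ?_) fun w hw => ?_
      · exact mem_centralizer_singleton_of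
          (hfixed w hw.1 (commute_of_mem_centralizer_singleton hw.2) h0 (hHA hh0)).symm
      · have h1 : Commute w (t * h0) := by
          rw [hh.eq]; exact commute_of_mem_centralizer_singleton hw.2
        exact mem_centralizer_singleton_of (hfixed w hw.1 (hcon w hw.1 h1) h0 (hHA hh0)).symm
    exact hh01 (h.faithful hdp (C.cube h (hB hdB)) hBel hdB (coprime_orderOf_of_coreT h.odd (hA (hHA hh0).1)) (hHA hh0).2 hx)
  obtain ⟨K, hK, hth0K⟩ := hcompl (t * h0) hth0 (fun e => hh01 (mul_eq_left.mp e)) ⟨v, hv, hvh, hvt⟩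
  obtain ⟨hKA, htK, v', hv', hvK', hvt'⟩ := hK.prop
  -- a common element
  obtain ⟨c, hcH, hcK, hc1⟩ : ∃ c, c ∈ H ∧ c ∈ K ∧ c ≠ 1 := by
    by_contra hcon
    push Not at hcon
    have split : ∀ g ∈ A₁, g ≠ 1 → g ≠ t → ∃ g', (g' = g ∨ g' = t * g) ∧ g' ∈ H ∧ t * g' ∈ K := by
      intro g hg hg1 hgt
      have htt : t * (t * g) = g := by rw [← mul_assoc, C.sq_t h, one_mul]
      rcases hgrow H hH g hg with e | e <;> rcases hgrow K hK g hg with e' | e'
      · exact absurd (hcon g e e') hg1
      · exact ⟨g, Or.inl rfl, e, e'⟩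
      · exact ⟨t * g, Or.inr rfl, e, by rw [htt]; exact e'⟩
      · exact absurd (hcon _ e e')
          (fun e1 => hgt ((mul_eq_one_iff_inv_eq.1 e1).symm.trans (inv_of_sq_one (C.sq_t h))))
    obtain ⟨a', ha', ha'H, ha'K⟩ := split a ha hat1.1 hat1.2
    obtain ⟨b', hb', hb'H, hb'K⟩ := split b hb hb1 hbt
    have e : (t * a') * (t * b') = a' * b' := by
      rw [(hcomm t htA₁ a' (hHA ha'H)).eq, mul_assoc, ← mul_assoc t t, C.sq_t h, one_mul]
    have hab : a' * b' = 1 := hcon _ (mul_mem ha'H hb'H) (e ▸ mul_mem ha'K hb'K)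
    have hab' : b' = a' := by
      rw [eq_comm, ← inv_of_sq_one (hsq a' (hHA ha'H).1)]
      exact (inv_eq_of_mul_eq_one_right hab)
    rcases ha' with ea | ea <;> rcases hb' with eb | eb <;> rw [ea, eb] at hab'
    · exact hba hab'
    · exact hbta (by rw [← hab', ← mul_assoc, C.sq_t h, one_mul])
    · exact hbta hab'
    · exact hba (mul_left_cancel hab')
  have hc := hHA hcH
  have inv : ∀ (H' : Subgroup G) (w : G), H' ≤ A₁ → w ∈ N → w ∈ centralizer (H' : Set G) →
      ¬ Commute w t → ∃ y ∈ N, y ∈ centralizer (H' : Set G) ∧ y ^ p = 1 ∧ y ≠ 1 ∧ t * y * t⁻¹ = y⁻¹ := by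
    intro H' w hle hw hwH hwt
    obtain ⟨y, hy, hy'⟩ := exists_inverted h.odd
      (hNp.to_le (inf_le_left (b := centralizer (H' : Set G)))) (C.sq_t h)
      (normalizer_inf_le (hnz t htA₁) (le_normalizer (mem_centralizer_iff.2 fun x hx =>
        (hcomm x (hle hx) t htA₁).eq))) (fun hc => hwt (mem_centralizer_iff.1 hc w ⟨hw, hwH⟩))
    exact ⟨y, hy.1, hy.2, hy'⟩
  obtain ⟨y, hy, hyH, hyp, hy1, hyi⟩ := inv H u hHA hu huH hut
  obtain ⟨z, hz, hzK, hzp, hz1, hzi⟩ := inv K v' hKA hv' hvK' hvt'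
  have hh0y : Commute h0 y := mem_centralizer_iff.1 hyH h0 hh0
  have hh0z : h0 * z * h0⁻¹ = z⁻¹ := by
    have e : h0 = t * (t * h0) := by rw [← mul_assoc, C.sq_t h, one_mul]
    rw [e, mul_inv_rev]
    calc t * (t * h0) * z * ((t * h0)⁻¹ * t⁻¹) = t * ((t * h0) * z * (t * h0)⁻¹) * t⁻¹ := by group
      _ = t * z * t⁻¹ := by rw [conj_eq_of_commute (mem_centralizer_iff.1 hzK _ hth0K)]
      _ = z⁻¹ := hzi
  have hyz : Commute z y := by
    have hcy := h.zc_class B d hy hz hy
    have hcz := h.zc_class B d hy hz hz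
    obtain ⟨e1, e2⟩ := commutator_inv_inv hcy hcz
    set c := ⁅y, z⁆ with hcdef
    have hcN : c ∈ N := by
      rw [hcdef, commutatorElement_def]; exact mul_mem (mul_mem (mul_mem hy hz) (inv_mem hy)) (inv_mem hz)
    have hct : Commute c t := (commute_of_conj_eq (by rw [hcdef, conj_commutator, hyi, hzi, e1])).symm
    have hc1 : c = 1 := by
      refine eq_one_of_inv_eq' hp.out h.odd (h.zc_pow B d hcN) ?_
      have h1 : h0 * c * h0⁻¹ = c⁻¹ := by
        rw [hcdef, conj_commutator, conj_eq_of_commute hh0y, hh0z, e2]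
      rwa [conj_eq_of_commute (hfixed c hcN hct h0 (hHA hh0)), eq_comm] at h1
    exact (commutatorElement_eq_one_iff_commute.1 hc1).symm
  have hyB := (h.zc_le B d hy).2
  have hzB := (h.zc_le B d hz).2
  have hcc : orderOf c = 2 := orderOf_two_of (hsq c hc.1) hc1
  have hynot : y ∉ B := fun e => hy1 (C.fixed_inverted h (hB e) hyi)
  have hF : IsElementaryAbelian p (B ⊔ zpowers y) := OddOrder.BG11.elem_sup_zpowers hBel hyp hyB
  have hzF : z ∈ B ⊔ zpowers y := by
    have hc8 : InEight c := by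
      have htT : Commute t a := (hmemA a ha).2.2
      refine ⟨A₀, hA0, ?_, hc.1⟩
      obtain ⟨hVt, hVa⟩ : zpowers t ≤ A₀ ∧ zpowers a ≤ A₀ :=
        ⟨zpowers_le.2 htA, zpowers_le.2 ha.1⟩
      have hac : a ∈ centralizer (zpowers t : Set G) := by
        rw [zpowers_eq_closure, centralizer_closure]
        exact mem_centralizer_singleton_of htT.symm
      have hna : a ∉ zpowers t := hat
      have hbc : b ∈ centralizer ((zpowers t ⊔ zpowers a : Subgroup G) : Set G) :=
        mem_centralizer_iff.2 fun x hx =>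
          (setLike_mul_comm (s := A₀) (sup_le hVt hVa hx) hb.1)
      have hnb : b ∉ zpowers t ⊔ zpowers a := fun e => by
        obtain ⟨u, hu, k, hk⟩ := mem_sup_zpowers hac e
        rcases mem_zpowers_involution (C.sq_t h) hu with rfl | rfl <;>
          rcases mem_zpowers_involution (hsq a ha.1) (zpow_mem (mem_zpowers a) k) with e | e <;>
          simp [e] at hk
        exacts [hb1 hk, hba hk, hbt hk, hbta hk]
      haveI : Fact (Nat.Prime 2) := ⟨Nat.prime_two⟩
      refine le_trans (le_of_eq ?_) (Nat.le_of_dvd Nat.card_pos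
        (card_dvd_of_le (sup_le (sup_le hVt hVa) (zpowers_le.2 hb.1))))
      rw [card_elem_sup (p := 2) (by rw [pow_two, hsq b hb.1]) hbc hnb,
        card_elem_sup (p := 2) (by rw [pow_two, hsq a ha.1]) hac hna, Nat.card_zpowers,
        orderOf_two_of (C.sq_t h) (C.ne_one h)]
    refine h.mem_of_bound hcc hc8 hF (by rw [card_elem_sup hyp hyB hynot, hBcard]) ?_ hzp ?_ ?_
    · refine sup_le (fun e he => mem_centralizer_singleton_of (mem_centralizer_iff.1 hc.2 e he)) ?_
      exact zpowers_le.2 (mem_centralizer_singleton_of (mem_centralizer_iff.1 hyH c hcH).symm)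
    · refine mem_centralizer_iff.2 fun w hw => ?_
      obtain ⟨x, hx, k, rfl⟩ := mem_sup_zpowers hyB hw
      exact ((show Commute x z from mem_centralizer_iff.1 hzB x hx).mul_left
        (hyz.symm.zpow_left k)).eq
    · exact (mem_centralizer_iff.1 hzK c hcK).symm
  obtain ⟨x, hx, k, hk⟩ := mem_sup_zpowers hyB hzF
  refine hz1 (eq_one_of_fixed_inverted hp.out h.odd hzp hh0z ?_)
  rw [hk]
  exact (show Commute h0 x from (mem_centralizer_iff.1 (hHA hh0).2 x hx).symm).mul_right (hh0y.zpow_right k)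

/-- Invariant abelian subgroups of `O_2(C(t))` are centralized by `E`. -/
theorem abelian_fixed {A : Subgroup G} (hA : A ≤ coreT t)
    (hcomm : ∀ x ∈ A, ∀ y ∈ A, Commute x y) (hE : E ≤ normalizer (A : Set G)) :
    E ≤ centralizer (A : Set G) := by
  intro e he
  refine mem_centralizer_of_abelian_two ((coreT_isPGroup t).to_le hA) hcomm
    (odd_orderOf_of_pow h.odd (k := 1) (by rw [pow_one]; exact C.elem.2 e he)) (hE he) fun x hx hx2 => ?_
  let A₀ : Subgroup G :=
    { carrier := {y | (y ∈ A ⊔ zpowers t) ∧ y * y = 1}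
      one_mem' := ⟨one_mem _, one_mul 1⟩
      mul_mem' := fun {a b} ha hb => ⟨mul_mem ha.1 hb.1, by
        have hc : Commute a b := by
          have htA : t ∈ centralizer (A : Set G) :=
            mem_centralizer_iff.2 fun y hy => (C.commute_core h (hA hy)).eq
          obtain ⟨u, hu, k, rfl⟩ := mem_sup_zpowers htA ha.1
          obtain ⟨v, hv, l, rfl⟩ := mem_sup_zpowers htA hb.1
          exact ((hcomm u hu v hv).mul_right ((C.commute_core h (hA hu)).zpow_right l)).mul_left
            (((C.commute_core h (hA hv)).zpow_right k).symm.mul_right (Commute.zpow_zpow (Commute.refl t) k l))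
        rw [hc.symm.mul_mul_mul_comm, ha.2, hb.2, one_mul]⟩
      inv_mem' := fun {a} ha => ⟨inv_mem ha.1, by rw [← mul_inv_rev, ha.2, inv_one]⟩ }
  have hle : A₀ ≤ coreT t := fun y hy =>
    (sup_le hA (zpowers_le.2 (self_mem_coreT C.two))) hy.1
  have hcm : IsMulCommutative A₀ := ⟨⟨fun a b => Subtype.ext (by
    calc (a : G) * b = ((a : G) * b)⁻¹ := (inv_of_sq_one (A₀.mul_mem a.2 b.2).2).symm
      _ = (b : G) * a := by rw [mul_inv_rev, inv_of_sq_one a.2.2, inv_of_sq_one b.2.2])⟩⟩
  have hAE : E ≤ normalizer (A₀ : Set G) := fun g hg => mem_normalizer_of_conj fun y hy => by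
    refine ⟨?_, by rw [show g * y * g⁻¹ * (g * y * g⁻¹) = g * (y * y) * g⁻¹ by group, hy.2]; group⟩
    have hz : g ∈ normalizer (zpowers t : Set G) :=
      centralizer_singleton_eq_normalizer C.two ▸ C.le hg
    have htA : t ∈ centralizer (A : Set G) :=
      mem_centralizer_iff.2 fun z hz' => (C.commute_core h (hA hz')).eq
    obtain ⟨u, hu, k, rfl⟩ := mem_sup_zpowers htA hy.1
    rw [show g * (u * t ^ k) * g⁻¹ = (g * u * g⁻¹) * (g * t ^ k * g⁻¹) by group]
    exact mul_mem (mem_sup_left (conj_mem_of_mem_normalizer (hE hg) hu))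
      (mem_sup_right (conj_mem_of_mem_normalizer hz (zpow_mem (mem_zpowers t) k)))
  rcases mem_zpowers_involution (C.sq_t h) (C.elem_le h hle ⟨hcm, fun y hy => (pow_two y).trans hy.2⟩
    hAE ⟨mem_sup_right (mem_zpowers t), C.sq_t h⟩ (⟨mem_sup_left hx, hx2⟩ : x ∈ A₀)) with rfl | rfl
  · exact Commute.one_right e
  · exact commute_of_mem_centralizer_singleton (C.le he)

/-- The centre of the critical subgroup is fixed by `E`. -/
theorem commute_centre {z : G} (hzC : z ∈ critT t) (hzc : z ∈ centralizer (critT t : Set G)) {e : G}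
    (he : e ∈ E) : Commute e z := by
  have hCr := isCritTwo_critT t
  refine (mem_centralizer_iff.1 (C.abelian_fixed h (A := critT t ⊓ centralizer (critT t : Set G))
    (inf_le_left.trans hCr.1) (fun x hx y hy => mem_centralizer_iff.1 hy.2 x hx.1) ?_ he)
    z ⟨hzC, hzc⟩).symm
  intro g hg
  have := hCr.2.1 (C.E_le_normalizer h hg)
  exact normalizer_inf_le this (mem_normalizer_centralizer this)

theorem commutator_critT {x y : G} (hx : x ∈ critT t) (hy : y ∈ critT t) :
    ⁅x, y⁆ = 1 ∨ ⁅x, y⁆ = t := by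
  have hCr := isCritTwo_critT t
  obtain ⟨hc1, hc2⟩ := hCr.2.2.1 x hx y (hCr.1 hy)
  have hxx : Commute (x * x) y := (mem_centralizer_iff.1 (hCr.2.2.2.1 x hx) y hy).symm
  have hcx : Commute x ⁅x, y⁆ := mem_centralizer_iff.1 hc2 x hx
  refine C.eq_of_fixed h (hCr.1 hc1) ?_ (mem_centralizer_iff.2 fun e he =>
    (C.commute_centre h hc1 hc2 he).eq)
  rw [← pow_two, ← OddOrder.Stab.commutatorElement_pow_left hcx 2, pow_two]
  exact commutatorElement_eq_one_iff_commute.2 hxx

theorem t_mem_critT : t ∈ critT t := by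
  refine (isCritTwo_critT t).2.2.2.2 ⟨self_mem_coreT C.two, mem_centralizer_iff.2 fun x hx =>
    (C.commute_core h ((isCritTwo_critT t).1 hx)).eq⟩

theorem mem_sq_iff {x : G} : x ∈ sq t ↔ x ∈ critT t ∧ (x * x = 1 ∨ x * x = t) := by
  have e : ∀ u : G, (u ∈ zpowers t ↔ u = 1 ∨ u = t) := fun u =>
    ⟨mem_zpowers_involution (C.sq_t h), by rintro (rfl | rfl); exacts [one_mem _, mem_zpowers _]⟩
  let S : Subgroup G :=
    { carrier := {x | x ∈ critT t ∧ x * x ∈ zpowers t}
      one_mem' := ⟨one_mem _, by rw [one_mul]; exact one_mem _⟩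
      mul_mem' := fun {a b} ha hb => ⟨mul_mem ha.1 hb.1, by
        have hc := C.commutator_critT h hb.1 ha.1
        have hct : Commute a ⁅b, a⁆ := by
          rcases hc with e' | e' <;> rw [e']
          · exact Commute.one_right a
          · exact C.commute_core h ((isCritTwo_critT t).1 ha.1)
        have e1 : a * b * (a * b) = ⁅b, a⁆ * ((a * a) * (b * b)) := by
          have : b * a = ⁅b, a⁆ * (a * b) := by rw [commutatorElement_def]; group
          calc a * b * (a * b) = a * (b * a) * b := by group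
            _ = (a * ⁅b, a⁆) * (a * b * b) := by rw [this]; group
            _ = _ := by rw [hct.eq]; group
        rw [e1]
        exact mul_mem ((e _).2 hc) (mul_mem ha.2 hb.2)⟩
      inv_mem' := fun {a} ha => ⟨inv_mem ha.1, by rw [← mul_inv_rev]; exact inv_mem ha.2⟩ }
  have : sq t = S := by
    rw [sq]; exact closure_eq S
  rw [this, ← e]
  rfl

theorem sq_le_critT : sq t ≤ critT t := fun _ hx => ((C.mem_sq_iff h).1 hx).1

theorem sq_le : sq t ≤ coreT t := (C.sq_le_critT h).trans (isCritTwo_critT t).1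

theorem t_mem_sq : t ∈ sq t := (C.mem_sq_iff h).2 ⟨C.t_mem_critT h, Or.inl (C.sq_t h)⟩

theorem mem_normalizer_sq {g : G} (hg : Commute g t) : g ∈ normalizer (sq t : Set G) := by
  refine mem_normalizer_of_conj fun x hx => ?_
  obtain ⟨hx1, hx2⟩ := (C.mem_sq_iff h).1 hx
  refine (C.mem_sq_iff h).2 ⟨conj_mem_of_mem_normalizer ((isCritTwo_critT t).2.1
    (centralizer_le_normalizer_coreT t (mem_centralizer_singleton_of hg))) hx1, ?_⟩
  rw [show g * x * g⁻¹ * (g * x * g⁻¹) = g * (x * x) * g⁻¹ by group]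
  rcases hx2 with e | e <;> rw [e]
  · left; group
  · right; exact conj_eq_of_commute hg

/-- `E` acts faithfully on `sq t`. -/
theorem faithful_sq {e : G} (he : e ∈ E) (hc : e ∈ centralizer (sq t : Set G)) : e = 1 := by
  have hCr := isCritTwo_critT t
  have het : Commute e t := commute_of_mem_centralizer_singleton (C.le he)
  have hcop : (orderOf e).Coprime 2 :=
    coprime_two_of_pow h.odd (k := 1) (by rw [pow_one]; exact C.elem.2 e he)
  have heN := centralizer_le_normalizer_coreT t (C.le he)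
  have stab : ∀ x ∈ coreT t, Commute e ⁅e, x⁆ → Commute e x := by
    intro x hx hfix
    have hcR : ⁅e, x⁆ ∈ coreT t := by
      rw [commutatorElement_def]; exact mul_mem (conj_mem_of_mem_normalizer heN hx) (inv_mem hx)
    obtain ⟨k, hk⟩ := IsPGroup.iff_orderOf.1 (coreT_isPGroup t) ⟨_, hcR⟩
    rw [Subgroup.orderOf_mk] at hk
    exact commute_of_stab hcop (k := k) (by rw [← hk, pow_orderOf_eq_one]) hfix
  have hC : ∀ x ∈ critT t, Commute e x := by
    intro x hx
    refine stab x (hCr.1 hx) ?_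
    have hcC : ⁅e, x⁆ ∈ critT t := by
      rw [commutatorElement_def]
      exact mul_mem (conj_mem_of_mem_normalizer (hCr.2.1 heN) hx) (inv_mem hx)
    have hx' : e * x * e⁻¹ ∈ critT t := conj_mem_of_mem_normalizer (hCr.2.1 heN) hx
    have hzz : x * x ∈ centralizer (critT t : Set G) := hCr.2.2.2.1 x hx
    have hee : (e * x * e⁻¹) * (e * x * e⁻¹) = x * x := by
      rw [show e * x * e⁻¹ * (e * x * e⁻¹) = e * (x * x) * e⁻¹ by group,
        conj_eq_of_commute (C.commute_centre h (mul_mem hx hx) hzz he)]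
    refine (mem_centralizer_iff.1 hc _ ((C.mem_sq_iff h).2 ⟨hcC, ?_⟩)).symm
    set x' := e * x * e⁻¹ with hx'd
    have e1 : ⁅e, x⁆ = x' * x⁻¹ := by rw [hx'd, commutatorElement_def]
    have e2 : x' * x⁻¹ * (x' * x⁻¹) = ⁅x', x⁻¹⁆ := by
      have hcc : Commute (x * x)⁻¹ x' :=
        (show Commute (x * x) x' from (mem_centralizer_iff.1 hzz x' hx').symm).inv_left
      calc x' * x⁻¹ * (x' * x⁻¹) = x' * x⁻¹ * x'⁻¹ * (x' * x' * (x * x)⁻¹) * x := by group
        _ = x' * x⁻¹ * x'⁻¹ * x := by rw [hee, mul_inv_cancel, mul_one]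
        _ = ⁅x', x⁻¹⁆ := by rw [commutatorElement_def, inv_inv]
    rw [e1, e2]
    exact C.commutator_critT h hx' (inv_mem hx)
  refine h.eq_one_of_centralizes_coreT C.two C.eight het (mem_centralizer_iff.2 fun x hx => ?_) (k := 1)
    (by rw [pow_one]; exact C.elem.2 e he)
  replace hx : x ∈ coreT t := hx
  refine (stab x hx ?_).symm.eq
  refine hC _ (hCr.2.2.2.2 ⟨?_, mem_centralizer_iff.2 fun c hcm => ?_⟩)
  · rw [commutatorElement_def]; exact mul_mem (conj_mem_of_mem_normalizer heN hx) ((coreT t).inv_mem hx)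
  · have hcx : x⁻¹ * c * x ∈ critT t := by
      have := hCr.2.1 (le_normalizer (H := coreT t) ((coreT t).inv_mem hx))
      simpa using conj_mem_of_mem_normalizer this hcm
    have hd : Commute e c := hC c hcm
    have hd' : Commute e (x⁻¹ * c * x) := hC _ hcx
    rw [commutatorElement_def]
    calc c * (e * x * e⁻¹ * x⁻¹) = (c * e) * x * e⁻¹ * x⁻¹ := by group
      _ = (e * c) * x * e⁻¹ * x⁻¹ := by rw [hd.eq]
      _ = e * x * ((x⁻¹ * c * x) * e⁻¹) * x⁻¹ := by group
      _ = e * x * (e⁻¹ * (x⁻¹ * c * x)) * x⁻¹ := by rw [hd'.inv_left.eq]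
      _ = e * x * e⁻¹ * x⁻¹ * c := by group

end Cfg

end CfsgLib.LocalEven48.KlingerMason
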