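import Cfsg.Agent.LocalEven48.KlingerMason.Basic

/-!
A 2-group with a faithful elementary abelian group of odd prime exponent and order at least `p³`
contains an elementary abelian group of order eight.
-/

set_option autoImplicit false
set_option linter.unusedSectionVars false

namespace CfsgLib.LocalEven48.KlingerMason

open Subgroup Cfsg CfsgLib.CharPLocal CfsgLib.LocalStructure
open scoped commutatorElement

variable {G : Type*} [Group G] [Finite G] {p : ℕ} [hp : Fact p.Prime]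

/-- Two representations `w ^ a * r`, `a ≤ 1`, with `r` in a subgroup not containing `w` agree. -/
theorem pow_fin_two_unique {w r r' : G} {F : Subgroup G} (hw : w ∉ F) (hr : r ∈ F) (hr' : r' ∈ F)
    {a b : Fin 2} (h : w ^ (a : ℕ) * r = w ^ (b : ℕ) * r') : a = b ∧ r = r' := by
  fin_cases a <;> fin_cases b <;> simp at h ⊢
  · exact h
  · exact hw (by rw [eq_mul_inv_of_mul_eq h.symm]; exact mul_mem hr (inv_mem hr'))
  · exact hw (by rw [eq_mul_inv_of_mul_eq h]; exact mul_mem hr' (inv_mem hr))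
  · exact h

/-- Three commuting involutions generating a group of order eight. -/
theorem exists_eight {t a g : G} (ht : t * t = 1) (ha : a * a = 1) (hg : g * g = 1) (ht1 : t ≠ 1)
    (ha1 : a ≠ 1) (hat : a ≠ t) (hta : Commute t a) (htg : Commute t g) (hag : Commute a g)
    (hg1 : g ≠ 1) (hgt : g ≠ t) (hga : g ≠ a) (hgta : g ≠ t * a) :
    ∃ V : Subgroup G, IsElementaryAbelian 2 V ∧ 8 ≤ Nat.card V ∧ t ∈ V ∧ a ∈ V ∧ g ∈ V := by
  haveI : Fact (Nat.Prime 2) := ⟨Nat.prime_two⟩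
  have h2 : ∀ {u : G}, u * u = 1 → u ^ 2 = 1 := fun hu => by rw [pow_two, hu]
  have hVt : IsElementaryAbelian 2 (zpowers t) :=
    ⟨inferInstance, fun x hx => by
      rcases mem_zpowers_involution ht hx with rfl | rfl
      · exact one_pow 2
      · exact h2 ht⟩
  have hac : a ∈ centralizer (zpowers t : Set G) := mem_centralizer_iff.2 fun x hx => by
    rcases mem_zpowers_involution ht hx with rfl | rfl
    · simp
    · exact hta.eq
  have hna : a ∉ zpowers t := fun e => by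
    rcases mem_zpowers_involution ht e with e | e
    exacts [ha1 e, hat e]
  have hV := OddOrder.BG11.elem_sup_zpowers hVt (h2 ha) hac
  have hmem : ∀ x ∈ zpowers t ⊔ zpowers a, x = 1 ∨ x = t ∨ x = a ∨ x = t * a := by
    intro x hx
    obtain ⟨u, hu, k, rfl⟩ := mem_sup_zpowers hac hx
    rcases mem_zpowers_involution ht hu with rfl | rfl <;>
      rcases mem_zpowers_involution ha (zpow_mem (mem_zpowers a) k) with e | e <;> simp [e]
  have hgc : g ∈ centralizer ((zpowers t ⊔ zpowers a : Subgroup G) : Set G) :=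
    mem_centralizer_iff.2 fun x hx => by
      rcases hmem x hx with rfl | rfl | rfl | rfl
      exacts [by simp, htg.eq, hag.eq, (htg.mul_left hag).eq]
  have hng : g ∉ zpowers t ⊔ zpowers a := fun e => by
    rcases hmem g e with e | e | e | e
    exacts [hg1 e, hgt e, hga e, hgta e]
  refine ⟨_, OddOrder.BG11.elem_sup_zpowers hV (h2 hg) hgc, ?_, mem_sup_left (mem_sup_left
    (mem_zpowers t)), mem_sup_left (mem_sup_right (mem_zpowers a)), mem_sup_right (mem_zpowers g)⟩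
  rw [card_elem_sup (h2 hg) hgc hng, card_elem_sup (h2 ha) hac hna, Nat.card_zpowers,
    orderOf_two_of ht ht1]

/-- A 2-group on which an elementary abelian group of order at least `p³` acts faithfully has
rank at least three. -/
theorem exists_elem_eight (hp2 : p ≠ 2) {S E : Subgroup G} (hS : IsPGroup 2 S)
    (hE : IsElementaryAbelian p E) (hcard : p ^ 3 ≤ Nat.card E)
    (hn : E ≤ normalizer (S : Set G)) (hf : ∀ e ∈ E, e ∈ centralizer (S : Set G) → e = 1) :
    ∃ V : Subgroup G, V ≤ S ∧ IsElementaryAbelian 2 V ∧ 8 ≤ Nat.card V := by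
  haveI : Fact (Nat.Prime 2) := ⟨Nat.prime_two⟩
  obtain ⟨C, hCr⟩ := exists_isCritTwo hS
  haveI := hE.1
  have hEcomm : ∀ a ∈ E, ∀ b ∈ E, Commute a b := fun a ha b hb =>
    setLike_mul_comm (s := E) ha hb
  have hEne : E ≠ ⊥ := fun e => by
    rw [e, card_bot] at hcard
    exact absurd hcard (not_le.mpr (Nat.one_lt_pow three_ne_zero hp.out.one_lt))
  have hcop : ∀ e ∈ E, (orderOf e).Coprime 2 := fun e he =>
    coprime_two_of_pow hp2 (k := 1) (by rw [pow_one]; exact hE.2 e he)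
  have hnC : E ≤ normalizer (C : Set G) := hn.trans hCr.2.1
  have hCp : IsPGroup 2 C := hS.to_le hCr.1
  have hnd : ¬ p ∣ Nat.card C := by
    intro hdvd
    obtain ⟨k, hk⟩ := IsPGroup.iff_card.1 hCp
    rw [hk] at hdvd
    exact hp2 ((Nat.prime_dvd_prime_iff_eq hp.out Nat.prime_two).1 (hp.out.dvd_of_dvd_pow hdvd))
  have hstab : ∀ e ∈ E, ∀ x ∈ S, Commute e ⁅e, x⁆ → Commute e x := by
    intro e he x hx hfix
    have hcR : ⁅e, x⁆ ∈ S := by
      rw [commutatorElement_def]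
      exact mul_mem (conj_mem_of_mem_normalizer (hn he) hx) (inv_mem hx)
    obtain ⟨k, hk⟩ := IsPGroup.iff_orderOf.1 hS ⟨_, hcR⟩
    rw [Subgroup.orderOf_mk] at hk
    exact commute_of_stab (hcop e he) (k := k) (by rw [← hk, pow_orderOf_eq_one]) hfix
  -- `E` is faithful on `C`
  have hfC : ∀ e ∈ E, e ∈ centralizer (C : Set G) → e = 1 := by
    intro e he hec
    refine hf e he (mem_centralizer_iff.2 fun x hx => (hstab e he x hx ?_).symm.eq)
    refine (mem_centralizer_iff.1 hec _ (hCr.2.2.2.2 ⟨?_, mem_centralizer_iff.2 fun c hc => ?_⟩)).symm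
    · rw [commutatorElement_def]
      exact mul_mem (conj_mem_of_mem_normalizer (hn he) hx) (S.inv_mem hx)
    · have hcx : x⁻¹ * c * x ∈ C := by
        simpa using conj_mem_of_mem_normalizer (hCr.2.1 (le_normalizer (S.inv_mem hx))) hc
      have hd : Commute e c := (mem_centralizer_iff.1 hec c hc).symm
      have hd' : Commute e (x⁻¹ * c * x) := (mem_centralizer_iff.1 hec _ hcx).symm
      rw [commutatorElement_def]
      calc c * (e * x * e⁻¹ * x⁻¹) = (c * e) * x * e⁻¹ * x⁻¹ := by group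
        _ = (e * c) * x * e⁻¹ * x⁻¹ := by rw [hd.eq]
        _ = e * x * ((x⁻¹ * c * x) * e⁻¹) * x⁻¹ := by group
        _ = e * x * (e⁻¹ * (x⁻¹ * c * x)) * x⁻¹ := by rw [hd'.inv_left.eq]
        _ = e * x * e⁻¹ * x⁻¹ * c := by group
  have hgen : ∀ F : Subgroup G, (∀ B : Subgroup G, B ≤ E → B.relIndex E = p →
      C ⊓ centralizer (B : Set G) ≤ F) → C ≤ F := fun F hF =>
    Signalizer.le_of_forall_relIndex_eq hE hEne hnd hnC hF
  set Z := C ⊓ centralizer (C : Set G) with hZ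
  have hnZ : E ≤ normalizer (Z : Set G) := fun e he =>
    normalizer_inf_le (hnC he) (mem_normalizer_centralizer (hnC he))
  have hZcomm : ∀ x ∈ Z, ∀ y ∈ Z, Commute x y := fun x hx y hy =>
    mem_centralizer_iff.1 hy.2 x hx.1
  have hsqZ : ∀ x ∈ C, x * x ∈ Z := fun x hx => ⟨mul_mem hx hx, hCr.2.2.2.1 x hx⟩
  let Ω : Subgroup G :=
    { carrier := {z | z ∈ Z ∧ z * z = 1}
      one_mem' := ⟨one_mem _, one_mul 1⟩
      mul_mem' := fun {a b} ha hb => ⟨mul_mem ha.1 hb.1, by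
        rw [(hZcomm a ha.1 b hb.1).symm.mul_mul_mul_comm, ha.2, hb.2, one_mul]⟩
      inv_mem' := fun {a} ha => ⟨inv_mem ha.1, by rw [← mul_inv_rev, ha.2, inv_one]⟩ }
  have hΩe : IsElementaryAbelian 2 Ω :=
    ⟨⟨⟨fun a b => Subtype.ext (hZcomm _ a.2.1 _ b.2.1)⟩⟩,
      fun a ha => by rw [pow_two]; exact ha.2⟩
  by_cases hΩ8 : 8 ≤ Nat.card Ω
  · exact ⟨Ω, fun z hz => hCr.1 hz.1.1, hΩe, hΩ8⟩
  have hΩ4 : Nat.card Ω ≤ 4 := by
    obtain ⟨k, hk⟩ := IsPGroup.iff_card.1 (Signalizer.isPGroup_of_elab hΩe : IsPGroup 2 Ω)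
    rw [hk] at hΩ8 ⊢
    have : k < 3 := by
      by_contra hcon
      exact hΩ8 ((by norm_num : (8 : ℕ) = 2 ^ 3) ▸ Nat.pow_le_pow_right (by norm_num) (by omega))
    exact (by norm_num : (4 : ℕ) = 2 ^ 2) ▸ Nat.pow_le_pow_right (by norm_num) (by omega)
  have hsup : ∀ {B : Subgroup G} {e : G}, B ≤ E → B.relIndex E = p → e ∈ E → e ∉ B →
      E ≤ B ⊔ zpowers e := by
    intro B e hB hidx he heB
    have h2 : (B ⊔ zpowers e).relIndex E ∣ p := hidx ▸ relIndex_dvd_of_le_left E le_sup_left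
    rcases (Nat.dvd_prime hp.out).1 h2 with e2 | e2
    · exact relIndex_eq_one.1 e2
    · exfalso
      have h3 := relIndex_mul_relIndex B (B ⊔ zpowers e) E le_sup_left
        (sup_le hB (zpowers_le.2 he))
      rw [e2, hidx] at h3
      exact heB (relIndex_eq_one.1 (mul_eq_right₀ hp.out.ne_zero |>.1 h3)
        (mem_sup_right (mem_zpowers e)))
  by_cases hfix : ∀ e ∈ E, ∀ z ∈ Ω, Commute e z
  swap
  · -- a moved four group at the centre
    push Not at hfix
    obtain ⟨e₁, he₁, z₁, hz₁, hne₁⟩ := hfix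
    have hnΩ : E ≤ normalizer (Ω : Set G) := fun e he => mem_normalizer_of_conj fun z hz =>
      ⟨conj_mem_of_mem_normalizer (hnZ he) hz.1, by
        rw [show e * z * e⁻¹ * (e * z * e⁻¹) = e * (z * z) * e⁻¹ by group, hz.2]; group⟩
    obtain ⟨B₀, hB₀, hidx₀, z, hz, hzB, e₀, he₀, hne⟩ : ∃ B, B ≤ E ∧ B.relIndex E = p ∧
        ∃ z ∈ Ω, z ∈ centralizer (B : Set G) ∧ ∃ e ∈ E, ¬ Commute e z := by
      by_contra hcon
      push Not at hcon
      have hndΩ : ¬ p ∣ Nat.card Ω := fun hd => hnd (hd.trans (card_dvd_of_le fun z hz => hz.1.1))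
      have := Signalizer.le_of_forall_relIndex_eq hE hEne hndΩ hnΩ (D := centralizer (E : Set G))
        fun B hB hidx w hw => mem_centralizer_iff.2 fun e he =>
          (hcon B hB hidx w hw.1 hw.2 e he).eq
      exact hne₁ (mem_centralizer_iff.1 (this hz₁) e₁ he₁)
    have hΩdist : ∀ w ∈ Ω, w = 1 ∨ w = z ∨ w = e₀ * z * e₀⁻¹ ∨ w = z * (e₀ * z * e₀⁻¹) := by
      intro w hw
      by_contra hcon
      push Not at hcon
      obtain ⟨h1, h2, h3, h4⟩ := hcon
      have hz1 : z ≠ 1 := fun e => hne (e ▸ Commute.one_right e₀)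
      set z' := e₀ * z * e₀⁻¹ with hz'
      have hz' : z' ∈ Ω := conj_mem_of_mem_normalizer (hnΩ he₀) hz
      have hz'1 : z' ≠ 1 := fun e => hz1 (conj_eq_one_iff.1 e)
      have hzz' : z ≠ z' := fun e => hne (commute_of_conj_eq e.symm)
      have hprod : z * z' ≠ 1 := fun e =>
        hzz' ((inv_of_sq_one hz.2).symm.trans (inv_eq_of_mul_eq_one_right e))
      have hzp : z * z' ≠ z := fun e => hz'1 (mul_eq_left.mp e)
      have hz'p : z * z' ≠ z' := fun e => hz1 (mul_eq_right.mp e)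
      classical
      have h5 : ({1, z, z', z * z', w} : Finset G).card = 5 := by
        simp [Finset.card_insert_of_notMem, Ne.symm hz1, Ne.symm hz'1, hzz', Ne.symm hprod,
          Ne.symm hzp, Ne.symm hz'p, Ne.symm h1, Ne.symm h2, Ne.symm h3, Ne.symm h4]
      have hsub : (({1, z, z', z * z', w} : Finset G) : Set G) ⊆ Ω := by
        intro y hy
        simp only [Finset.coe_insert, Finset.coe_singleton, Set.mem_insert_iff,
          Set.mem_singleton_iff] at hy
        rcases hy with rfl | rfl | rfl | rfl | rfl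
        exacts [one_mem Ω, hz, hz', mul_mem hz hz', hw]
      have := Set.ncard_le_ncard hsub (Set.toFinite _)
      rw [Set.ncard_coe_finset, h5, ← Nat.card_coe_set_eq] at this
      exact absurd (this.trans hΩ4) (by norm_num)
    have hB₀Ω : ∀ b ∈ B₀, ∀ w ∈ Ω, Commute b w := by
      intro b hb w hw
      have h1 : Commute b z := mem_centralizer_iff.1 hzB b hb
      have h2 : Commute b e₀ := hEcomm b (hB₀ hb) e₀ he₀
      rcases hΩdist w hw with rfl | rfl | rfl | rfl
      · exact Commute.one_right b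
      · exact h1
      · exact (h2.mul_right h1).mul_right h2.inv_right
      · exact h1.mul_right ((h2.mul_right h1).mul_right h2.inv_right)
    obtain ⟨B, hB, hidx, u, hu, huB, b₀, hb₀, hub⟩ : ∃ B, B ≤ E ∧ B.relIndex E = p ∧
        ∃ u ∈ C, u ∈ centralizer (B : Set G) ∧ ∃ b ∈ B₀, ¬ Commute b u := by
      by_contra hcon
      push Not at hcon
      have hCB : C ≤ centralizer (B₀ : Set G) := hgen _ fun B hB hidx w hw =>
        mem_centralizer_iff.2 fun b hb => (hcon B hB hidx w hw.1 hw.2 b hb).eq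
      have hbot : B₀ = ⊥ := (Subgroup.eq_bot_iff_forall _).2 fun b hb => hfC b (hB₀ hb)
        (mem_centralizer_iff.2 fun c hc => ((mem_centralizer_iff.1 (hCB hc)) b hb).symm)
      rw [hbot, relIndex_bot_left] at hidx₀
      rw [hidx₀] at hcard
      exact absurd hcard (not_le.mpr (by
        calc p = p ^ 1 := (pow_one p).symm
          _ < p ^ 3 := Nat.pow_lt_pow_right hp.out.one_lt (by norm_num)))
    have hBne : ¬ B ≤ B₀ := fun hle => hub (by
      have e : B = B₀ := by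
        refine le_antisymm hle fun b hb => ?_
        by_contra hbB
        obtain ⟨f, hf, hfB⟩ : ∃ f ∈ E, f ∉ B₀ := by
          by_contra! hcon
          rw [relIndex_eq_one.2 (fun e he => hcon e he)] at hidx₀
          exact hp.out.ne_one hidx₀.symm
        exact hfB ((hsup hB hidx (hB₀ hb) hbB).trans
          (sup_le hle (zpowers_le.2 hb)) hf)
      exact mem_centralizer_iff.1 huB b₀ (e ▸ hb₀))
    obtain ⟨f, hfB, hfB₀⟩ := SetLike.not_le_iff_exists.1 hBne
    have hzf : ¬ Commute f z := fun hc => hne (by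
      have : E ≤ centralizer ({z} : Set G) := (hsup hB₀ hidx₀ (hB hfB) hfB₀).trans (sup_le
        (fun b hb => mem_centralizer_singleton_of (mem_centralizer_iff.1 hzB b hb))
        (zpowers_le.2 (mem_centralizer_singleton_of hc)))
      exact commute_of_mem_centralizer_singleton (this he₀))
    have hu2 : u * u = 1 := by
      by_contra hu2
      obtain ⟨k, hk⟩ := IsPGroup.iff_orderOf.1 hCp ⟨u * u, mul_mem hu hu⟩
      rw [Subgroup.orderOf_mk] at hk
      obtain ⟨k, rfl⟩ : ∃ l, k = l + 1 := Nat.exists_eq_succ_of_ne_zero fun e => hu2 (by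
        rwa [e, pow_zero, orderOf_eq_one_iff] at hk)
      set v := (u * u) ^ 2 ^ k with hv
      have hvΩ : v ∈ Ω := ⟨pow_mem (hsqZ u hu) _, by
        rw [hv, ← pow_add, show 2 ^ k + 2 ^ k = 2 ^ (k + 1) by ring, ← hk, pow_orderOf_eq_one]⟩
      have hv1 : v ≠ 1 := fun e => by
        have := orderOf_dvd_of_pow_eq_one e
        rw [hk] at this
        have := (Nat.pow_dvd_pow_iff_le_right (by norm_num : 1 < 2)).1 this
        omega
      have hfu : Commute f u := mem_centralizer_iff.1 huB f hfB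
      have hfv : Commute f v := ((hfu.mul_right hfu).pow_right _)
      -- `f` fixes a nonidentity element of the four group, so all of it
      apply hzf
      have hev : ∀ e ∈ E, Commute e v := fun e he => commute_of_mem_centralizer_singleton
        (((hsup hB₀ hidx₀ (hB hfB) hfB₀).trans (sup_le
          (fun b hb => mem_centralizer_singleton_of (hB₀Ω b hb v hvΩ))
          (zpowers_le.2 (mem_centralizer_singleton_of hfv)))) he)
      exfalso
      have he₀v := conj_eq_of_commute (hev e₀ he₀)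
      rcases hΩdist v hvΩ with e | e | e | e
      · exact hv1 e
      · exact hne (e ▸ hev e₀ he₀)
      · have hvz : v = z := (MulAut.conj e₀).injective (he₀v.trans e)
        exact hne (hvz ▸ hev e₀ he₀)
      · rw [e] at he₀v
        set z' := e₀ * z * e₀⁻¹ with hz'
        have hz'Ω : z' ∈ Ω := conj_mem_of_mem_normalizer (hnΩ he₀) hz
        have h2 : z' * (e₀ * z' * e₀⁻¹) = z * z' := by rw [← he₀v, hz']; group
        have h3 : e₀ * z' * e₀⁻¹ = z := by
          have := congrArg (fun y => z'⁻¹ * y) h2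
          simp only [inv_mul_cancel_left] at this
          rw [this, inv_of_sq_one hz'Ω.2, ← mul_assoc, (hZcomm _ hz'Ω.1 _ hz.1).eq, mul_assoc,
            hz'Ω.2, mul_one]
        have h4 : Commute (e₀ * e₀) z :=
          commute_of_conj_eq (Eq.trans (by rw [hz']; group) h3)
        obtain ⟨s, hs⟩ := hp.out.odd_of_ne_two hp2
        have h5 : e₀ = (e₀ * e₀) ^ (s + 1) := by
          rw [← pow_two, ← pow_mul, show 2 * (s + 1) = p + 1 by omega, pow_succ, hE.2 e₀ he₀,
            one_mul]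
        exact hne (h5 ▸ h4.pow_left _)
    have huΩ : u ∉ Ω := fun hh => hub (hB₀Ω b₀ hb₀ u hh)
    have huc : u ∈ centralizer (Ω : Set G) := mem_centralizer_iff.2 fun w hw =>
      (mem_centralizer_iff.1 hw.1.2 u hu).symm
    refine ⟨Ω ⊔ zpowers u, sup_le (fun w hw => hCr.1 hw.1.1) (zpowers_le.2 (hCr.1 hu)),
      OddOrder.BG11.elem_sup_zpowers hΩe (by rw [pow_two, hu2]) huc, ?_⟩
    rw [card_elem_sup (p := 2) (by rw [pow_two, hu2]) huc huΩ]
    have hz1 : z ≠ 1 := fun e => hne (e ▸ Commute.one_right e₀)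
    have h4 : 2 ^ 2 ≤ Nat.card Ω := by
      obtain ⟨k, hk⟩ := IsPGroup.iff_card.1 (Signalizer.isPGroup_of_elab hΩe : IsPGroup 2 Ω)
      rw [hk]
      refine Nat.pow_le_pow_right (by norm_num) ?_
      by_contra hcon
      have h2 : Nat.card Ω ≤ Nat.card (zpowers z) := by
        rw [hk, Nat.card_zpowers, orderOf_two_of hz.2 hz1]
        calc 2 ^ k ≤ 2 ^ 1 := Nat.pow_le_pow_right (by norm_num) (by omega)
          _ = 2 := pow_one 2
      have := (Subgroup.eq_of_le_of_card_ge (zpowers_le.2 hz) h2).ge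
        (conj_mem_of_mem_normalizer (hnΩ he₀) hz)
      rcases mem_zpowers_involution hz.2 this with e | e
      · exact hz1 (conj_eq_one_iff.1 e)
      · exact hne (commute_of_conj_eq e)
    omega
  -- the centre is fixed
  have hZfix : ∀ e ∈ E, ∀ z ∈ Z, Commute e z := fun e he z hz =>
    (mem_centralizer_iff.1 (mem_centralizer_of_abelian_two (hCp.to_le inf_le_left) hZcomm
      (odd_orderOf_of_pow hp2 (k := 1) (by rw [pow_one]; exact hE.2 e he)) (hnZ he)
      fun x hx hx2 => hfix e he x ⟨hx, hx2⟩) z hz).symm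
  have key : ∀ x ∈ C, ∀ e ∈ E, ∀ u ∈ C, Commute e x → Commute x ⁅e, u⁆ := by
    intro x hx e he u hu hex
    have hu' : e * u * e⁻¹ ∈ C := conj_mem_of_mem_normalizer (hnC he) hu
    have h1 : ∀ v ∈ C, ⁅x, v⁆ ∈ Z := fun v hv => hCr.2.2.1 x hx v (hCr.1 hv)
    have h' : ⁅x, e * u * e⁻¹⁆ = ⁅x, u⁆ := by
      rw [← conj_eq_of_commute hex, ← conj_commutator, conj_eq_of_commute hex]
      exact conj_eq_of_commute (hZfix e he _ (h1 u hu))
    rw [← commutatorElement_eq_one_iff_commute, show ⁅e, u⁆ = e * u * e⁻¹ * u⁻¹ from rfl]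
    set c := ⁅x, u⁆ with hc
    have e3 : ⁅x, e * u * e⁻¹ * u⁻¹⁆ =
        ⁅x, e * u * e⁻¹⁆ * ((e * u * e⁻¹) * u⁻¹ * c⁻¹ * u * (e * u * e⁻¹)⁻¹) := by
      rw [hc]; simp only [commutatorElement_def]; group
    have hcc : Commute (e * u * e⁻¹ * u⁻¹) c :=
      mem_centralizer_iff.1 (h1 u hu).2 _ (mul_mem hu' (inv_mem hu))
    rw [e3, h', hcc.inv_right.eq]
    group
  -- squares of commutators
  have hsqw : ∀ e ∈ E, ∀ u ∈ C, ⁅e, u⁆ * ⁅e, u⁆ ∈ Ω := by
    intro e he u hu
    set x' := e * u * e⁻¹ with hx'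
    have hx'C : x' ∈ C := conj_mem_of_mem_normalizer (hnC he) hu
    have hee : x' * x' = u * u := by
      rw [hx', show e * u * e⁻¹ * (e * u * e⁻¹) = e * (u * u) * e⁻¹ by group,
        conj_eq_of_commute (hZfix e he _ (hsqZ u hu))]
    have hcu : Commute (u * u)⁻¹ x' :=
      (show Commute (u * u) x' from (mem_centralizer_iff.1 (hsqZ u hu).2 x' hx'C).symm).inv_left
    have e2 : ⁅e, u⁆ * ⁅e, u⁆ = ⁅x', u⁻¹⁆ := by
      calc ⁅e, u⁆ * ⁅e, u⁆ = x' * u⁻¹ * x'⁻¹ * (x' * x' * (u * u)⁻¹) * u := by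
            rw [commutatorElement_def, hx']; group
        _ = x' * u⁻¹ * x'⁻¹ * u := by rw [hee, mul_inv_cancel, mul_one]
        _ = ⁅x', u⁻¹⁆ := by rw [commutatorElement_def, inv_inv]
    rw [e2]
    have hcZ : ⁅x', u⁻¹⁆ ∈ Z := hCr.2.2.1 x' hx'C _ (hCr.1 (inv_mem hu))
    refine ⟨hcZ, ?_⟩
    have hxx : Commute (x' * x') u⁻¹ :=
      (show Commute (x' * x') u from (mem_centralizer_iff.1 (hsqZ x' hx'C).2 u hu).symm).inv_right
    rw [← pow_two, ← OddOrder.Stab.commutatorElement_pow_left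
      (show Commute x' ⁅x', u⁻¹⁆ from mem_centralizer_iff.1 hcZ.2 x' hx'C) 2, pow_two]
    exact commutatorElement_eq_one_iff_commute.2 hxx
  let Act : Subgroup G → Prop := fun B =>
    B ≤ E ∧ B.relIndex E = p ∧ ¬ E ≤ centralizer ((C ⊓ centralizer (B : Set G) : Subgroup G) : Set G)
  have hsep : ∀ d ∈ E, d ≠ 1 → ∃ B, Act B ∧ d ∉ B := by
    intro d hd hd1
    by_contra hcon
    push Not at hcon
    refine hd1 (hfC d hd (mem_centralizer_iff.2 fun x hx => ?_))
    refine (commute_of_mem_centralizer_singleton (hgen (centralizer ({d} : Set G))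
      (fun B hB hidx w hw => mem_centralizer_singleton_of ?_) hx)).eq
    by_cases hact : Act B
    · exact (mem_centralizer_iff.1 hw.2 d (hcon B hact)).symm
    · have : E ≤ centralizer ((C ⊓ centralizer (B : Set G) : Subgroup G) : Set G) := by
        by_contra hh; exact hact ⟨hB, hidx, hh⟩
      exact mem_centralizer_iff.1 (this hd) w hw
  have hE1 : ∃ d ∈ E, d ≠ 1 := by
    by_contra! hcon
    exact hEne ((Subgroup.eq_bot_iff_forall _).2 hcon)
  obtain ⟨d₁, hd₁, hd₁1⟩ := hE1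
  obtain ⟨B₁, hB₁, -⟩ := hsep d₁ hd₁ hd₁1
  have hbig : ∀ B, B ≤ E → B.relIndex E = p → p * p ≤ Nat.card B := by
    intro B hB hidx
    have h1 := relIndex_mul_relIndex (⊥ : Subgroup G) B E bot_le hB
    rw [relIndex_bot_left, relIndex_bot_left, hidx] at h1
    rw [← h1, pow_succ, pow_two] at hcard
    exact Nat.le_of_mul_le_mul_right hcard hp.out.pos
  have hne_bot : ∀ B, B ≤ E → B.relIndex E = p → ∃ d ∈ B, d ≠ 1 := by
    intro B hB hidx
    by_contra! hcon
    have h1 := hbig B hB hidx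
    rw [(Subgroup.eq_bot_iff_forall B).2 hcon, card_bot] at h1
    have := hp.out.two_le
    nlinarith
  obtain ⟨d₂, hd₂, hd₂1⟩ := hne_bot B₁ hB₁.1 hB₁.2.1
  obtain ⟨B₂, hB₂, hd₂B⟩ := hsep d₂ (hB₁.1 hd₂) hd₂1
  -- a nonidentity element of `B₁ ∩ B₂`
  obtain ⟨d, hd, hd1⟩ : ∃ d ∈ B₁ ⊓ B₂, d ≠ 1 := by
    by_contra! hcon
    obtain ⟨g, hg, hgd⟩ : ∃ g ∈ B₁, g ∉ zpowers d₂ := by
      by_contra! hcon'
      have h1 := (hbig B₁ hB₁.1 hB₁.2.1).trans (Nat.le_of_dvd Nat.card_pos (card_dvd_of_le hcon'))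
      rw [Nat.card_zpowers, orderOf_eq_prime (hE.2 d₂ (hB₁.1 hd₂)) hd₂1] at h1
      have := hp.out.two_le
      nlinarith
    obtain ⟨b, hb, k, hk⟩ := mem_sup_zpowers (A := B₂) (x := d₂)
      (mem_centralizer_iff.2 fun b hb => hEcomm b (hB₂.1 hb) d₂ (hB₁.1 hd₂))
      (hsup hB₂.1 hB₂.2.1 (hB₁.1 hd₂) hd₂B (hB₁.1 hg))
    have hb1 : b ∈ B₁ := by
      rw [eq_mul_inv_of_mul_eq hk.symm]
      exact mul_mem hg (inv_mem (zpow_mem hd₂ k))
    rw [hcon b ⟨hb1, hb⟩, one_mul] at hk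
    exact hgd (hk ▸ zpow_mem (mem_zpowers d₂) k)
  obtain ⟨B₃, hB₃, hdB₃⟩ := hsep d (hB₁.1 hd.1) hd1
  have hadj : ∀ {B B' : Subgroup G}, Act B → Act B' → d ∈ B → d ∈ B' → B ≠ B' →
      ∃ f, f ∈ B ∧ f ∈ B₃ ∧ f ∉ B' := by
    intro B B' hB hB' hdB hdB' hne
    by_contra! hcon
    refine hne (Subgroup.eq_of_le_of_card_ge (fun g hg => ?_) ?_)
    · obtain ⟨b, hb, k, hk⟩ := mem_sup_zpowers (A := B₃) (x := d)
        (mem_centralizer_iff.2 fun b hb => hEcomm b (hB₃.1 hb) d (hB.1 hdB))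
        (hsup hB₃.1 hB₃.2.1 (hB.1 hdB) hdB₃ (hB.1 hg))
      have hb1 : b ∈ B := by
        rw [eq_mul_inv_of_mul_eq hk.symm]
        exact mul_mem hg (inv_mem (zpow_mem hdB k))
      rw [hk]
      exact mul_mem (hcon b hb1 hb) (zpow_mem hdB' k)
    · have h1 := relIndex_mul_relIndex (⊥ : Subgroup G) B E bot_le hB.1
      have h2 := relIndex_mul_relIndex (⊥ : Subgroup G) B' E bot_le hB'.1
      rw [relIndex_bot_left, relIndex_bot_left, hB.2.1] at h1
      rw [relIndex_bot_left, relIndex_bot_left, hB'.2.1] at h2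
      exact le_of_eq (Nat.eq_of_mul_eq_mul_right hp.out.pos (h2.trans h1.symm))
  have hne12 : B₁ ≠ B₂ := fun e => hd₂B (e ▸ hd₂)
  obtain ⟨f₂, hf₂1, hf₂3, hf₂2⟩ := hadj hB₁ hB₂ hd.1 hd.2 hne12
  obtain ⟨f₁, hf₁2, hf₁3, hf₁1⟩ := hadj hB₂ hB₁ hd.2 hd.1 (Ne.symm hne12)
  -- moved elements
  have hmoved : ∀ {B : Subgroup G} {e : G}, Act B → e ∈ E → e ∉ B →
      ∃ w ∈ C, w ∈ centralizer (B : Set G) ∧ ¬ Commute e w ∧ w * w ∈ Ω ∧
        ∀ x ∈ C, Commute e x → Commute x w := by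
    intro B e hB he heB
    obtain ⟨u, hu, hue⟩ : ∃ u ∈ C ⊓ centralizer (B : Set G), ¬ Commute e u := by
      by_contra! hcon
      refine hB.2.2 ((hsup hB.1 hB.2.1 he heB).trans (sup_le (fun b hb => ?_) (zpowers_le.2 ?_)))
      · exact mem_centralizer_iff.2 fun u hu => (mem_centralizer_iff.1 hu.2 b hb).symm
      · exact mem_centralizer_iff.2 fun u hu => (hcon u hu).symm.eq
    refine ⟨⁅e, u⁆, ?_, ?_, fun hc => hue (hstab e he u (hCr.1 hu.1) hc), hsqw e he u hu.1,
      fun x hx hex => key x hx e he u hu.1 hex⟩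
    · rw [commutatorElement_def]
      exact mul_mem (conj_mem_of_mem_normalizer (hnC he) hu.1) (inv_mem hu.1)
    · refine mem_centralizer_iff.2 fun b hb => Commute.eq ?_
      have hbe : Commute b e := hEcomm b (hB.1 hb) e he
      have hbu : Commute b u := mem_centralizer_iff.1 hu.2 b hb
      rw [commutatorElement_def]
      exact ((hbe.mul_right hbu).mul_right hbe.inv_right).mul_right hbu.inv_right
  obtain ⟨w₁, hw₁C, hw₁B, hw₁e, hw₁2, hw₁c⟩ := hmoved hB₁ (hB₂.1 hf₁2) hf₁1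
  obtain ⟨w₂, hw₂C, hw₂B, hw₂e, hw₂2, hw₂c⟩ := hmoved hB₂ (hB₁.1 hf₂1) hf₂2
  obtain ⟨w₃, hw₃C, hw₃B, hw₃e, hw₃2, hw₃c⟩ := hmoved hB₃ (hB₁.1 hd.1) hdB₃
  have hc12 : Commute w₁ w₂ := hw₂c w₁ hw₁C (mem_centralizer_iff.1 hw₁B f₂ hf₂1)
  have hc13 : Commute w₁ w₃ := hw₃c w₁ hw₁C (mem_centralizer_iff.1 hw₁B d hd.1)
  have hc23 : Commute w₂ w₃ := hw₃c w₂ hw₂C (mem_centralizer_iff.1 hw₂B d hd.2)
  set W := Subgroup.closure (({w₁, w₂, w₃} : Set G) ∪ Ω) with hW
  have hWcomm : IsMulCommutative W := by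
    have hzc : ∀ {z w : G}, z ∈ Ω → w ∈ C → Commute w z := fun hz hw =>
      mem_centralizer_iff.1 hz.1.2 _ hw
    refine isMulCommutative_closure fun a ha b hb => ?_
    rcases ha with (rfl | rfl | rfl) | ha <;> rcases hb with (rfl | rfl | rfl) | hb
    exacts [rfl, hc12.eq, hc13.eq, (hzc hb hw₁C).eq, hc12.symm.eq, rfl, hc23.eq, (hzc hb hw₂C).eq,
      hc13.symm.eq, hc23.symm.eq, rfl, (hzc hb hw₃C).eq, (hzc ha hw₁C).symm.eq,
      (hzc ha hw₂C).symm.eq, (hzc ha hw₃C).symm.eq, (hZcomm a ha.1 b hb.1).eq]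
  have hwc : ∀ a ∈ W, ∀ b ∈ W, Commute a b := fun a ha b hb =>
    setLike_mul_comm (s := W) ha hb
  have hWC : W ≤ C := (closure_le _).2 (by
    rintro a ((rfl | rfl | rfl) | ha)
    exacts [hw₁C, hw₂C, hw₃C, ha.1.1])
  have hWsq : ∀ a ∈ W, a * a ∈ Ω := by
    intro a ha
    induction ha using Subgroup.closure_induction with
    | mem a ha =>
      rcases ha with (rfl | rfl | rfl) | ha
      exacts [hw₁2, hw₂2, hw₃2, mul_mem ha ha]
    | one => rw [mul_one]; exact one_mem Ω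
    | mul a b ha hb iha ihb =>
      rw [(hwc a ha b hb).symm.mul_mul_mul_comm]; exact mul_mem iha ihb
    | inv a _ iha => rw [← mul_inv_rev]; exact inv_mem iha
  let ψ : ↥W →* ↥Ω :=
    { toFun := fun a => ⟨(a : G) * a, hWsq a a.2⟩
      map_one' := Subtype.ext (one_mul (1 : G))
      map_mul' := fun a b => Subtype.ext ((hwc a a.2 b b.2).symm.mul_mul_mul_comm _ _) }
  set K := ψ.ker.map W.subtype with hK
  refine ⟨K, fun k hk => hCr.1 (hWC (map_subtype_le _ hk)), ⟨⟨⟨fun a b => Subtype.ext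
    (hwc a (map_subtype_le _ a.2) b (map_subtype_le _ b.2))⟩⟩, ?_⟩, ?_⟩
  · rintro _ ⟨a, ha, rfl⟩
    rw [pow_two]
    exact congrArg Subtype.val ha
  have hmemW : ∀ w ∈ ({w₁, w₂, w₃} : Set G), w ∈ W := fun w hw => subset_closure (Or.inl hw)
  let f : Fin 2 × Fin 2 × Fin 2 × ↥Ω → ↥W := fun a => ⟨w₃ ^ (a.1 : ℕ) * (w₂ ^ (a.2.1 : ℕ) *
    (w₁ ^ (a.2.2.1 : ℕ) * (a.2.2.2 : G))),
    mul_mem (pow_mem (hmemW _ (by simp)) _) (mul_mem (pow_mem (hmemW _ (by simp)) _)
      (mul_mem (pow_mem (hmemW _ (by simp)) _) (subset_closure (Or.inr a.2.2.2.2))))⟩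
  have hinj : Function.Injective f := by
    rintro ⟨a, b, c, z⟩ ⟨a', b', c', z'⟩ e
    have e' := congrArg Subtype.val e
    simp only [f] at e'
    have hΩF : ∀ {g : G}, g ∈ E → ∀ z : ↥Ω, (z : G) ∈ centralizer ({g} : Set G) := fun hg z =>
      mem_centralizer_singleton_of (hfix _ hg z z.2).symm
    have hF : ∀ {g w : G}, Commute g w → ∀ n : ℕ, w ^ n ∈ centralizer ({g} : Set G) := fun hc n =>
      mem_centralizer_singleton_of (hc.pow_right n).symm
    have hr : ∀ (b c : Fin 2) (z : ↥Ω), w₂ ^ (b : ℕ) * (w₁ ^ (c : ℕ) * (z : G)) ∈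
        centralizer ({d} : Set G) := fun b c z =>
      mul_mem (hF (mem_centralizer_iff.1 hw₂B d hd.2) _)
        (mul_mem (hF (mem_centralizer_iff.1 hw₁B d hd.1) _) (hΩF (hB₁.1 hd.1) z))
    obtain ⟨rfl, e1⟩ := pow_fin_two_unique (F := centralizer ({d} : Set G))
      (fun hh => hw₃e (commute_of_mem_centralizer_singleton hh).symm) (hr b c z) (hr b' c' z') e'
    have hr2 : ∀ (c : Fin 2) (z : ↥Ω), w₁ ^ (c : ℕ) * (z : G) ∈ centralizer ({f₂} : Set G) :=
      fun c z => mul_mem (hF (mem_centralizer_iff.1 hw₁B f₂ hf₂1) _) (hΩF (hB₁.1 hf₂1) z)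
    obtain ⟨rfl, e2⟩ := pow_fin_two_unique (F := centralizer ({f₂} : Set G))
      (fun hh => hw₂e (commute_of_mem_centralizer_singleton hh).symm) (hr2 c z) (hr2 c' z') e1
    obtain ⟨rfl, e3⟩ := pow_fin_two_unique (F := centralizer ({f₁} : Set G))
      (fun hh => hw₁e (commute_of_mem_centralizer_singleton hh).symm) (hΩF (hB₂.1 hf₁2) z)
      (hΩF (hB₂.1 hf₁2) z') e2
    rw [Subtype.ext e3]
  have h8 := Nat.card_le_card_of_injective f hinj
  simp only [Nat.card_prod, Nat.card_fin] at h8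
  have h1 := ψ.ker.card_mul_index
  rw [index_ker] at h1
  have h2 : Nat.card ψ.range ≤ Nat.card Ω := Subgroup.card_le_card_group ψ.range
  rw [hK, card_map_of_injective W.subtype_injective]
  have h3 := Nat.card_pos (α := Ω)
  nlinarith [Nat.mul_le_mul_left (Nat.card ψ.ker) h2]

/-- An involution centralizing such a 2-group lies in an elementary group of order eight. -/
theorem inEight_of_central (hp2 : p ≠ 2) {S E : Subgroup G} (hS : IsPGroup 2 S)
    (hE : IsElementaryAbelian p E) (hcard : p ^ 3 ≤ Nat.card E)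
    (hn : E ≤ normalizer (S : Set G)) (hf : ∀ e ∈ E, e ∈ centralizer (S : Set G) → e = 1) {g : G}
    (hg : g * g = 1) (hgc : g ∈ centralizer (S : Set G)) : InEight g := by
  obtain ⟨V, hVS, hV, h8⟩ := exists_elem_eight hp2 hS hE hcard hn hf
  have hgV : g ∈ centralizer (V : Set G) := centralizer_le hVS hgc
  exact ⟨V ⊔ zpowers g, OddOrder.BG11.elem_sup_zpowers hV (by rw [pow_two, hg]) hgV,
    h8.trans (Nat.le_of_dvd Nat.card_pos (card_dvd_of_le le_sup_left)),
    mem_sup_right (mem_zpowers g)⟩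

end CfsgLib.LocalEven48.KlingerMason
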