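import Cfsg.Agent.LocalEven48.KlingerMason.Central

/-!
Klinger–Mason: the final contradiction in rank three.
-/

set_option autoImplicit false
set_option linter.unusedSectionVars false

namespace CfsgLib.LocalEven48.KlingerMason

open Subgroup Cfsg CfsgLib.CharPLocal CfsgLib.LocalStructure
open scoped commutatorElement

variable {G : Type*} [Group G] [Finite G] {p : ℕ} [hp : Fact p.Prime] {m : ℕ} {t : G}
  {E B₁ B₂ : Subgroup G} {x₁ z₁ x₂ z₂ b : G}

omit [Finite G] in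
theorem elem_zpowers {x : G} (hx : x ^ p = 1) : IsElementaryAbelian p (zpowers x) :=
  ⟨inferInstance, fun u hu => by
    obtain ⟨k, rfl⟩ := mem_zpowers_iff.1 hu
    rw [← zpow_natCast, ← zpow_mul, mul_comm, zpow_mul, zpow_natCast, hx, one_zpow]⟩

/-- A power prime to `p` of an element of order `p` generates it. -/
theorem mem_of_zpow_mem {x : G} {H : Subgroup G} (hx : x ^ p = 1) {n : ℤ} (hn : ¬ (p : ℤ) ∣ n)
    (h : x ^ n ∈ H) : x ∈ H := by
  by_cases hx1 : x = 1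
  · exact hx1 ▸ one_mem H
  have ho : orderOf x = p := orderOf_eq_prime hx hx1
  have hne : x ^ n ≠ 1 := fun e => hn (ho ▸ orderOf_dvd_iff_zpow_eq_one.2 e)
  have hp' : (x ^ n) ^ p = 1 := by
    rw [← zpow_natCast, ← zpow_mul, mul_comm, zpow_mul, zpow_natCast, hx, one_zpow]
  have heq : zpowers (x ^ n) = zpowers x :=
    Subgroup.eq_of_le_of_card_ge (zpowers_le.2 (zpow_mem (mem_zpowers x) n))
      (by rw [Nat.card_zpowers, Nat.card_zpowers, ho, orderOf_eq_prime hp' hne])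
  exact zpowers_le.2 h (heq.ge (mem_zpowers x))

namespace Cfg

/-- An inverted element centralizing `E` stays out of `C(E)` under a mover of an active
hyperplane. -/
theorem eq_one_of_conj_centralizes (h : Hyp G p m) (C : Cfg p m t E) {B : Subgroup G}
    (hB : Active p t E B) {x v : G} (hx : x ∈ sq t ⊓ centralizer (B : Set G)) (hx1 : x ≠ 1)
    (hxt : x ≠ t) (hvp : v ^ p = 1) (hvi : t * v * t⁻¹ = v⁻¹) (hv : v ∈ centralizer (E : Set G))
    (hxv : x * v * x⁻¹ ∈ centralizer (E : Set G)) : v = 1 := by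
  obtain ⟨e, he, heB⟩ : ∃ e ∈ E, e ∉ B := by
    by_contra hcon
    push Not at hcon
    have hEB : E = B := le_antisymm (fun e he => hcon e he) hB.1
    have := hB.2.1
    rw [hEB] at this
    have := hp.out.two_le
    have := Nat.card_pos (α := B)
    nlinarith
  have hex := C.conj_sq_inf h hB.1 he hx
  set i := x⁻¹ * (e * x * e⁻¹) with hi
  have him : i ∈ sq t ⊓ centralizer (B : Set G) := mul_mem (inv_mem hx) hex
  have hmv := C.moves h hB he heB hx hx1 hxt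
  have hine : i ≠ 1 ∧ i ≠ t := by
    constructor <;> intro ei
    · refine C.ne_one h (hmv.symm.trans (commutatorElement_eq_one_iff_commute.2 ?_))
      rw [show e * x * e⁻¹ = x * i by rw [hi]; group, ei, mul_one]
    · refine C.ne_one h (hmv.symm.trans (commutatorElement_eq_one_iff_commute.2 ?_))
      rw [show e * x * e⁻¹ = x * i by rw [hi]; group, ei]
      exact (Commute.refl x).mul_right (C.commute_core h (C.sq_le h hx.1))
  have hev : Commute e v := mem_centralizer_iff.1 hv e he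
  have hexv : Commute e (x * v * x⁻¹) := mem_centralizer_iff.1 hxv e he
  have hiv : Commute i v := by
    refine commute_of_conj_eq ?_
    calc i * v * i⁻¹ = x⁻¹ * (e * (x * (e⁻¹ * v * e⁻¹⁻¹) * x⁻¹) * e⁻¹) * x := by rw [hi]; group
      _ = x⁻¹ * (x * v * x⁻¹) * x := by
          rw [conj_eq_of_commute hev.inv_left, conj_eq_of_commute hexv]
      _ = v := by group
  refine eq_one_of_fixed_inverted hp.out h.odd hvp hvi ?_
  rw [← C.sq_eq_of_ne h hB him hine.1 hine.2]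
  exact hiv.mul_left hiv

variable (h : Hyp G p m) (C : Cfg p m t E) (F : Frame p t E B₁ B₂ x₁ z₁ x₂ z₂) (hm : m = 3)
  (hb : b ∈ B₁ ⊓ B₂) (hb1 : b ≠ 1)
include h C F hm hb hb1

theorem no_frame : False := by
  obtain ⟨y, E', B, B', d, C', hB, hB', hne, hd, hd1, hdt, hdz, hbE', hbB, hbB', htE', hBB', hy, hg,
    hE'⟩ := C.exists_dual h F hm hb hb1
  obtain ⟨u₀, v₀, u₀', v₀', F'⟩ := C'.exists_frame h hB hB' hne
  have hat : Commute (x₁ * x₂) t := C.commute_core h (C.sq_le h (C.a_mem h F))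
  have hz1a := C.z₁_conj_a h F
  have hacore : x₁ * x₂ ∈ coreT t := C.sq_le h (C.a_mem h F)
  have hatne : x₁ * x₂ ≠ t := (C.a_ne h F).2
  have hY'c : ∀ {u v : G}, u ∈ zc p (B₁ ⊓ B₂) b → v ∈ zc p (B₁ ⊓ B₂) b → Commute u v :=
    fun hu hv => C.zc_comm h F hm hb hb1 hu hv
  obtain ⟨hy'p, hy'1, hy'i, hy'a, hy'j, hy'A⟩ := C.good_conj h F hg
  have hy' : x₁ * y * x₁⁻¹ ∈ zc p (B₁ ⊓ B₂) b :=
    conj_mem_of_mem_normalizer (h.centralizer_le_normalizer_zc hb (C.x₁_centralizes h F)) hy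
  obtain ⟨hyp, hy1, hyi, hya, hyj, hyA⟩ := hg
  set a := x₁ * x₂ with ha
  set y' := x₁ * y * x₁⁻¹ with hy'def
  have hwE : ∀ w ∈ zc p (B₁ ⊓ B₂) b, w ∈ centralizer (E' : Set G) := fun w hw => by
    have hle : E' ≤ centralizer ({w} : Set G) := by
      rw [hE']
      exact sup_le (sup_le (fun v hv => mem_centralizer_singleton_of
        (mem_centralizer_iff.1 (h.zc_le _ b hw).2 v hv))
        (zpowers_le.2 (mem_centralizer_singleton_of (hY'c hy hw))))
        (zpowers_le.2 (mem_centralizer_singleton_of (hY'c hy' hw)))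
    exact mem_centralizer_iff.2 fun v hv => (commute_of_mem_centralizer_singleton (hle hv)).eq
  -- the group `Yd`
  have hdA : B ⊓ B' = zpowers d := C'.A_eq h F' hm hd hd1
  have hdp : orderOf d = p := C'.orderOf_mem h (hB.1 hd.1) hd1
  have hAdE : B ⊓ B' ≤ E' := inf_le_left.trans hB.1
  have hYc : ∀ u ∈ zc p (B ⊓ B') d, ∀ v ∈ zc p (B ⊓ B') d, Commute u v :=
    fun u hu v hv => C'.zc_comm h F' hm hd hd1 hu hv
  have hYz := C'.zc_central h F' hm hd hd1
  have hYn := h.centralizer_le_normalizer_zc (p := p) hd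
  have hYp := h.zc_isPGroup (B ⊓ B') d
  set Yd := zc p (B ⊓ B') d with hYd
  have hYd' : ∀ u ∈ Yd, Commute d u := fun u hu =>
    mem_centralizer_iff.1 (h.zc_le (B ⊓ B') d hu).2 d hd
  have htd : t ∈ normalizer (zpowers d : Set G) := mem_normalizer_of_conj fun v hv => by
    obtain ⟨k, rfl⟩ := mem_zpowers_iff.1 hv
    rw [← conj_zpow, hdt, inv_zpow]
    exact inv_mem (zpow_mem (mem_zpowers d) k)
  have htY : t ∈ normalizer (Yd : Set G) := by
    refine h.mem_normalizer_zc (normalizer_le_normalizer_pCoreOf _ ?_) (by rw [hdA]; exact htd)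
    have := mem_normalizer_centralizer htd
    rwa [zpowers_eq_closure, centralizer_closure] at this
  have haY : a ∈ normalizer (Yd : Set G) := hYn (C'.t_mem_centralizer h hAdE)
  -- the elements of `Yd` inverted by `a`
  obtain ⟨V, hV⟩ : ∃ V : Subgroup G, ∀ u, u ∈ V ↔ u ∈ Yd ∧ a * u * a⁻¹ = u⁻¹ :=
    ⟨{ carrier := {u | u ∈ Yd ∧ a * u * a⁻¹ = u⁻¹}
       one_mem' := ⟨one_mem _, by group⟩
       mul_mem' := fun {u v} hu hv => ⟨mul_mem hu.1 hv.1, by
         rw [← conj_mul, hu.2, hv.2, mul_inv_rev, ((hYc u hu.1 v hv.1).inv_inv).eq]⟩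
       inv_mem' := fun {u} hu => ⟨inv_mem hu.1, by rw [← conj_inv, hu.2]⟩ }, fun u => Iff.rfl⟩
  have hVY : V ≤ Yd := fun u hu => ((hV u).1 hu).1
  have hVc : ∀ u ∈ V, ∀ v ∈ V, Commute u v := fun u hu v hv => hYc u (hVY hu) v (hVY hv)
  have hVpow : ∀ u ∈ V, u ^ p = 1 := fun u hu => h.zc_pow _ d (hVY hu)
  have hVconj : ∀ g, Commute g a → g ∈ normalizer (Yd : Set G) → ∀ u ∈ V, g * u * g⁻¹ ∈ V := by
    intro g hga hgY u hu
    refine (hV _).2 ⟨conj_mem_of_mem_normalizer hgY (hVY hu), ?_⟩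
    calc a * (g * u * g⁻¹) * a⁻¹ = (a * g) * u * (a * g)⁻¹ := by group
      _ = (g * a) * u * (g * a)⁻¹ := by rw [hga.eq]
      _ = g * (a * u * a⁻¹) * g⁻¹ := by group
      _ = (g * u * g⁻¹)⁻¹ := by rw [((hV u).1 hu).2, conj_inv]
  have hEn : E' ≤ normalizer (V : Set G) := fun e he => mem_normalizer_of_conj
    (hVconj e (commute_of_mem_centralizer_singleton (C'.le he))
      (hYn (C'.E_le_centralizer h hAdE he)))
  obtain ⟨v, hvY, -, hv1, hvi⟩ := exists_inverted h.odd hYp (C'.sq_t h) haY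
    (h.not_centralizes_zc hdp (C'.cube h (hAdE hd)) (C'.elem_of_le h hAdE) hd C'.two (C'.t_mem_centralizer h hAdE))
  obtain ⟨z, hzV, hz1, hzp, hzE⟩ := exists_fixed_prime (C'.isPGroup h) (hYp.to_le hVY) hEn
    (fun e => hv1 (by have := (hV v).2 ⟨hvY, hvi⟩; rwa [e, mem_bot] at this))
  -- `t` inverts `z`
  have hzt : t * z * t⁻¹ = z⁻¹ := by
    have hz'V : t * z * t⁻¹ ∈ V := hVconj t hat.symm htY z hzV
    set w := z * (t * z * t⁻¹) with hw
    have hwV : w ∈ V := mul_mem hzV hz'V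
    have hwt : Commute t w := commute_of_conj_eq (by
      rw [hw, ← conj_mul, conj_conj_of_sq_one (C.sq_t h)]
      exact (hVc _ hz'V _ hzV).eq)
    have hwa : w * a * w⁻¹ * a⁻¹ = w * w := by
      have e := ((hV w).1 hwV).2
      rw [show w * a * w⁻¹ * a⁻¹ = w * (a * w * a⁻¹)⁻¹ by group, e, inv_inv]
    have hww : w * w ∈ coreT t := hwa ▸ mul_mem (conj_mem_of_mem_normalizer
      (centralizer_le_normalizer_coreT t (mem_centralizer_singleton_of hwt.symm)) hacore)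
      (inv_mem hacore)
    have hw2 : w * w = 1 := by
      refine orderOf_eq_one_iff.1 (Nat.eq_one_of_dvd_coprimes
        (coprime_orderOf_of_coreT (p := p) h.odd hww) dvd_rfl (orderOf_dvd_of_pow_eq_one ?_))
      rw [← pow_two, ← pow_mul, mul_comm, pow_mul, hVpow w hwV, one_pow]
    have hw1 : w = 1 := eq_one_of_inv_eq' hp.out h.odd (hVpow w hwV)
      (inv_eq_of_mul_eq_one_right hw2)
    exact eq_inv_of_mul_eq_one_right (hw ▸ hw1)
  have hta : ∀ u ∈ V, t * u * t⁻¹ = u⁻¹ → Commute u (t * a) := by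
    intro u hu hut
    refine (commute_of_conj_eq ?_).symm
    calc t * a * u * (t * a)⁻¹ = t * (a * u * a⁻¹) * t⁻¹ := by group
      _ = u := by rw [((hV u).1 hu).2, ← conj_inv, hut, inv_inv]
  -- the involutions attached to movers of `B`
  have hsB' : ∀ x ∈ sq a ⊓ centralizer (B : Set G),
      t * x * t⁻¹ ∈ sq a ⊓ centralizer (B' : Set G) := by
    intro x hx
    refine ⟨conj_mem_of_mem_normalizer (C'.mem_normalizer_sq h hat.symm) hx.1,
      mem_centralizer_iff.2 ?_⟩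
    rw [← hBB']
    rintro _ ⟨v, hv, rfl⟩
    exact ((show Commute v x from mem_centralizer_iff.1 hx.2 v hv).map
      (MulAut.conj t).toMonoidHom).eq
  have hmove : ∀ x ∈ sq a ⊓ centralizer (B : Set G), x ≠ 1 → x ≠ a →
      let g := x * (t * x * t⁻¹)
      g * g = 1 ∧ Commute g t ∧ Commute g a ∧ Commute g d ∧
        ∀ k : ℤ, g * z * g⁻¹ ≠ z ^ k := by
    intro x hx hx1 hxa g
    have hx' := hsB' x hx
    have hx'1 : t * x * t⁻¹ ≠ 1 := fun e => hx1 (conj_eq_one_iff.1 e)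
    have hx'a : t * x * t⁻¹ ≠ a := fun e => hxa
      ((MulAut.conj t).injective (e.trans (conj_eq_of_commute hat.symm).symm))
    have hxx' : Commute x (t * x * t⁻¹) := C'.commute_active h hB hB' hne hx hx'
    refine ⟨?_, ?_, ?_, ?_, fun k hk => ?_⟩
    · show x * (t * x * t⁻¹) * (x * (t * x * t⁻¹)) = 1
      rw [hxx'.symm.mul_mul_mul_comm, C'.sq_eq_of_ne h hB hx hx1 hxa,
        C'.sq_eq_of_ne h hB' hx' hx'1 hx'a, C'.sq_t h]
    · refine (commute_of_conj_eq ?_).symm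
      show t * (x * (t * x * t⁻¹)) * t⁻¹ = x * (t * x * t⁻¹)
      rw [← conj_mul, conj_conj_of_sq_one (C.sq_t h)]
      exact hxx'.symm.eq
    · exact (C'.commute_core h (C'.sq_le h hx.1)).mul_left
        (C'.commute_core h (C'.sq_le h hx'.1))
    · exact (show Commute x d from (mem_centralizer_iff.1 hx.2 d hd.1).symm).mul_left
        (mem_centralizer_iff.1 hx'.2 d hd.2).symm
    · have heq : t * x * t⁻¹ * z * (t * x * t⁻¹)⁻¹ = x⁻¹ * z ^ k * x := by
        rw [← hk]; show _ = x⁻¹ * (x * (t * x * t⁻¹) * z * (x * (t * x * t⁻¹))⁻¹) * x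
        group
      have hzB : ∀ {K : Subgroup G}, K ≤ E' → z ∈ centralizer (K : Set G) := fun hK =>
        centralizer_le hK hzE
      have h1 : t * x * t⁻¹ * z * (t * x * t⁻¹)⁻¹ ∈ centralizer (B' : Set G) :=
        mul_mem (mul_mem hx'.2 (hzB hB'.1)) (inv_mem hx'.2)
      have h2 : t * x * t⁻¹ * z * (t * x * t⁻¹)⁻¹ ∈ centralizer (B : Set G) := by
        rw [heq]; exact mul_mem (mul_mem (inv_mem hx.2) (zpow_mem (hzB hB.1) k)) hx.2
      obtain ⟨e₀, he₀, he₀'⟩ := C'.exists_mem_not_mem h hB hB' hne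
      have h3 : t * x * t⁻¹ * z * (t * x * t⁻¹)⁻¹ ∈ centralizer (E' : Set G) :=
        mem_centralizer_iff.2 fun e he => by
          obtain ⟨l, hl⟩ := C'.exists_adjust h hB' (hB.1 he₀) he₀' he
          have := (show Commute (e * e₀ ^ l) _ from mem_centralizer_iff.1 h1 _ hl).mul_left
            (show Commute (e₀ ^ l)⁻¹ _ from
              mem_centralizer_iff.1 h2 _ (inv_mem (zpow_mem he₀ l)))
          rw [mul_inv_cancel_right] at this
          exact this.eq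
      exact hz1 (eq_one_of_conj_centralizes h C' hB' hx' hx'1 hx'a hzp ((hV z).1 hzV).2 hzE h3)
  obtain ⟨x, w, hx, hw, hxw⟩ := C'.exists_noncommuting h hB
  obtain ⟨⟨hx1, hxa⟩, ⟨hw1, hwa⟩⟩ := C'.noncommuting h hx hw hxw
  obtain ⟨⟨hxw1, hxwa⟩, -⟩ := C'.noncommuting h (mul_mem hx hw) hw
    (show ⁅x * w, w⁆ = a by
      rw [← hxw]; simp only [commutatorElement_def]; group)
  obtain ⟨hg1s, hg1t, hg1a, hg1d, hg1z⟩ := hmove x hx hx1 hxa
  obtain ⟨hg2s, hg2t, hg2a, hg2d, hg2z⟩ := hmove w hw hw1 hwa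
  obtain ⟨hg3s, -, -, -, hg3z⟩ := hmove (x * w) (mul_mem hx hw) hxw1 hxwa
  set g₁ := x * (t * x * t⁻¹) with hg1def
  set g₂ := w * (t * w * t⁻¹) with hg2def
  have hg3 : x * w * (t * (x * w) * t⁻¹) = g₁ * g₂ := by
    rw [← conj_mul, hg1def, hg2def]
    exact (C'.commute_active h hB hB' hne hw (hsB' x hx)).mul_mul_mul_comm _ _
  rw [hg3] at hg3s hg3z
  have hg12 : Commute g₁ g₂ := by
    have e : g₁ * g₂ = g₂⁻¹ * g₁⁻¹ := by rw [← mul_inv_rev]; exact (inv_of_sq_one hg3s).symm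
    rwa [inv_of_sq_one hg1s, inv_of_sq_one hg2s] at e
  have hgY : ∀ g, Commute g d → g ∈ normalizer (Yd : Set G) := fun g hgd =>
    hYn (C'.centralizes_A h F' hm hd hd1 hgd)
  have himg : ∀ g, Commute g t → Commute g a → Commute g d →
      g * z * g⁻¹ ∈ V ∧ t * (g * z * g⁻¹) * t⁻¹ = (g * z * g⁻¹)⁻¹ := by
    intro g hgt hga hgd
    refine ⟨hVconj g hga (hgY g hgd) z hzV, ?_⟩
    calc t * (g * z * g⁻¹) * t⁻¹ = (t * g) * z * (t * g)⁻¹ := by group
      _ = (g * t) * z * (g * t)⁻¹ := by rw [hgt.eq]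
      _ = g * (t * z * t⁻¹) * g⁻¹ := by group
      _ = (g * z * g⁻¹)⁻¹ := by rw [hzt, conj_inv]
  obtain ⟨hu1V, hu1t⟩ := himg g₁ hg1t hg1a hg1d
  obtain ⟨hu2V, hu2t⟩ := himg g₂ hg2t hg2a hg2d
  set u₁ := g₁ * z * g₁⁻¹ with hu1def
  set u₂ := g₂ * z * g₂⁻¹ with hu2def
  have hu1c : u₁ ∈ centralizer (zpowers z : Set G) :=
    mem_centralizer_iff.2 fun v hv => (hVc v (zpowers_le.2 hzV hv) u₁ hu1V).eq
  have hu1n : u₁ ∉ zpowers z := fun e => by
    obtain ⟨k, hk⟩ := mem_zpowers_iff.1 e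
    exact hg1z k hk.symm
  have hu2c : u₂ ∈ centralizer ((zpowers z ⊔ zpowers u₁ : Subgroup G) : Set G) :=
    mem_centralizer_iff.2 fun v hv =>
      (hVc v (sup_le (zpowers_le.2 hzV) (zpowers_le.2 hu1V) hv) u₂ hu2V).eq
  have hu2n : u₂ ∉ zpowers z ⊔ zpowers u₁ := by
    intro e
    obtain ⟨z', hz', β, he⟩ := mem_sup_zpowers hu1c e
    obtain ⟨α, rfl⟩ := mem_zpowers_iff.1 hz'
    have hu3 : g₂ * u₁ * g₂⁻¹ = g₁ * u₂ * g₁⁻¹ := by
      rw [hu1def, hu2def]
      calc g₂ * (g₁ * z * g₁⁻¹) * g₂⁻¹ = (g₂ * g₁) * z * (g₂ * g₁)⁻¹ := by group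
        _ = (g₁ * g₂) * z * (g₁ * g₂)⁻¹ := by rw [hg12.eq]
        _ = g₁ * (g₂ * z * g₂⁻¹) * g₁⁻¹ := by group
    have hg1u : g₁ * u₁ * g₁⁻¹ = z := by rw [hu1def, conj_conj_of_sq_one hg1s]
    have hg2u : g₂ * u₂ * g₂⁻¹ = z := by rw [hu2def, conj_conj_of_sq_one hg2s]
    have e3 : g₁ * u₂ * g₁⁻¹ = u₁ ^ α * z ^ β := by
      rw [he, ← conj_mul, ← conj_zpow, ← conj_zpow, ← hu1def, hg1u]
    have e4 : z = u₂ ^ α * (g₂ * u₁ * g₂⁻¹) ^ β := by
      conv_lhs => rw [← hg2u, he, ← conj_mul, ← conj_zpow, ← conj_zpow, ← hu2def]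
    rw [hu3, e3, he] at e4
    have hzu : Commute z u₁ := hVc z hzV u₁ hu1V
    rw [(hzu.zpow_zpow α β).mul_zpow, (hzu.symm.zpow_zpow α β).mul_zpow, ← zpow_mul,
      ← zpow_mul, ← zpow_mul, ← zpow_mul] at e4
    have hkey : u₁ ^ (2 * α * β) ∈ zpowers z := by
      have : u₁ ^ (2 * α * β) = (z ^ (α * α))⁻¹ * z * (z ^ (β * β))⁻¹ := by
        nth_rw 2 [e4]
        rw [show 2 * α * β = β * α + α * β by ring, zpow_add]
        group
      rw [this]
      exact mul_mem (mul_mem (inv_mem (zpow_mem (mem_zpowers z) _)) (mem_zpowers z))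
        (inv_mem (zpow_mem (mem_zpowers z) _))
    have hdvd : (p : ℤ) ∣ 2 * α * β := by
      by_contra hn
      exact hu1n (mem_of_zpow_mem (hVpow u₁ hu1V) hn hkey)
    have hpz : Prime (p : ℤ) := Nat.prime_iff_prime_int.1 hp.out
    have hz_pow : ∀ {u : G}, u ^ p = 1 → ∀ {n : ℤ}, (p : ℤ) ∣ n → u ^ n = 1 := by
      rintro u hu n ⟨c, rfl⟩
      rw [zpow_mul, zpow_natCast, hu, one_zpow]
    rcases hpz.dvd_mul.1 hdvd with h2 | hβ
    · rcases hpz.dvd_mul.1 h2 with h2 | hα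
      · have h2' : p ∣ 2 := by exact_mod_cast h2
        exact h.odd ((Nat.prime_dvd_prime_iff_eq hp.out Nat.prime_two).1 h2')
      · refine hg3z β ?_
        rw [hz_pow hzp hα, one_mul] at he
        calc g₁ * g₂ * z * (g₁ * g₂)⁻¹ = g₁ * (g₂ * z * g₂⁻¹) * g₁⁻¹ := by group
          _ = z ^ β := by rw [← hu2def, he, ← conj_zpow, hg1u]
    · exact hg2z α (by rw [he, hz_pow (hVpow u₁ hu1V) hβ, mul_one])
  -- the conjugates of `y`, `y'` lie in `Yd`
  set W := zpowers z ⊔ zpowers u₁ ⊔ zpowers u₂ with hW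
  have hWV : W ≤ V := sup_le (sup_le (zpowers_le.2 hzV) (zpowers_le.2 hu1V)) (zpowers_le.2 hu2V)
  have hWel : IsElementaryAbelian p W := OddOrder.BG11.elem_sup_zpowers
    (OddOrder.BG11.elem_sup_zpowers (elem_zpowers hzp) (hVpow u₁ hu1V) hu1c) (hVpow u₂ hu2V) hu2c
  have hWcard : p ^ m ≤ Nat.card W := by
    rw [card_elem_sup (hVpow u₂ hu2V) hu2c hu2n, card_elem_sup (hVpow u₁ hu1V) hu1c hu1n,
      Nat.card_zpowers, orderOf_eq_prime hzp hz1, hm]
    exact le_of_eq (by ring)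
  have hWta : W ≤ centralizer ({t * a} : Set G) :=
    sup_le (sup_le (zpowers_le.2 (mem_centralizer_singleton_of (hta z hzV hzt)))
      (zpowers_le.2 (mem_centralizer_singleton_of (hta u₁ hu1V hu1t))))
      (zpowers_le.2 (mem_centralizer_singleton_of (hta u₂ hu2V hu2t)))
  have htao : orderOf (t * a) = 2 := by
    refine orderOf_two_of ?_ fun e => hatne ?_
    · rw [hat.mul_mul_mul_comm, C.sq_t h, C'.sq_t h, one_mul]
    · exact (mul_eq_one_iff_inv_eq.1 e).symm.trans (inv_of_sq_one (C.sq_t h))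
  have hz₁t : Commute z₁ t := C.commute_core h (C.sq_le h F.z₁_mem.1)
  have hD : ∀ u ∈ zc p (B₁ ⊓ B₂) b, Commute u a → t * u * t⁻¹ = u⁻¹ →
      z₁ * u * z₁⁻¹ ∈ V ∧ z₁ * u * z₁⁻¹ ∈ centralizer (E' : Set G) := by
    intro u hu hua hut
    have hv : z₁ * u * z₁⁻¹ ∈ zc p (B₁ ⊓ B₂) b :=
      conj_mem_of_mem_normalizer (h.centralizer_le_normalizer_zc hb (C.z₁_centralizes h F)) hu
    have hvta : Commute (z₁ * u * z₁⁻¹) (t * a) := by
      have := hua.map (MulAut.conj z₁).toMonoidHom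
      simp only [MulEquiv.toMonoidHom_eq_coe, MonoidHom.coe_coe, MulAut.conj_apply] at this
      rwa [hz1a] at this
    set v := z₁ * u * z₁⁻¹ with hvdef
    have hvt : t * v * t⁻¹ = v⁻¹ := by
      calc t * (z₁ * u * z₁⁻¹) * t⁻¹ = (t * z₁) * u * (t * z₁)⁻¹ := by group
        _ = (z₁ * t) * u * (z₁ * t)⁻¹ := by rw [hz₁t.eq]
        _ = z₁ * (t * u * t⁻¹) * z₁⁻¹ := by group
        _ = (z₁ * u * z₁⁻¹)⁻¹ := by rw [hut, conj_inv]
    have hva : a * v * a⁻¹ = v⁻¹ := by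
      have : t * (t * a * v * (t * a)⁻¹) * t⁻¹ = a * v * a⁻¹ := by
        rw [show t * (t * a * v * (t * a)⁻¹) * t⁻¹ = (t * t) * (a * v * a⁻¹) * (t * t)⁻¹ by group,
          C.sq_t h, one_mul, inv_one, mul_one]
      rw [← this, conj_eq_of_commute hvta.symm, hvt]
    have hvp : v ^ p = 1 := h.zc_pow _ b hv
    have hvd : v ∈ coreP p d := C'.mem_coreP_of_inverted h F' hm hd hd1
      (hY'c hv hdz) (k := 1) (by rw [pow_one]; exact hvp) hva
    refine ⟨hWV (h.mem_of_bound htao (C.eight_ta h F) hWel hWcard hWta hvp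
      (mem_centralizer_iff.2 fun r hr => ?_) hvta), hwE v hv⟩
    exact (mem_centralizer_iff.1 (hYz hvd) r (hVY (hWV hr)))
  obtain ⟨hy1V, hy1E⟩ := hD y hy hya hyi
  obtain ⟨hy2V, hy2E⟩ := hD y' hy' hy'a hy'i
  set y₁ := z₁ * y * z₁⁻¹ with hy1def
  set y₂ := z₁ * y' * z₁⁻¹ with hy2def
  -- counting
  have hg₁ : InEight g₁ ∧ InEight (g₁ * a) := by
    have hnz : ∀ w k, w * z * w⁻¹ = z ^ (k : ℤ) → g₁ ≠ w := fun w k hw e => hg1z k (by rw [hu1def, e]; exact hw)
    have haz : a * z * a⁻¹ = z ^ (-1 : ℤ) := by rw [((hV z).1 hzV).2, zpow_neg_one]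
    have htz : t * z * t⁻¹ = z ^ (-1 : ℤ) := by rw [hzt, zpow_neg_one]
    obtain ⟨V', hV', h8, -, haV, hgV⟩ := exists_eight (C.sq_t h) (C'.sq_t h) hg1s (C.ne_one h)
      (C'.ne_one h) hatne hat.symm hg1t.symm hg1a.symm (hnz 1 1 (by group)) (hnz t _ htz)
      (hnz a _ haz) (hnz (t * a) 1 (by
        rw [show t * a * z * (t * a)⁻¹ = t * (a * z * a⁻¹) * t⁻¹ by group, haz, ← conj_zpow, htz,
          ← zpow_mul]
        norm_num))
    exact ⟨⟨V', hV', h8, hgV⟩, ⟨V', hV', h8, mul_mem hgV haV⟩⟩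
  have hpart : ∀ g : G, g * g = 1 → g ≠ 1 → InEight g → Commute g d →
      Nat.card ↥(V ⊓ centralizer ({g} : Set G)) ≤ p * p := by
    intro g hg2 hg1 hg8 hgd
    set K := V ⊓ centralizer ({g} : Set G) with hK
    have hKel : IsElementaryAbelian p K :=
      ⟨⟨⟨fun r s => Subtype.ext (hVc r r.2.1 s s.2.1)⟩⟩, fun r hr => hVpow r hr.1⟩
    have hdK : d ∈ centralizer (K : Set G) :=
      mem_centralizer_iff.2 fun r hr => (hYd' r (hVY hr.1)).symm.eq
    have hdn : d ∉ K := fun e => hd1 (eq_one_of_fixed_inverted hp.out h.odd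
      (C'.elem.2 d (hB.1 hd.1)) ((hV d).1 e.1).2
      (commute_of_mem_centralizer_singleton (C'.le (hB.1 hd.1))).symm)
    have hb3 := h.bound g (orderOf_two_of hg2 hg1) hg8 (K ⊔ zpowers d)
      (OddOrder.BG11.elem_sup_zpowers hKel (C'.elem.2 d (hB.1 hd.1)) hdK)
      (sup_le inf_le_right (zpowers_le.2 (mem_centralizer_singleton_of hgd.symm)))
    rw [card_elem_sup (C'.elem.2 d (hB.1 hd.1)) hdK hdn, hm, show p ^ 3 = p * (p * p) by ring]
      at hb3
    exact Nat.le_of_mul_le_mul_left hb3 hp.out.pos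
  have hga2 : g₁ * a * (g₁ * a) = 1 := by
    rw [hg1a.symm.mul_mul_mul_comm, hg1s, C'.sq_t h, one_mul]
  have hg1ne : g₁ ≠ 1 := fun e => hg1z 1 (by rw [hu1def, e]; group)
  have hga1 : g₁ * a ≠ 1 := fun e => hg1z (-1) (by
    rw [hu1def, eq_inv_of_mul_eq_one_left e, inv_of_sq_one (C'.sq_t h), ((hV z).1 hzV).2, zpow_neg,
      zpow_one])
  have hda : Commute a d := (commute_of_mem_centralizer_singleton (C'.le (hB.1 hd.1))).symm
  have hVcard : Nat.card V ≤ (p * p) * (p * p) := by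
    refine le_trans ?_ (Nat.mul_le_mul (hpart g₁ hg1s hg1ne hg₁.1 hg1d)
      (hpart (g₁ * a) hga2 hga1 hg₁.2 (hg1d.mul_left hda)))
    rw [← Nat.card_prod]
    refine Nat.card_le_card_of_surjective
      (fun r : ↥(V ⊓ centralizer ({g₁} : Set G)) × ↥(V ⊓ centralizer ({g₁ * a} : Set G)) =>
        (⟨r.1.1 * r.2.1, mul_mem r.1.2.1 r.2.2.1⟩ : V)) fun v => ?_
    obtain ⟨f, i, hf, hi, hgf, hgi, he, -⟩ := exists_fixed_mul_inverted h.odd (hYp.to_le hVY) hg1s
      (mem_normalizer_of_conj (hVconj g₁ hg1a (hgY g₁ hg1d))) v.2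
    refine ⟨(⟨f, hf, mem_centralizer_singleton_of hgf.symm⟩, ⟨i, hi, ?_⟩), Subtype.ext he.symm⟩
    refine mem_centralizer_singleton_of (commute_of_conj_eq ?_).symm
    calc g₁ * a * i * (g₁ * a)⁻¹ = g₁ * (a * i * a⁻¹) * g₁⁻¹ := by group
      _ = i := by rw [((hV i).1 hi).2, ← conj_inv, hgi, inv_inv]
  -- two pieces of `V` centralizing `B'`
  have hx' := hsB' x hx
  set x' := t * x * t⁻¹ with hx'def
  have hx'1 : x' ≠ 1 := fun e => hx1 (conj_eq_one_iff.1 e)
  have hx'a : x' ≠ a := fun e => hxa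
    ((MulAut.conj t).injective (e.trans (conj_eq_of_commute hat.symm).symm))
  set D₂ := zpowers y₁ ⊔ zpowers y₂ with hD₂
  have hD₂V : D₂ ≤ V := sup_le (zpowers_le.2 hy1V) (zpowers_le.2 hy2V)
  have hD₂E : D₂ ≤ centralizer (E' : Set G) := sup_le (zpowers_le.2 hy1E) (zpowers_le.2 hy2E)
  have hy2c : y₂ ∈ centralizer (zpowers y₁ : Set G) :=
    mem_centralizer_iff.2 fun v hv => (hVc v (zpowers_le.2 hy1V hv) y₂ hy2V).eq
  have hy2n : y₂ ∉ zpowers y₁ := fun e => by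
    obtain ⟨k, hk⟩ := mem_zpowers_iff.1 e
    rw [hy1def, hy2def, conj_zpow] at hk
    have hk' : y' = y ^ k := ((MulAut.conj z₁).injective hk).symm
    exact hy'1 (eq_one_of_fixed_inverted hp.out h.odd hy'p hy'j
      (hk' ▸ (hyj.zpow_left k).symm))
  have hD₂card : Nat.card D₂ = p * p := by
    rw [card_elem_sup (hVpow y₂ hy2V) hy2c hy2n, Nat.card_zpowers,
      orderOf_eq_prime (hVpow y₁ hy1V) (fun e => hy1 (conj_eq_one_iff.1 e))]
  set D₃ := D₂.map (MulAut.conj x').toMonoidHom with hD₃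
  have hx'Y : x' ∈ normalizer (Yd : Set G) :=
    hgY x' (mem_centralizer_iff.1 hx'.2 d hd.2).symm
  have hD₃V : D₃ ≤ V := by
    rintro _ ⟨v, hv, rfl⟩
    exact hVconj x' (C'.commute_core h (C'.sq_le h hx'.1)) hx'Y v (hD₂V hv)
  have hdisj : D₂ ⊓ D₃ = ⊥ := by
    refine disjoint_iff.1 (disjoint_def.2 fun {r} hr hr' => ?_)
    obtain ⟨v, hv, rfl⟩ := hr'
    simp only [MulEquiv.toMonoidHom_eq_coe, MonoidHom.coe_coe, MulAut.conj_apply] at hr ⊢
    rw [eq_one_of_conj_centralizes h C' hB' hx' hx'1 hx'a (hVpow v (hD₂V hv))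
      ((hV v).1 (hD₂V hv)).2 (hD₂E hv) (hD₂E hr)]
    group
  have hVeq : D₂ ⊔ D₃ = V := by
    refine Subgroup.eq_of_le_of_card_ge (sup_le hD₂V hD₃V) ?_
    rw [Coprime.card_sup_eq ((show D₃ ≤ centralizer (D₂ : Set G) from fun r hr =>
      mem_centralizer_iff.2 fun s hs => (hVc s (hD₂V hs) r (hD₃V hr)).eq).trans
        (centralizer_le_normalizer _)) hdisj,
      card_map_of_injective (MulAut.conj x').injective, hD₂card]
    exact hVcard
  have hVB' : V ≤ centralizer (B' : Set G) := by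
    rw [← hVeq]
    refine sup_le (fun r hr => centralizer_le hB'.1 (hD₂E hr)) ?_
    rintro _ ⟨v, hv, rfl⟩
    exact mul_mem (mul_mem hx'.2 (centralizer_le hB'.1 (hD₂E hv))) (inv_mem hx'.2)
  -- an element of `B'` outside `B` lies in `O_p(C(d))`
  obtain ⟨e, he', heB⟩ := C'.exists_mem_not_mem h hB' hB (Ne.symm hne)
  refine heB (C'.mem_of_coreP h hB (hB'.1 he') hd.1 ?_)
  have hed : Commute e d := C'.comm h (hB'.1 he') (hB.1 hd.1)
  have heY : e ∈ centralizer (Yd : Set G) := by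
    refine mem_centralizer_iff.2 fun u hu => ?_
    obtain ⟨f, i, hf, hi, haf, hai, rfl, -⟩ :=
      exists_fixed_mul_inverted h.odd hYp (C'.sq_t h) haY hu
    have hef : Commute e f := C'.comm h (hB'.1 he')
      (hAdE (C'.fixed_mem h F' hm hd hd1 hf haf.symm))
    have hei : Commute e i := mem_centralizer_iff.1 (hVB' ((hV i).2 ⟨hi, hai⟩)) e he'
    exact (hef.mul_right hei).symm.eq
  refine le_pCoreOf (N := centralizer ({d} : Set G) ⊓ centralizer (Yd : Set G))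
    (L := centralizer ({d} : Set G)) inf_le_left (fun g hg => ?_) ?_
    ⟨mem_centralizer_singleton_of hed, heY⟩
  · exact normalizer_inf_le (le_normalizer hg) (mem_normalizer_centralizer
      (hgY g (commute_of_mem_centralizer_singleton hg)))
  · exact isPGroup_of_coprime_eq_one fun g hg hgo => h.faithful hdp (C'.cube h (hAdE hd)) (C'.elem_of_le h hAdE) hd hgo
      (C'.centralizes_A h F' hm hd hd1 (commute_of_mem_centralizer_singleton hg.1)) hg.2

end Cfg

/-- There is no configuration. -/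
theorem Cfg.false (h : Hyp G p m) (C : Cfg p m t E) : False := by
  have hm := C.rank_eq_three h
  obtain ⟨B₁, B₂, hB₁, hB₂, hne⟩ := C.exists_two_active h
  obtain ⟨x₁, z₁, x₂, z₂, F⟩ := C.exists_frame h hB₁ hB₂ hne
  have hcard := C.card_A h F
  rw [hm] at hcard
  have hA : Nat.card ↥(B₁ ⊓ B₂) = p := by
    rw [show p ^ 3 = p * (p * p) by ring] at hcard
    exact Nat.eq_of_mul_eq_mul_left hp.out.pos (Nat.eq_of_mul_eq_mul_left hp.out.pos hcard)
  haveI : Nontrivial ↥(B₁ ⊓ B₂) := by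
    rw [← Finite.one_lt_card_iff_nontrivial, hA]; exact hp.out.one_lt
  obtain ⟨⟨b, hb⟩, hb1⟩ := exists_ne (1 : ↥(B₁ ⊓ B₂))
  exact C.no_frame h F hm hb (fun e => hb1 (Subtype.ext e))

end CfsgLib.LocalEven48.KlingerMason
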