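import Cfsg.Agent.LocalEven48.KlingerMason.Final

/-!
Klinger–Mason: a group of characteristic 2 type and of local characteristic `p` has 2-local
`p`-rank at most two.
-/

set_option autoImplicit false
set_option linter.unusedSectionVars false

namespace CfsgLib.LocalEven48.KlingerMason

open Subgroup Cfsg CfsgLib.CharPLocal CfsgLib.LocalStructure
open scoped commutatorElement

variable {G : Type*} [Group G] [Finite G] {p : ℕ} [hp : Fact p.Prime]

theorem elem_of_le' {E F : Subgroup G} (hE : IsElementaryAbelian p E) (hF : F ≤ E) :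
    IsElementaryAbelian p F := by
  haveI := hE.1
  exact ⟨⟨⟨fun a b => Subtype.ext (setLike_mul_comm (s := E) (hF a.2) (hF b.2))⟩⟩,
    fun a ha => hE.2 a (hF ha)⟩

/-- An elementary abelian group of order `p³` in a 2-local gives one in an involution centralizer. -/
theorem exists_involution_of_two_local (hp2 : p ≠ 2)
    (hcharP : ∀ d : G, orderOf d = p → InCube p d → IsCharP p (centralizer ({d} : Set G)))
    {U : Subgroup G} (hU : IsPGroup 2 U) (hUne : U ≠ ⊥)
    (hM : IsCharP 2 (normalizer (U : Set G))) {E₀ : Subgroup G} (hE : IsElementaryAbelian p E₀)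
    (hcard : Nat.card E₀ = p ^ 3) (hle : E₀ ≤ normalizer (U : Set G)) :
    ∃ (g : G) (E : Subgroup G), orderOf g = 2 ∧ InEight g ∧ IsElementaryAbelian p E ∧ Nat.card E = p ^ 3 ∧
      E ≤ centralizer ({g} : Set G) := by
  haveI : Fact (Nat.Prime 2) := ⟨Nat.prime_two⟩
  set R := pCoreOf 2 (normalizer (U : Set G)) with hR
  have hRp : IsPGroup 2 R := pCoreOf_isPGroup _
  have hRne : R ≠ ⊥ := fun e => hUne (le_bot_iff.1 (e ▸ le_pCoreOf le_normalizer le_rfl hU))
  obtain ⟨z, hzR, hz, hzc⟩ := exists_involution_center_of_ne_bot hRp hRne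
  obtain ⟨V, hV⟩ : ∃ V : Subgroup G, ∀ x, x ∈ V ↔
      x ∈ R ∧ x ∈ centralizer (R : Set G) ∧ x * x = 1 :=
    ⟨{ carrier := {x | x ∈ R ∧ x ∈ centralizer (R : Set G) ∧ x * x = 1}
       one_mem' := ⟨one_mem _, one_mem _, one_mul 1⟩
       mul_mem' := fun {x y} hx hy => ⟨mul_mem hx.1 hy.1, mul_mem hx.2.1 hy.2.1, by
         rw [(show Commute x y from mem_centralizer_iff.1 hy.2.1 x hx.1).symm.mul_mul_mul_comm,
           hx.2.2, hy.2.2, one_mul]⟩
       inv_mem' := fun {x} hx => ⟨inv_mem hx.1, inv_mem hx.2.1, by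
         rw [← mul_inv_rev, hx.2.2, inv_one]⟩ }, fun x => Iff.rfl⟩
  have hVc : ∀ x ∈ V, ∀ y ∈ V, Commute x y := fun x hx y hy =>
    mem_centralizer_iff.1 ((hV y).1 hy).2.1 x ((hV x).1 hx).1
  have h8 : ∀ g ∈ V, InEight g := fun g hg => by
    refine inEight_of_central hp2 hRp hE hcard.ge
      (hle.trans (le_normalizer_pCoreOf _)) (fun e he hec => ?_) ((hV g).1 hg).2.2 ((hV g).1 hg).2.1
    exact hM.eq_one (hle he) hec (coprime_two_of_pow hp2 (k := 1) (by rw [pow_one]; exact hE.2 e he))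
  by_cases hfix : ∃ g ∈ V, g ≠ 1 ∧ g ∈ centralizer (E₀ : Set G)
  · obtain ⟨g, hg, hg1, hgc⟩ := hfix
    exact ⟨g, E₀, orderOf_two_of ((hV g).1 hg).2.2 hg1, h8 g hg, hE, hcard, fun e he =>
      mem_centralizer_singleton_of (mem_centralizer_iff.1 hgc e he)⟩
  push Not at hfix
  have hEn : ∀ e ∈ E₀, ∀ x ∈ V, e * x * e⁻¹ ∈ V := by
    intro e he x hx
    have heR : e ∈ normalizer (R : Set G) := le_normalizer_pCoreOf _ (hle he)
    obtain ⟨h1, h2, h3⟩ := (hV x).1 hx
    refine (hV _).2 ⟨conj_mem_of_mem_normalizer heR h1,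
      conj_mem_of_mem_normalizer (mem_normalizer_centralizer heR) h2, ?_⟩
    rw [show e * x * e⁻¹ * (e * x * e⁻¹) = e * (x * x) * e⁻¹ by group, h3, mul_one, mul_inv_cancel]
  have hEne : E₀ ≠ ⊥ := fun e => by
    rw [e, card_bot] at hcard
    exact (Nat.one_lt_pow three_ne_zero hp.out.one_lt).ne hcard
  obtain ⟨B, hB, hidx, u, hu, huB, hu1⟩ : ∃ B, B ≤ E₀ ∧ B.relIndex E₀ = p ∧
      ∃ u ∈ V, u ∈ centralizer (B : Set G) ∧ u ≠ 1 := by
    by_contra hcon
    push Not at hcon
    have hbot : V ≤ ⊥ := by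
      refine Signalizer.le_of_forall_relIndex_eq hE hEne ?_
        (fun e he => mem_normalizer_of_conj (hEn e he))
        fun B hB hidx x hx => mem_bot.2 (hcon B hB hidx x hx.1 hx.2)
      intro hdvd
      obtain ⟨k, hk⟩ := IsPGroup.iff_card.1 (hRp.to_le (fun x hx => ((hV x).1 hx).1 : V ≤ R))
      rw [hk] at hdvd
      exact hp2 ((Nat.prime_dvd_prime_iff_eq hp.out Nat.prime_two).1 (hp.out.dvd_of_dvd_pow hdvd))
    have := hbot ((hV z).2 ⟨hzR, mem_centralizer_iff.2 fun r hr => hzc r hr,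
      mul_self_of_orderOf_two hz⟩)
    rw [mem_bot.1 this, orderOf_one] at hz
    norm_num at hz
  obtain ⟨e, he, heu⟩ : ∃ e ∈ E₀, ¬ e * u = u * e := by
    have := hfix u hu hu1
    rw [mem_centralizer_iff] at this
    push Not at this
    exact this
  set v := e * u * e⁻¹ with hv
  have hvV : v ∈ V := hEn e he u hu
  have hu2 : u * u = 1 := ((hV u).1 hu).2.2
  have hv2 : v * v = 1 := ((hV v).1 hvV).2.2
  have hv1 : v ≠ 1 := fun hh => hu1 (conj_eq_one_iff.1 hh)
  have huv : u ≠ v := fun hh => heu (mul_inv_eq_iff_eq_mul.1 hh.symm)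
  have hvu : Commute v u := hVc v hvV u hu
  haveI := hE.1
  have hvB : v ∈ centralizer (B : Set G) := by
    refine mem_centralizer_iff.2 fun b hb => ?_
    have hbe : Commute b e := setLike_mul_comm (s := E₀) (hB hb) he
    have hbu : Commute b u := mem_centralizer_iff.1 huB b hb
    exact ((hbe.mul_right hbu).mul_right hbe.inv_right).eq
  have hBcard : Nat.card B = p * p := by
    have h1 := relIndex_mul_relIndex (⊥ : Subgroup G) B E₀ bot_le hB
    rw [relIndex_bot_left, relIndex_bot_left, hidx, hcard,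
      show p ^ 3 = p * p * p by ring] at h1
    exact Nat.eq_of_mul_eq_mul_right hp.out.pos h1
  haveI : Nontrivial B := by
    rw [← Finite.one_lt_card_iff_nontrivial, hBcard]
    have := hp.out.two_le; nlinarith
  obtain ⟨⟨d, hd⟩, hd1⟩ := exists_ne (1 : B)
  have hdp : orderOf d = p := orderOf_eq_prime (hE.2 d (hB hd)) (fun hh => hd1 (Subtype.ext hh))
  have hBd : B ≤ centralizer ({d} : Set G) := fun b hb =>
    mem_centralizer_singleton_of (setLike_mul_comm (s := E₀) (hB hb) (hB hd))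
  set N := coreP p d ⊓ centralizer (B : Set G) with hN
  have hNp : IsPGroup p N := (coreP_isPGroup d).to_le inf_le_left
  have hvd : v ∈ centralizer ({d} : Set G) :=
    mem_centralizer_singleton_of (mem_centralizer_iff.1 hvB d hd).symm
  have hud : u ∈ centralizer ({d} : Set G) :=
    mem_centralizer_singleton_of (mem_centralizer_iff.1 huB d hd).symm
  have hvN : v ∈ normalizer (N : Set G) :=
    normalizer_inf_le (centralizer_le_normalizer_coreP d hvd) (le_normalizer hvB)
  have huN : u ∈ normalizer (N : Set G) :=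
    normalizer_inf_le (centralizer_le_normalizer_coreP d hud) (le_normalizer huB)
  have hvmove : v ∉ centralizer (N : Set G) := by
    intro hc
    have hvo : (orderOf v).Coprime p := by
      rw [orderOf_two_of hv2 hv1]; exact coprime_two hp2
    refine hv1 ((hcharP d hdp ⟨E₀, hE, hcard.ge, hB hd⟩).eq_one hvd (commute_of_axb (coreP_isPGroup d)
      (Signalizer.isPGroup_of_elab (elem_of_le' hE hB)) hvo (centralizer_le_normalizer_coreP d hvd)
      hvB (hBd.trans (centralizer_le_normalizer_coreP d))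
      fun x hx hx' => mem_centralizer_iff.1 hc x ⟨hx, hx'⟩) hvo)
  obtain ⟨g, hgV, hg2, hg1, hgv, hgB, hgN, hmove⟩ : ∃ g : G, g ∈ V ∧ g * g = 1 ∧ g ≠ 1 ∧ Commute g v ∧
      g ∈ centralizer (B : Set G) ∧ g ∈ normalizer (N : Set G) ∧
      ¬ N ⊓ centralizer ({g} : Set G) ≤ centralizer ({v} : Set G) := by
    by_cases h1 : N ⊓ centralizer ({u} : Set G) ≤ centralizer ({v} : Set G)
    · refine ⟨v * u, mul_mem hvV hu, ?_, fun hh => huv ?_, (Commute.refl v).mul_left hvu.symm, mul_mem hvB huB,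
        mul_mem hvN huN, fun h2 => hvmove ?_⟩
      · rw [hvu.symm.mul_mul_mul_comm, hv2, hu2, one_mul]
      · exact (mul_eq_one_iff_inv_eq.1 hh).symm.trans (inv_of_sq_one hv2)
      · exact mem_centralizer_of_four hp2 hNp hv2 hu2 hvu huv hu1 hv1 hvN huN h1 h2
    · exact ⟨u, hu, hu2, hu1, hvu.symm, huB, huN, h1⟩
  have hnot : v ∉ centralizer ((N ⊓ centralizer ({g} : Set G) : Subgroup G) : Set G) :=
    fun hc => hmove fun x hx => mem_centralizer_singleton_of (mem_centralizer_iff.1 hc x hx)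
  obtain ⟨y, hy, hyp, hy1, hyi⟩ := exists_inverted hp2 (hNp.to_le inf_le_left) hv2
    (normalizer_inf_le hvN (mem_normalizer_centralizer_singleton hgv.symm)) hnot
  have hyB : y ∉ B := fun hh => hy1 (eq_one_of_fixed_inverted hp.out hp2 hyp hyi
    (show Commute v y from (mem_centralizer_iff.1 hvB y hh).symm))
  refine ⟨g, B ⊔ zpowers y, orderOf_two_of hg2 hg1, h8 g hgV,
    OddOrder.BG11.elem_sup_zpowers (elem_of_le' hE hB) hyp hy.1.2, ?_,
    sup_le (fun b hb => mem_centralizer_singleton_of (mem_centralizer_iff.1 hgB b hb))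
      (zpowers_le.2 hy.2)⟩
  rw [card_elem_sup hyp hy.1.2 hyB, hBcard]
  ring

/-- An involution whose centralizer has characteristic 2 and contains an elementary abelian group
of order `p³` lies in an elementary group of order eight. -/
theorem inEight_of_charTwo (hp2 : p ≠ 2) {t : G} (ht : orderOf t = 2)
    (hc : IsCharP 2 (centralizer ({t} : Set G))) {E : Subgroup G} (hE : IsElementaryAbelian p E)
    (hcard : p ^ 3 ≤ Nat.card E) (hle : E ≤ centralizer ({t} : Set G)) : InEight t :=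
  inEight_of_central hp2 (coreT_isPGroup t) hE hcard
    (hle.trans (centralizer_le_normalizer_coreT t))
    (fun e he hec => hc.eq_one (hle he) hec
      (coprime_two_of_pow hp2 (k := 1) (by rw [pow_one]; exact hE.2 e he)))
    (mul_self_of_orderOf_two ht)
    (mem_centralizer_iff.2 fun u hu => (commute_of_mem_centralizer_singleton (coreT_le t hu)).eq)

/-- Klinger–Mason at the elements of rank three: no 2-local subgroup of characteristic 2 contains an
elementary abelian group of order `p³`. -/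
theorem false_of_two_local (hp2 : p ≠ 2)
    (hcharT : ∀ t : G, orderOf t = 2 → InEight t → IsCharP 2 (centralizer ({t} : Set G)))
    (hcharP : ∀ d : G, orderOf d = p → InCube p d → IsCharP p (centralizer ({d} : Set G)))
    {U : Subgroup G} (hU : IsPGroup 2 U) (hUne : U ≠ ⊥) (hM : IsCharP 2 (normalizer (U : Set G)))
    {A : Subgroup G} (hA : IsElementaryAbelian p A) (hAc : p ^ 3 ≤ Nat.card A)
    (hAU : A ≤ normalizer (U : Set G)) : False := by
  obtain ⟨k, hk⟩ := IsPGroup.iff_card.1 (Signalizer.isPGroup_of_elab hA : IsPGroup p A)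
  have hk3 : 3 ≤ k := (Nat.pow_le_pow_iff_right hp.out.one_lt).1 (hk ▸ hAc)
  obtain ⟨K, hK⟩ := Sylow.exists_subgroup_card_pow_prime (G := A) p (n := 3)
    (hk ▸ pow_dvd_pow p hk3)
  set E₀ := K.map A.subtype with hE₀
  have hE₀A : E₀ ≤ A := map_subtype_le K
  have hE₀c : Nat.card E₀ = p ^ 3 := by
    rw [hE₀, card_map_of_injective A.subtype_injective, hK]
  obtain ⟨g, E, hg, hg8, hEel, hEc, hEg⟩ := exists_involution_of_two_local hp2 hcharP hU hUne hM
    (elem_of_le' hA hE₀A) hE₀c (hE₀A.trans hAU)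
  obtain ⟨⟨t, F⟩, ⟨ht, ht8, hF, hFt⟩, hmax⟩ := Set.exists_max_image
    {r : G × Subgroup G | orderOf r.1 = 2 ∧ InEight r.1 ∧ IsElementaryAbelian p r.2 ∧
      r.2 ≤ centralizer ({r.1} : Set G)} (fun r => Nat.card r.2) (Set.toFinite _)
    ⟨(g, E), hg, hg8, hEel, hEg⟩
  obtain ⟨m, hm⟩ := IsPGroup.iff_card.1 (Signalizer.isPGroup_of_elab hF : IsPGroup p F)
  have h3 : 3 ≤ m := by
    have h1 : p ^ 3 ≤ p ^ m := by
      have := hmax (g, E) ⟨hg, hg8, hEel, hEg⟩
      simpa [hEc, hm] using this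
    exact (Nat.pow_le_pow_iff_right hp.out.one_lt).1 h1
  exact Cfg.false (t := t) (E := F) (m := m)
    ⟨hp2, h3, hcharT, hcharP,
      fun t' ht' ht8' E' hE' hle => hm ▸ hmax (t', E') ⟨ht', ht8', hE', hle⟩⟩
    ⟨ht, ht8, hF, hm, hFt⟩

/-- The Klinger–Mason theorem, in terms of the characteristics of the local subgroups. -/
theorem card_le_of_two_local (hp2 : p ≠ 2)
    (hchar2 : ∀ U : Subgroup G, IsPGroup 2 U → U ≠ ⊥ → IsCharP 2 (normalizer (U : Set G)))
    (hcharp : ∀ U : Subgroup G, IsPGroup p U → U ≠ ⊥ → IsCharP p (normalizer (U : Set G)))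
    {U : Subgroup G} (hU : IsPGroup 2 U) (hUne : U ≠ ⊥) {A : Subgroup G}
    (hA : IsElementaryAbelian p A) (hAU : A ≤ normalizer (U : Set G)) : Nat.card A ≤ p ^ 2 := by
  by_contra hcon
  have hcharP : ∀ d : G, orderOf d = p → IsCharP p (centralizer ({d} : Set G)) := by
    intro d hd
    have hne : zpowers d ≠ ⊥ := fun e => by
      rw [zpowers_eq_bot.1 e, orderOf_one] at hd; exact hp.out.one_lt.ne hd
    rw [← centralizer_closure, ← zpowers_eq_closure]
    exact (hcharp _ (IsPGroup.of_card (n := 1) (by rw [Nat.card_zpowers, hd, pow_one])) hne).of_normal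
      (centralizer_le_normalizer _) (CharPLocal.normalizer_le_normalizer_centralizer _)
  have hcharT : ∀ t : G, orderOf t = 2 → IsCharP 2 (centralizer ({t} : Set G)) := fun t ht => by
    rw [centralizer_singleton_eq_normalizer ht]
    exact hchar2 _ (isPGroup_two_zpowers_of_orderOf ht) fun e => by
      rw [zpowers_eq_bot.1 e, orderOf_one] at ht; norm_num at ht
  obtain ⟨k, hk⟩ := IsPGroup.iff_card.1 (Signalizer.isPGroup_of_elab hA : IsPGroup p A)
  have hk3 : 3 ≤ k := by
    by_contra hlt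
    exact hcon (hk ▸ Nat.pow_le_pow_right hp.out.pos (by omega))
  exact false_of_two_local hp2 (fun t ht _ => hcharT t ht) (fun d hd _ => hcharP d hd) hU hUne
    (hchar2 U hU hUne) hA (hk ▸ Nat.pow_le_pow_right hp.out.pos hk3) hAU

end CfsgLib.LocalEven48.KlingerMason
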