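import Cfsg.Agent.LocalEven48.KlingerMason.Active

/-!
Klinger–Mason: two active hyperplanes give two commuting quaternion groups; for rank at least
four this is already a contradiction.
-/

set_option autoImplicit false
set_option linter.unusedSectionVars false

namespace CfsgLib.LocalEven48.KlingerMason

open Subgroup Cfsg CfsgLib.CharPLocal CfsgLib.LocalStructure
open scoped commutatorElement

variable {G : Type*} [Group G] [Finite G] {p : ℕ} [hp : Fact p.Prime] {m : ℕ} {t : G}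
  {E B₁ B₂ : Subgroup G}

/-- Two active hyperplanes with noncommuting pairs in the groups they fix. -/
structure Frame (p : ℕ) (t : G) (E B₁ B₂ : Subgroup G) (x₁ z₁ x₂ z₂ : G) : Prop where
  act₁ : Active p t E B₁
  act₂ : Active p t E B₂
  ne : B₁ ≠ B₂
  x₁_mem : x₁ ∈ sq t ⊓ centralizer (B₁ : Set G)
  z₁_mem : z₁ ∈ sq t ⊓ centralizer (B₁ : Set G)
  x₂_mem : x₂ ∈ sq t ⊓ centralizer (B₂ : Set G)
  z₂_mem : z₂ ∈ sq t ⊓ centralizer (B₂ : Set G)
  comm₁ : ⁅x₁, z₁⁆ = t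
  comm₂ : ⁅x₂, z₂⁆ = t

/-- The elements collected for a frame. -/
def Good (p : ℕ) (t a j : G) (A : Subgroup G) (y : G) : Prop :=
  y ^ p = 1 ∧ y ≠ 1 ∧ t * y * t⁻¹ = y⁻¹ ∧ Commute y a ∧ Commute y j ∧ y ∈ centralizer (A : Set G)

namespace Cfg

variable (h : Hyp G p m) (C : Cfg p m t E)
include h C

theorem noncommuting {B : Subgroup G} {x y : G} (hx : x ∈ sq t ⊓ centralizer (B : Set G))
    (hy : y ∈ sq t ⊓ centralizer (B : Set G)) (hc : ⁅x, y⁆ = t) :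
    (x ≠ 1 ∧ x ≠ t) ∧ (y ≠ 1 ∧ y ≠ t) := by
  have hn : ¬ Commute x y := fun hcc =>
    C.ne_one h (hc.symm.trans (commutatorElement_eq_one_iff_commute.2 hcc))
  exact ⟨⟨fun e => hn (e ▸ Commute.one_left y),
      fun e => hn (e ▸ (C.commute_core h (C.sq_le h hy.1)).symm)⟩,
    ⟨fun e => hn (e ▸ Commute.one_right x), fun e => hn (e ▸ C.commute_core h (C.sq_le h hx.1))⟩⟩

theorem exists_mem_not_mem (h1 : Active p t E B₁) (h2 : Active p t E B₂) (hne : B₁ ≠ B₂) :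
    ∃ e ∈ B₁, e ∉ B₂ := by
  by_contra hcon
  push Not at hcon
  refine hne (Subgroup.eq_of_le_of_card_ge (fun e he => hcon e he) ?_)
  exact Nat.le_of_mul_le_mul_left (h2.2.1.trans h1.2.1.symm).le hp.out.pos

/-- The fixed groups of two active hyperplanes commute. -/
theorem commute_active (h1 : Active p t E B₁) (h2 : Active p t E B₂) (hne : B₁ ≠ B₂) {x z : G}
    (hx : x ∈ sq t ⊓ centralizer (B₁ : Set G)) (hz : z ∈ sq t ⊓ centralizer (B₂ : Set G)) :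
    Commute x z := by
  obtain ⟨e, he1, he2⟩ := C.exists_mem_not_mem h h1 h2 hne
  have heE := h1.1 he1
  have het : Commute e t := commute_of_mem_centralizer_singleton (C.le heE)
  have hexc : Commute e x := mem_centralizer_iff.1 hx.2 e he1
  have hxt : Commute x t := C.commute_core h (C.sq_le h hx.1)
  have key : ∀ u ∈ sq t ⊓ centralizer (B₂ : Set G), Commute x (u⁻¹ * (e * u * e⁻¹)) := by
    intro u hu
    rw [← commutatorElement_eq_one_iff_commute]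
    have h' : ⁅x, e * u * e⁻¹⁆ = ⁅x, u⁆ := by
      rw [← conj_eq_of_commute hexc, ← conj_commutator]
      rcases C.sq_commutator h hx.1 hu.1 with e' | e' <;> rw [e', conj_eq_of_commute hexc, e']
      · rw [mul_one, mul_inv_cancel]
      · exact conj_eq_of_commute het
    have hc : Commute ⁅x, u⁆ u := by
      rcases C.sq_commutator h hx.1 hu.1 with e' | e' <;> rw [e']
      · exact Commute.one_left u
      · exact (C.commute_core h (C.sq_le h hu.1)).symm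
    have e3 : ⁅x, u⁻¹ * (e * u * e⁻¹)⁆ = u⁻¹ * (⁅x, u⁆⁻¹ * ⁅x, e * u * e⁻¹⁆) * u := by
      simp only [commutatorElement_def]; group
    rw [e3, h', inv_mul_cancel, mul_one, inv_mul_cancel]
  obtain ⟨u, v, hu, hv, huv⟩ := C.exists_noncommuting h h2
  obtain ⟨⟨hu1, hut⟩, -⟩ := C.noncommuting h hu hv huv
  set w := u⁻¹ * (e * u * e⁻¹) with hw
  have hmv := C.moves h h2 heE he2 hu hu1 hut
  have hwm : w ∈ sq t ⊓ centralizer (B₂ : Set G) := mul_mem (inv_mem hu) (C.conj_sq_inf h h2.1 heE hu)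
  have hwne : w ≠ 1 ∧ w ≠ t := by
    constructor <;> intro ew
    · refine C.ne_one h (hmv.symm.trans (commutatorElement_eq_one_iff_commute.2 ?_))
      rw [show e * u * e⁻¹ = u * w by rw [hw]; group, ew, mul_one]
    · refine C.ne_one h (hmv.symm.trans (commutatorElement_eq_one_iff_commute.2 ?_))
      rw [show e * u * e⁻¹ = u * w by rw [hw]; group, ew]
      exact (Commute.refl u).mul_right (C.commute_core h (C.sq_le h hu.1))
  have hxw : Commute x w := key u hu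
  have hxw' : Commute x (e * w * e⁻¹) := by
    have := hxw.map (MulAut.conj e).toMonoidHom
    simpa [conj_eq_of_commute hexc] using this
  have hgen := C.moves h h2 heE he2 hwm hwne.1 hwne.2
  by_cases hz1 : z = 1
  · exact hz1 ▸ Commute.one_right x
  by_cases hzt : z = t
  · exact hzt ▸ hxt
  rcases C.decompose h h2 hwm (C.conj_sq_inf h h2.1 heE hwm) hgen hz hz1 hzt with
    (rfl | rfl) | (rfl | rfl) | (rfl | rfl)
  · exact hxw
  · exact hxt.mul_right hxw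
  · exact hxw'
  · exact hxt.mul_right hxw'
  · exact hxw.mul_right hxw'
  · exact hxt.mul_right (hxw.mul_right hxw')

theorem exists_frame (h1 : Active p t E B₁) (h2 : Active p t E B₂) (hne : B₁ ≠ B₂) :
    ∃ x₁ z₁ x₂ z₂, Frame p t E B₁ B₂ x₁ z₁ x₂ z₂ := by
  obtain ⟨x₁, z₁, hx₁, hz₁, hc₁⟩ := C.exists_noncommuting h h1
  obtain ⟨x₂, z₂, hx₂, hz₂, hc₂⟩ := C.exists_noncommuting h h2
  exact ⟨x₁, z₁, x₂, z₂, h1, h2, hne, hx₁, hz₁, hx₂, hz₂, hc₁, hc₂⟩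

/-- There are two active hyperplanes. -/
theorem exists_two_active : ∃ B₁ B₂, Active p t E B₁ ∧ Active p t E B₂ ∧ B₁ ≠ B₂ := by
  haveI : Nontrivial E := by
    rw [← Finite.one_lt_card_iff_nontrivial, C.card]
    exact Nat.one_lt_pow (by have := h.three; omega) hp.out.one_lt
  obtain ⟨⟨x, hx⟩, hx1⟩ := exists_ne (1 : E)
  obtain ⟨B₁, hB₁, -⟩ := C.exists_active_not_mem h hx (fun e => hx1 (Subtype.ext e))
  have hc := C.active_card h hB₁
  haveI : Nontrivial B₁ := by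
    rw [← Finite.one_lt_card_iff_nontrivial]
    by_contra h1
    have hB1 : Nat.card B₁ = 1 := le_antisymm (by omega) Nat.card_pos
    rw [hB1, mul_one] at hc
    have := Nat.pow_right_injective hp.out.two_le ((pow_one p).trans hc)
    have := h.three; omega
  obtain ⟨⟨y, hy⟩, hy1⟩ := exists_ne (1 : B₁)
  obtain ⟨B₂, hB₂, hyB⟩ := C.exists_active_not_mem h (hB₁.1 hy) (fun e => hy1 (Subtype.ext e))
  exact ⟨B₁, B₂, hB₁, hB₂, fun e => hyB (e ▸ hy)⟩

theorem card_inf_active (h1 : Active p t E B₁) (h2 : Active p t E B₂) (hne : B₁ ≠ B₂) :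
    p * Nat.card ↥(B₁ ⊓ B₂) = Nat.card B₁ := by
  obtain ⟨e, he1, he2⟩ := C.exists_mem_not_mem h h1 h2 hne
  have hec : e ∈ centralizer ((B₁ ⊓ B₂ : Subgroup G) : Set G) :=
    C.E_le_centralizer h (inf_le_left.trans h1.1) (h1.1 he1)
  have htop : B₁ ⊓ B₂ ⊔ zpowers e = B₁ := by
    refine le_antisymm (sup_le inf_le_left (zpowers_le.2 he1)) fun x hx => ?_
    obtain ⟨k, hk⟩ := C.exists_adjust h h2 (h1.1 he1) he2 (h1.1 hx)
    rw [← mul_inv_cancel_right x (e ^ k)]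
    exact mul_mem (mem_sup_left ⟨mul_mem hx (zpow_mem he1 k), hk⟩)
      (inv_mem (zpow_mem (mem_sup_right (mem_zpowers e)) k))
  conv_rhs => rw [← htop]
  rw [card_elem_sup (C.elem.2 e (h1.1 he1)) hec (fun hh => he2 hh.2)]

section frame

variable {x₁ z₁ x₂ z₂ : G} (F : Frame p t E B₁ B₂ x₁ z₁ x₂ z₂)
include F

theorem card_A : p * (p * Nat.card ↥(B₁ ⊓ B₂)) = p ^ m := by
  rw [C.card_inf_active h F.act₁ F.act₂ F.ne, C.active_card h F.act₁]

theorem A_le : B₁ ⊓ B₂ ≤ E := inf_le_left.trans F.act₁.1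

theorem x₁_centralizes : x₁ ∈ centralizer ((B₁ ⊓ B₂ : Subgroup G) : Set G) :=
  mem_centralizer_iff.2 fun u hu => mem_centralizer_iff.1 F.x₁_mem.2 u hu.1

theorem z₁_centralizes : z₁ ∈ centralizer ((B₁ ⊓ B₂ : Subgroup G) : Set G) :=
  mem_centralizer_iff.2 fun u hu => mem_centralizer_iff.1 F.z₁_mem.2 u hu.1

theorem a_centralizes : x₁ * x₂ ∈ centralizer ((B₁ ⊓ B₂ : Subgroup G) : Set G) :=
  mul_mem (C.x₁_centralizes h F)
    (mem_centralizer_iff.2 fun u hu => mem_centralizer_iff.1 F.x₂_mem.2 u hu.2)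

theorem j_centralizes : z₁ * z₂ ∈ centralizer ((B₁ ⊓ B₂ : Subgroup G) : Set G) :=
  mul_mem (C.z₁_centralizes h F)
    (mem_centralizer_iff.2 fun u hu => mem_centralizer_iff.1 F.z₂_mem.2 u hu.2)

theorem a_mem : x₁ * x₂ ∈ sq t := mul_mem F.x₁_mem.1 F.x₂_mem.1

theorem j_mem : z₁ * z₂ ∈ sq t := mul_mem F.z₁_mem.1 F.z₂_mem.1

theorem a_sq : x₁ * x₂ * (x₁ * x₂) = 1 := by
  rw [(C.commute_active h F.act₁ F.act₂ F.ne F.x₁_mem F.x₂_mem).symm.mul_mul_mul_comm]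
  obtain ⟨⟨h1, h1'⟩, -⟩ := C.noncommuting h F.x₁_mem F.z₁_mem F.comm₁
  obtain ⟨⟨h2, h2'⟩, -⟩ := C.noncommuting h F.x₂_mem F.z₂_mem F.comm₂
  rw [C.sq_eq_of_ne h F.act₁ F.x₁_mem h1 h1', C.sq_eq_of_ne h F.act₂ F.x₂_mem h2 h2', C.sq_t h]

theorem j_sq : z₁ * z₂ * (z₁ * z₂) = 1 := by
  rw [(C.commute_active h F.act₁ F.act₂ F.ne F.z₁_mem F.z₂_mem).symm.mul_mul_mul_comm]
  obtain ⟨-, ⟨h1, h1'⟩⟩ := C.noncommuting h F.x₁_mem F.z₁_mem F.comm₁
  obtain ⟨-, ⟨h2, h2'⟩⟩ := C.noncommuting h F.x₂_mem F.z₂_mem F.comm₂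
  rw [C.sq_eq_of_ne h F.act₁ F.z₁_mem h1 h1', C.sq_eq_of_ne h F.act₂ F.z₂_mem h2 h2', C.sq_t h]

theorem z₁_conj_a : z₁ * (x₁ * x₂) * z₁⁻¹ = t * (x₁ * x₂) := by
  have hc : ⁅z₁, x₁⁆ = t := by
    rw [← commutatorElement_inv, F.comm₁, inv_of_sq_one (C.sq_t h)]
  rw [show z₁ * (x₁ * x₂) * z₁⁻¹ = (z₁ * x₁ * z₁⁻¹) * (z₁ * x₂ * z₁⁻¹) by group,
    C.conj_of_commutator h hc,
    conj_eq_of_commute (C.commute_active h F.act₁ F.act₂ F.ne F.z₁_mem F.x₂_mem), mul_assoc]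

theorem x₁_conj_j : x₁ * (z₁ * z₂) * x₁⁻¹ = t * (z₁ * z₂) := by
  rw [show x₁ * (z₁ * z₂) * x₁⁻¹ = (x₁ * z₁ * x₁⁻¹) * (x₁ * z₂ * x₁⁻¹) by group,
    C.conj_of_commutator h F.comm₁,
    conj_eq_of_commute (C.commute_active h F.act₁ F.act₂ F.ne F.x₁_mem F.z₂_mem), mul_assoc]

theorem a_ne : x₁ * x₂ ≠ 1 ∧ x₁ * x₂ ≠ t := by
  have hz : z₁ * (x₁ * x₂) * z₁⁻¹ = t * (x₁ * x₂) := C.z₁_conj_a h F
  constructor <;> intro e <;> rw [e] at hz
  · rw [mul_one, mul_inv_cancel, mul_one] at hz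
    exact C.ne_one h hz.symm
  · rw [conj_eq_of_commute (C.commute_core h (C.sq_le h F.z₁_mem.1)), C.sq_t h] at hz
    exact C.ne_one h hz

theorem j_ne : z₁ * z₂ ≠ 1 ∧ z₁ * z₂ ≠ t := by
  have hz : x₁ * (z₁ * z₂) * x₁⁻¹ = t * (z₁ * z₂) := C.x₁_conj_j h F
  constructor <;> intro e <;> rw [e] at hz
  · rw [mul_one, mul_inv_cancel, mul_one] at hz
    exact C.ne_one h hz.symm
  · rw [conj_eq_of_commute (C.commute_core h (C.sq_le h F.x₁_mem.1)), C.sq_t h] at hz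
    exact C.ne_one h hz

theorem commute_a_j : Commute (x₁ * x₂) (z₁ * z₂) := by
  have hxz := C.commute_active h F.act₁ F.act₂ F.ne F.x₁_mem F.z₂_mem
  have hzx := C.commute_active h F.act₁ F.act₂ F.ne F.z₁_mem F.x₂_mem
  have e1 : x₁ * z₁ = t * (z₁ * x₁) := by
    rw [← mul_assoc]; exact mul_inv_eq_iff_eq_mul.1 (C.conj_of_commutator h F.comm₁)
  have e2 : x₂ * z₂ = t * (z₂ * x₂) := by
    rw [← mul_assoc]; exact mul_inv_eq_iff_eq_mul.1 (C.conj_of_commutator h F.comm₂)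
  have htz : Commute (z₁ * x₁) t :=
    (C.commute_core h (C.sq_le h F.z₁_mem.1)).mul_left (C.commute_core h (C.sq_le h F.x₁_mem.1))
  show x₁ * x₂ * (z₁ * z₂) = z₁ * z₂ * (x₁ * x₂)
  calc x₁ * x₂ * (z₁ * z₂) = (x₁ * z₁) * (x₂ * z₂) := hzx.symm.mul_mul_mul_comm _ _
    _ = (t * (z₁ * x₁)) * (t * (z₂ * x₂)) := by rw [e1, e2]
    _ = (t * t) * ((z₁ * x₁) * (z₂ * x₂)) := htz.mul_mul_mul_comm _ _
    _ = z₁ * z₂ * (x₁ * x₂) := by rw [C.sq_t h, one_mul, hxz.mul_mul_mul_comm]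

theorem exists_eight_a : ∃ V : Subgroup G, IsElementaryAbelian 2 V ∧ 8 ≤ Nat.card V ∧
    t ∈ V ∧ x₁ * x₂ ∈ V ∧ z₁ * z₂ ∈ V := by
  have hat := C.commute_core h (C.sq_le h (C.a_mem h F))
  have hjt := C.commute_core h (C.sq_le h (C.j_mem h F))
  have hx : Commute x₁ (x₁ * x₂) :=
    (Commute.refl x₁).mul_right (C.commute_active h F.act₁ F.act₂ F.ne F.x₁_mem F.x₂_mem)
  have hxt : Commute x₁ t := C.commute_core h (C.sq_le h F.x₁_mem.1)
  have hj := C.x₁_conj_j h F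
  have hne : ∀ w, Commute x₁ w → z₁ * z₂ ≠ w := fun w hw e => C.ne_one h (by
    rw [e, conj_eq_of_commute hw] at hj
    exact mul_eq_right.mp hj.symm)
  exact exists_eight (C.sq_t h) (C.a_sq h F) (C.j_sq h F) (C.ne_one h) (C.a_ne h F).1 (C.a_ne h F).2
    hat.symm hjt.symm (C.commute_a_j h F) (C.j_ne h F).1 (C.j_ne h F).2 (hne _ hx)
    (hne _ (hxt.mul_right hx))

theorem eight_a : InEight (x₁ * x₂) := by
  obtain ⟨V, hV, h8, -, ha, -⟩ := C.exists_eight_a h F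
  exact ⟨V, hV, h8, ha⟩

theorem eight_ta : InEight (t * (x₁ * x₂)) := by
  obtain ⟨V, hV, h8, ht, ha, -⟩ := C.exists_eight_a h F
  exact ⟨V, hV, h8, mul_mem ht ha⟩

theorem commute_a_x₁ : Commute x₁ (x₁ * x₂) :=
  (Commute.refl x₁).mul_right (C.commute_active h F.act₁ F.act₂ F.ne F.x₁_mem F.x₂_mem)

/-- `t` moves the common fixed points of `a`, and of `a` and `j`. -/
theorem moved_a {N : Subgroup G} (hN : IsPGroup p N)
    (hn : centralizer ((B₁ ⊓ B₂ : Subgroup G) : Set G) ≤ normalizer (N : Set G))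
    (hmv : t ∉ centralizer (N : Set G)) :
    t ∉ centralizer ((N ⊓ centralizer ({x₁ * x₂} : Set G) : Subgroup G) : Set G) :=
  not_mem_centralizer_inf_of_swap h.odd hN (C.sq_t h) (C.a_sq h F)
    (C.commute_core h (C.sq_le h (C.a_mem h F))).symm (C.a_ne h F).2 (C.a_ne h F).1 (C.ne_one h)
    (hn (C.t_mem_centralizer h (C.A_le h F))) (hn (C.a_centralizes h F)) (hn (C.z₁_centralizes h F))
    (C.commute_core h (C.sq_le h F.z₁_mem.1)) (C.z₁_conj_a h F) hmv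

theorem exists_good {N : Subgroup G} (hN : IsPGroup p N)
    (hNA : N ≤ centralizer ((B₁ ⊓ B₂ : Subgroup G) : Set G))
    (hn : centralizer ((B₁ ⊓ B₂ : Subgroup G) : Set G) ≤ normalizer (N : Set G))
    (hmv : t ∉ centralizer ((N ⊓ centralizer ({x₁ * x₂} : Set G) : Subgroup G) : Set G)) :
    ∃ y ∈ N, Good p t (x₁ * x₂) (z₁ * z₂) (B₁ ⊓ B₂) y := by
  set N₁ := N ⊓ centralizer ({x₁ * x₂} : Set G) with hN₁
  have hat : Commute (x₁ * x₂) t := C.commute_core h (C.sq_le h (C.a_mem h F))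
  have hn₁ : ∀ g ∈ centralizer ((B₁ ⊓ B₂ : Subgroup G) : Set G), Commute g (x₁ * x₂) →
      g ∈ normalizer (N₁ : Set G) :=
    fun g hg hga => normalizer_inf_le (hn hg) (mem_normalizer_centralizer_singleton hga)
  have htA := C.t_mem_centralizer h (C.A_le h F)
  have hjt := C.commute_core h (C.sq_le h (C.j_mem h F))
  have hmv2 : t ∉ centralizer ((N₁ ⊓ centralizer ({z₁ * z₂} : Set G) : Subgroup G) : Set G) :=
    not_mem_centralizer_inf_of_swap h.odd (hN.to_le inf_le_left) (C.sq_t h) (C.j_sq h F) hjt.symm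
      (C.j_ne h F).2 (C.j_ne h F).1 (C.ne_one h) (hn₁ t htA hat.symm)
      (hn₁ _ (C.j_centralizes h F) (C.commute_a_j h F).symm)
      (hn₁ _ (C.x₁_centralizes h F) (C.commute_a_x₁ h F))
      (C.commute_core h (C.sq_le h F.x₁_mem.1)) (C.x₁_conj_j h F) hmv
  obtain ⟨y, hy, hyp, hy1, hyi⟩ := exists_inverted h.odd
    (hN.to_le (inf_le_left.trans inf_le_left)) (C.sq_t h)
    (normalizer_inf_le (hn₁ t htA hat.symm) (mem_normalizer_centralizer_singleton hjt.symm)) hmv2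
  exact ⟨y, hy.1.1, hyp, hy1, hyi, commute_of_mem_centralizer_singleton hy.1.2,
    commute_of_mem_centralizer_singleton hy.2, hNA hy.1.1⟩

theorem exists_good_zc {d : G} (hd : d ∈ B₁ ⊓ B₂) (hd1 : d ≠ 1) :
    ∃ y ∈ zc p (B₁ ⊓ B₂) d, Good p t (x₁ * x₂) (z₁ * z₂) (B₁ ⊓ B₂) y :=
  C.exists_good h F (h.zc_isPGroup _ d) ((h.zc_le _ d).trans inf_le_right)
    (h.centralizer_le_normalizer_zc hd) (C.moved_a h F (h.zc_isPGroup _ d)
      (h.centralizer_le_normalizer_zc hd) (h.not_centralizes_zc (C.orderOf_mem h (C.A_le h F hd) hd1) (C.cube h (C.A_le h F hd))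
        (C.elem_of_le h (C.A_le h F)) hd C.two (C.t_mem_centralizer h (C.A_le h F))))

theorem good_conj {y : G} (hy : Good p t (x₁ * x₂) (z₁ * z₂) (B₁ ⊓ B₂) y) :
    let y' := x₁ * y * x₁⁻¹
    y' ^ p = 1 ∧ y' ≠ 1 ∧ t * y' * t⁻¹ = y'⁻¹ ∧ Commute y' (x₁ * x₂) ∧
      z₁ * z₂ * y' * (z₁ * z₂)⁻¹ = y'⁻¹ ∧ y' ∈ centralizer ((B₁ ⊓ B₂ : Subgroup G) : Set G) := by
  obtain ⟨hyp, hy1, hyi, hya, hyj, hyA⟩ := hy
  intro y'
  have hxt : Commute x₁ t := C.commute_core h (C.sq_le h F.x₁_mem.1)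
  have hti : t * y' * t⁻¹ = y'⁻¹ := by
    calc t * (x₁ * y * x₁⁻¹) * t⁻¹ = (t * x₁) * y * (t * x₁)⁻¹ := by group
      _ = (x₁ * t) * y * (x₁ * t)⁻¹ := by rw [hxt.eq]
      _ = x₁ * (t * y * t⁻¹) * x₁⁻¹ := by group
      _ = (x₁ * y * x₁⁻¹)⁻¹ := by rw [hyi, conj_inv]
  refine ⟨by rw [conj_pow, hyp, mul_one, mul_inv_cancel], fun e => hy1 (conj_eq_one_iff.1 e), hti,
    ?_, ?_, mul_mem (mul_mem (C.x₁_centralizes h F) hyA) (inv_mem (C.x₁_centralizes h F))⟩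
  · exact (((C.commute_a_x₁ h F)).mul_left hya).mul_left (C.commute_a_x₁ h F).inv_left
  · have hjx : z₁ * z₂ * x₁ = t * (x₁ * (z₁ * z₂)) := by
      rw [← inv_inv (z₁ * z₂ * x₁)]
      have e := C.x₁_conj_j h F
      have : x₁ * (z₁ * z₂) = t * (z₁ * z₂) * x₁ := mul_inv_eq_iff_eq_mul.1 e
      rw [inv_inv, this, mul_assoc t, C.t_mul_t h]
    calc z₁ * z₂ * (x₁ * y * x₁⁻¹) * (z₁ * z₂)⁻¹
        = (z₁ * z₂ * x₁) * y * (z₁ * z₂ * x₁)⁻¹ := by group
      _ = t * (x₁ * (z₁ * z₂ * y * (z₁ * z₂)⁻¹) * x₁⁻¹) * t⁻¹ := by rw [hjx]; group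
      _ = t * y' * t⁻¹ := by rw [conj_eq_of_commute hyj.symm]
      _ = y'⁻¹ := hti

/-- A collected element commutes with its conjugate. -/
theorem good_commute {q y : G} (hq : q ∈ B₁ ⊓ B₂) (hyz : y ∈ zc p (B₁ ⊓ B₂) q)
    (hy : Good p t (x₁ * x₂) (z₁ * z₂) (B₁ ⊓ B₂) y) : Commute y (x₁ * y * x₁⁻¹) := by
  obtain ⟨-, -, hy'i, -, hy'j, -⟩ := C.good_conj h F hy
  obtain ⟨-, -, hyi, -, hyj, -⟩ := hy
  set y' := x₁ * y * x₁⁻¹ with hy'
  have hy'z : y' ∈ zc p (B₁ ⊓ B₂) q :=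
    conj_mem_of_mem_normalizer (h.centralizer_le_normalizer_zc hq (C.x₁_centralizes h F)) hyz
  set c := ⁅y, y'⁆ with hc
  obtain ⟨e1, e2⟩ := commutator_inv_inv (h.zc_class _ q hyz hy'z hyz) (h.zc_class _ q hyz hy'z hy'z)
  have hcz : c ∈ zc p (B₁ ⊓ B₂) q := by
    rw [hc, commutatorElement_def]
    exact mul_mem (mul_mem (mul_mem hyz hy'z) (inv_mem hyz)) (inv_mem hy'z)
  have hct : Commute c t :=
    (commute_of_conj_eq (by rw [hc, conj_commutator, hyi, hy'i, e1])).symm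
  have hjc : Commute (z₁ * z₂) c := commute_cores h.odd (C.sq_le h (C.j_mem h F))
    (h.zc_le _ q hcz).1 (mem_centralizer_iff.1 (C.j_centralizes h F) q hq).symm hct
  have : z₁ * z₂ * c * (z₁ * z₂)⁻¹ = c⁻¹ := by
    rw [hc, conj_commutator, conj_eq_of_commute hyj.symm, hy'j, e2]
  rw [conj_eq_of_commute hjc, eq_comm] at this
  exact commutatorElement_eq_one_iff_commute.1 (eq_one_of_inv_eq' hp.out h.odd (h.zc_pow _ q hcz) this)

/-- A collected element and its conjugate complete `A` to a group of maximal rank in `C(a)`. -/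
theorem good_elem {y : G} (hy : Good p t (x₁ * x₂) (z₁ * z₂) (B₁ ⊓ B₂) y)
    (hc : Commute y (x₁ * y * x₁⁻¹)) :
    let E' := (B₁ ⊓ B₂) ⊔ zpowers y ⊔ zpowers (x₁ * y * x₁⁻¹)
    IsElementaryAbelian p E' ∧ Nat.card E' = p ^ m ∧ E' ≤ centralizer ({x₁ * x₂} : Set G) := by
  obtain ⟨hy'p, hy'1, hy'i, hy'a, hy'j, hy'A⟩ := C.good_conj h F hy
  obtain ⟨hyp, hy1, hyi, hya, hyj, hyA⟩ := hy
  set A := B₁ ⊓ B₂ with hA
  set y' := x₁ * y * x₁⁻¹ with hy'
  have hAE : A ≤ E := C.A_le h F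
  have hF := OddOrder.BG11.elem_sup_zpowers (C.elem_of_le h hAE) hyp hyA
  have hy'F : y' ∈ centralizer ((A ⊔ zpowers y : Subgroup G) : Set G) := mem_centralizer_iff.2 fun u hu => by
    obtain ⟨x, hx, k, rfl⟩ := mem_sup_zpowers hyA hu
    exact ((show Commute x y' from mem_centralizer_iff.1 hy'A x hx).mul_left (hc.zpow_left k)).eq
  refine ⟨OddOrder.BG11.elem_sup_zpowers hF hy'p hy'F, ?_, ?_⟩
  · have hnot : y' ∉ A ⊔ zpowers y := fun hmem => by
      obtain ⟨x, hx, k, hk⟩ := mem_sup_zpowers hyA hmem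
      refine hy'1 (eq_one_of_fixed_inverted hp.out h.odd hy'p hy'j ?_)
      rw [hk]
      exact (show Commute (z₁ * z₂) x from
        (mem_centralizer_iff.1 (C.j_centralizes h F) x hx).symm).mul_right (hyj.symm.zpow_right k)
    rw [card_elem_sup hy'p hy'F hnot,
      card_elem_sup hyp hyA (fun e => hy1 (C.fixed_inverted h (hAE e) hyi))]
    exact C.card_A h F
  · refine sup_le (sup_le ?_ ?_) ?_
    · exact fun x hx => mem_centralizer_singleton_of (mem_centralizer_iff.1 (C.a_centralizes h F) x hx)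
    · exact zpowers_le.2 (mem_centralizer_singleton_of hya)
    · exact zpowers_le.2 (mem_centralizer_singleton_of hy'a)

/-- Elements fixed by `a` and `j` and inverted by `t` commuting with a collected pair. -/
theorem good_line {y w : G} (hy : Good p t (x₁ * x₂) (z₁ * z₂) (B₁ ⊓ B₂) y)
    (hc : Commute y (x₁ * y * x₁⁻¹)) (hw : Good p t (x₁ * x₂) (z₁ * z₂) (B₁ ⊓ B₂) w)
    (hwy : Commute y w) (hwy' : Commute (x₁ * y * x₁⁻¹) w) : w ∈ zpowers y := by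
  obtain ⟨hEel, hEcard, hEa⟩ := C.good_elem h F hy hc
  obtain ⟨hy'p, hy'1, hy'i, hy'a, hy'j, hy'A⟩ := C.good_conj h F hy
  obtain ⟨hyp, hy1, hyi, hya, hyj, hyA⟩ := hy
  obtain ⟨hwp, hw1, hwi, hwa, hwj, hwA⟩ := hw
  set A := B₁ ⊓ B₂ with hA
  set y' := x₁ * y * x₁⁻¹ with hy'
  have hy'F : y' ∈ centralizer ((A ⊔ zpowers y : Subgroup G) : Set G) := mem_centralizer_iff.2 fun u hu => by
    obtain ⟨x, hx, k, rfl⟩ := mem_sup_zpowers hyA hu
    exact ((show Commute x y' from mem_centralizer_iff.1 hy'A x hx).mul_left (hc.zpow_left k)).eq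
  have hmem := h.mem_of_bound (orderOf_two_of (C.a_sq h F) (C.a_ne h F).1) (C.eight_a h F) hEel hEcard.ge hEa hwp
    (mem_centralizer_iff.2 fun u hu => by
      obtain ⟨v, hv, l, rfl⟩ := mem_sup_zpowers hy'F hu
      obtain ⟨x, hx, k, rfl⟩ := mem_sup_zpowers hyA hv
      exact (((show Commute x w from mem_centralizer_iff.1 hwA x hx).mul_left
        (hwy.zpow_left k)).mul_left (hwy'.zpow_left l)).eq) hwa
  obtain ⟨v, hv, l, rfl⟩ := mem_sup_zpowers hy'F hmem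
  obtain ⟨x, hx, k, rfl⟩ := mem_sup_zpowers hyA hv
  have hjx : Commute (z₁ * z₂) (x * y ^ k) :=
    (show Commute (z₁ * z₂) x from (mem_centralizer_iff.1 (C.j_centralizes h F) x hx).symm).mul_right
      (hyj.symm.zpow_right k)
  have hl : y' ^ l = 1 := by
    refine eq_one_of_fixed_inverted (t := z₁ * z₂) hp.out h.odd
      (by rw [← zpow_natCast, ← zpow_mul, mul_comm, zpow_mul, zpow_natCast, hy'p, one_zpow])
      (by rw [← conj_zpow, hy'j, inv_zpow]) ?_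
    have := hjx.inv_right.mul_right hwj.symm
    rwa [inv_mul_cancel_left] at this
  suffices hx1 : x = 1 by rw [hl, mul_one, hx1, one_mul]; exact zpow_mem (mem_zpowers y) k
  rw [hl, mul_one] at hwi
  refine C.fixed_inverted h (C.A_le h F hx) ?_
  have hyk : t * y ^ k * t⁻¹ = (y ^ k)⁻¹ := by rw [← conj_zpow, hyi, inv_zpow]
  have hbt : Commute x (y ^ k) := (show Commute x y from mem_centralizer_iff.1 hyA x hx).zpow_right k
  have : t * x * t⁻¹ * (t * y ^ k * t⁻¹) = x⁻¹ * (y ^ k)⁻¹ := by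
    rw [show t * x * t⁻¹ * (t * y ^ k * t⁻¹) = t * (x * y ^ k) * t⁻¹ by group, hwi, mul_inv_rev,
      hbt.symm.inv_inv.eq]
  rw [hyk] at this
  exact mul_right_cancel this

end frame

/-- The maximal rank is three. -/
theorem rank_eq_three : m = 3 := by
  by_contra hm
  have h4 : 4 ≤ m := by have := h.three; omega
  obtain ⟨B₁, B₂, hB₁, hB₂, hne⟩ := C.exists_two_active h
  obtain ⟨x₁, z₁, x₂, z₂, F⟩ := C.exists_frame h hB₁ hB₂ hne
  have hA2 : p * p ≤ Nat.card ↥(B₁ ⊓ B₂) := by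
    have h1 := C.card_A h F
    have h2 : p * (p * (p * p)) ≤ p * (p * Nat.card ↥(B₁ ⊓ B₂)) := by
      rw [h1, show p * (p * (p * p)) = p ^ 4 by ring]
      exact Nat.pow_le_pow_right hp.out.pos h4
    exact Nat.le_of_mul_le_mul_left (Nat.le_of_mul_le_mul_left h2 hp.out.pos) hp.out.pos
  obtain ⟨q, hq, q', hq', hq1, hq'1, hK⟩ := C.exists_points h (C.A_le h F) hA2
    fun y _ hy => ⟨hy B₁ hB₁ inf_le_left, hy B₂ hB₂ inf_le_right⟩
  refine C.collect h (C.A_le h F) hA2 hq hq' hq1 hq'1 hK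
    (orderOf_two_of (C.a_sq h F) (C.a_ne h F).1) (C.eight_a h F) (C.a_centralizes h F)
    (Good p t (x₁ * x₂) (z₁ * z₂) (B₁ ⊓ B₂))
    (fun y hy => ⟨hy.1, hy.2.1, hy.2.2.2.1, hy.2.2.2.2.2⟩)
    (fun N hN hNA hn hmv => C.exists_good h F hN hNA hn hmv)
    (fun d hd hd1 => C.exists_good_zc h F hd hd1) ?_
  intro J y w hJ hJn hy hgy hgw hcom
  have hc := C.good_commute h F hq (hJ hy) hgy
  exact C.good_line h F hgy hc hgw (hcom y hy hgy.2.2.2.1)
    (hcom _ (conj_mem_of_mem_normalizer (hJn (C.x₁_centralizes h F)) hy) (C.good_conj h F hgy).2.2.2.1)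

end Cfg

end CfsgLib.LocalEven48.KlingerMason
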