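import Cfsg.Agent.LocalEven48.KlingerMason.Pair

/-!
Klinger–Mason, rank three: for two active hyperplanes meeting in `⟨b⟩` the group `zc b` is
elementary abelian and central in `O_p(C(b))`, and no third active hyperplane passes through `b`.
-/

set_option autoImplicit false
set_option linter.unusedSectionVars false

namespace CfsgLib.LocalEven48.KlingerMason

open Subgroup Cfsg CfsgLib.CharPLocal CfsgLib.LocalStructure
open scoped commutatorElement

variable {G : Type*} [Group G] [Finite G] {p : ℕ} [hp : Fact p.Prime] {m : ℕ} {t : G}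
  {E B₁ B₂ : Subgroup G} {x₁ z₁ x₂ z₂ b : G}

theorem conj_conj_of_sq_one {t x : G} (ht : t * t = 1) : t * (t * x * t⁻¹) * t⁻¹ = x := by
  rw [show t * (t * x * t⁻¹) * t⁻¹ = (t * t) * x * (t * t)⁻¹ by group, ht, one_mul, inv_one, mul_one]

/-- The elements centralizing `A` and acting trivially on `Y` modulo `A`. -/
def stab (A Y : Subgroup G) : Subgroup G where
  carrier := {g | g ∈ centralizer (A : Set G) ∧ ∀ u ∈ Y, ⁅g, u⁆ ∈ A}
  one_mem' := ⟨one_mem _, fun u _ => by rw [commutatorElement_one_left]; exact one_mem _⟩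
  mul_mem' := fun {g g'} hg hg' => ⟨mul_mem hg.1 hg'.1, fun u hu => by
    have e : ⁅g * g', u⁆ = g * ⁅g', u⁆ * g⁻¹ * ⁅g, u⁆ := by
      simp only [commutatorElement_def]; group
    rw [e, conj_eq_of_commute (show Commute g ⁅g', u⁆ from
      (mem_centralizer_iff.1 hg.1 _ (hg'.2 u hu)).symm)]
    exact mul_mem (hg'.2 u hu) (hg.2 u hu)⟩
  inv_mem' := fun {g} hg => ⟨inv_mem hg.1, fun u hu => by
    have e : ⁅g⁻¹, u⁆ = g⁻¹ * ⁅g, u⁆⁻¹ * g⁻¹⁻¹ := by
      simp only [commutatorElement_def]; group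
    rw [e, conj_eq_of_commute (show Commute g⁻¹ ⁅g, u⁆⁻¹ from
      (mem_centralizer_iff.1 (inv_mem hg.1) _ (inv_mem (hg.2 u hu))).symm)]
    exact inv_mem (hg.2 u hu)⟩

namespace Cfg

variable (h : Hyp G p m) (C : Cfg p m t E) (F : Frame p t E B₁ B₂ x₁ z₁ x₂ z₂) (hm : m = 3)
  (hb : b ∈ B₁ ⊓ B₂) (hb1 : b ≠ 1)
include h C F hm hb hb1

theorem A_eq : B₁ ⊓ B₂ = zpowers b := by
  have hc : p * (p * Nat.card ↥(B₁ ⊓ B₂)) = p ^ 3 := by rw [C.card_A h F, hm]
  have hA : Nat.card ↥(B₁ ⊓ B₂) = p := by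
    rw [show p ^ 3 = p * (p * p) by ring] at hc
    exact Nat.eq_of_mul_eq_mul_left hp.out.pos (Nat.eq_of_mul_eq_mul_left hp.out.pos hc)
  exact (Subgroup.eq_of_le_of_card_ge (zpowers_le.2 hb)
    (by rw [hA, Nat.card_zpowers, C.orderOf_mem h (C.A_le h F hb) hb1])).symm

theorem card_A_eq : Nat.card ↥(B₁ ⊓ B₂) = p := by
  rw [C.A_eq h F hm hb hb1, Nat.card_zpowers, C.orderOf_mem h (C.A_le h F hb) hb1]

theorem A_le_of_mem {H : Subgroup G} {c : G} (hc : c ∈ B₁ ⊓ B₂) (hc1 : c ≠ 1) (hcH : c ∈ H) :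
    B₁ ⊓ B₂ ≤ H := by
  rw [C.A_eq h F hm hc hc1]; exact zpowers_le.2 hcH

theorem centralizes_A {g : G} (hg : Commute g b) :
    g ∈ centralizer ((B₁ ⊓ B₂ : Subgroup G) : Set G) := by
  rw [C.A_eq h F hm hb hb1, zpowers_eq_closure, centralizer_closure]
  exact mem_centralizer_singleton_of hg

/-- The fixed points of `t` in `zc b` lie in `A`. -/
theorem fixed_mem {y : G} (hy : y ∈ zc p (B₁ ⊓ B₂) b) (hyt : Commute y t) : y ∈ B₁ ⊓ B₂ := by
  set A := B₁ ⊓ B₂ with hA
  set K := zc p A b ⊓ centralizer ({t} : Set G) with hK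
  by_contra hyA
  have hAE : A ≤ E := C.A_le h F
  have hEK : E ≤ normalizer (K : Set G) := fun e he => normalizer_inf_le
    (h.centralizer_le_normalizer_zc hb (C.E_le_centralizer h hAE he)) (le_normalizer (C.le he))
  have hKp : IsPGroup p K := (h.zc_isPGroup A b).to_le inf_le_left
  obtain ⟨U, ⟨hUK, hEU, hUA⟩, hUmin⟩ := Set.Finite.exists_minimal
    (s := {U : Subgroup G | U ≤ K ∧ E ≤ normalizer (U : Set G) ∧ ¬ U ≤ A}) (Set.toFinite _)
    ⟨K, le_rfl, hEK, fun hle => hyA (hle ⟨hy, mem_centralizer_singleton_of hyt⟩)⟩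
  have hUne : U ≠ ⊥ := fun e => hUA (e ▸ bot_le)
  have hlt := commutator_lt_of_isPGroup (hKp.to_le hUK) (C.isPGroup h) hEU hUne
  have hUE : ⁅U, E⁆ ≤ A := by
    by_contra hne
    exact hlt.not_ge (hUmin ⟨hlt.le.trans hUK, le_sup_right.trans (Coprime.sup_le_normalizer_commutator U E), hne⟩
      hlt.le)
  obtain ⟨u, hu, huA⟩ := SetLike.not_le_iff_exists.1 hUA
  obtain ⟨huz, hut'⟩ := hUK hu
  have hut : Commute u t := commute_of_mem_centralizer_singleton hut'
  have hucA : u ∈ centralizer (A : Set G) := (h.zc_le A b huz).2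
  have huP : u ∈ coreP p b := (h.zc_le A b huz).1
  have hup : u ^ p = 1 := h.zc_pow A b huz
  have hval : ∀ e : E, ⁅(e : G), u⁆ ∈ A := fun e => hUE (by
    rw [commutator_comm]; exact commutator_mem_commutator e.2 hu)
  let φ : E →* A :=
    { toFun := fun e => ⟨⁅(e : G), u⁆, hval e⟩
      map_one' := Subtype.ext (by simp)
      map_mul' := fun e e' => Subtype.ext (by
        show ⁅(e : G) * e', u⁆ = ⁅(e : G), u⁆ * ⁅(e' : G), u⁆
        have h1 : ⁅(e : G) * e', u⁆ = (e : G) * ⁅(e' : G), u⁆ * (e : G)⁻¹ * ⁅(e : G), u⁆ := by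
          simp only [commutatorElement_def]; group
        rw [h1, conj_eq_of_commute (C.comm h e.2 (hAE (hval e')))]
        exact (C.comm h (hAE (hval e')) (hAE (hval e))).eq) }
  have hker : p * p ≤ Nat.card φ.ker := by
    have h1 := Subgroup.card_mul_index φ.ker
    rw [Subgroup.index_ker, C.card, hm] at h1
    have h2 : Nat.card φ.range ≤ p := by
      rw [← C.card_A_eq h F hm hb hb1]
      exact Nat.le_of_dvd Nat.card_pos (Subgroup.card_subgroup_dvd_card φ.range)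
    have h3 : p * p * p ≤ Nat.card φ.ker * p := by
      rw [show p * p * p = p ^ 3 by ring, ← h1]
      exact Nat.mul_le_mul_left _ h2
    exact Nat.le_of_mul_le_mul_right h3 hp.out.pos
  set E₀ := φ.ker.map E.subtype with hE₀
  have hE₀E : E₀ ≤ E := map_subtype_le _
  have hE₀card : Nat.card E₀ = Nat.card φ.ker := card_map_of_injective E.subtype_injective
  have hE₀u : u ∈ centralizer (E₀ : Set G) := by
    refine mem_centralizer_iff.2 ?_
    rintro _ ⟨e, he, rfl⟩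
    exact commutatorElement_eq_one_iff_mul_comm.1 (congrArg Subtype.val he)
  have huE : u ∉ E := fun hh => huA
    ⟨C.mem_of_coreP h F.act₁ hh hb.1 huP, C.mem_of_coreP h F.act₂ hh hb.2 huP⟩
  set E₁ := E₀ ⊔ zpowers u with hE₁
  have hE₁el := OddOrder.BG11.elem_sup_zpowers (C.elem_of_le h hE₀E) hup hE₀u
  have hE₁t : E₁ ≤ centralizer ({t} : Set G) :=
    sup_le (hE₀E.trans C.le) (zpowers_le.2 (mem_centralizer_singleton_of hut))
  have hE₁card : Nat.card E₁ = p ^ m := by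
    refine le_antisymm (h.bound t C.two C.eight E₁ hE₁el hE₁t) ?_
    rw [card_elem_sup hup hE₀u (fun hh => huE (hE₀E hh)), hE₀card, hm,
      show p ^ 3 = p * (p * p) by ring]
    exact Nat.mul_le_mul_left _ hker
  have C₁ : Cfg p m t E₁ := ⟨C.two, C.eight, hE₁el, hE₁card, hE₁t⟩
  set B := A ⊔ zpowers u with hB
  have hAE₀ : A ≤ E₀ := fun x hx => ⟨⟨x, hAE hx⟩, Subtype.ext
    (commutatorElement_eq_one_iff_mul_comm.2 (mem_centralizer_iff.1 hucA x hx)), rfl⟩
  have hBE₁ : B ≤ E₁ := sup_le_sup_right hAE₀ _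
  have hBcard : p * Nat.card B = Nat.card E₁ := by
    rw [hE₁card, card_elem_sup hup hucA huA, C.card_A_eq h F hm hb hb1, hm]; ring
  have haB : x₁ * x₂ ∈ centralizer (B : Set G) := by
    refine mem_centralizer_iff.2 fun x hx => ?_
    obtain ⟨v, hv, k, rfl⟩ := mem_sup_zpowers hucA hx
    have hau : Commute (x₁ * x₂) u := commute_cores h.odd (C.sq_le h (C.a_mem h F)) huP
      (mem_centralizer_iff.1 (C.a_centralizes h F) b hb).symm hut
    exact ((show Commute v (x₁ * x₂) from mem_centralizer_iff.1 (C.a_centralizes h F) v hv).mul_left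
      (hau.symm.zpow_left k)).eq
  by_cases hact : Active p t E₁ B
  · exact (C₁.active_involution h hact ⟨C.a_mem h F, haB⟩ (C.a_sq h F)).elim
      (C.a_ne h F).1 (C.a_ne h F).2
  · have hle : E₁ ≤ centralizer ((sq t ⊓ centralizer (B : Set G) : Subgroup G) : Set G) := by
      by_contra hh; exact hact ⟨hBE₁, hBcard, hh⟩
    refine ((C₁.eq_of_fixed h (C.sq_le h (C.a_mem h F)) (C.a_sq h F)
      (mem_centralizer_iff.2 fun e he => ?_))).elim (C.a_ne h F).1 (C.a_ne h F).2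
    exact (mem_centralizer_iff.1 (hle he) _ ⟨C.a_mem h F, haB⟩).symm

/-- Every element of `zc b` is an element of `A` times one inverted by `t`. -/
theorem zc_split {u : G} (hu : u ∈ zc p (B₁ ⊓ B₂) b) :
    ∃ f i, f ∈ B₁ ⊓ B₂ ∧ i ∈ zc p (B₁ ⊓ B₂) b ∧ t * i * t⁻¹ = i⁻¹ ∧ u = f * i ∧
      ∀ a : G, Commute a t → Commute a u → Commute a f ∧ Commute a i := by
  obtain ⟨f, i, hf, hi, htf, hti, he, hx⟩ := exists_fixed_mul_inverted h.odd (h.zc_isPGroup _ b)
    (C.sq_t h) (h.centralizer_le_normalizer_zc hb (C.t_mem_centralizer h (C.A_le h F))) hu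
  exact ⟨f, i, C.fixed_mem h F hm hb hb1 hf htf.symm, hi, hti, he, hx⟩

/-- An element of `C(b)` inverted by `t` acts trivially on `zc b` modulo `A`. -/
theorem mem_stab_of_inverted {y : G} (hyb : Commute y b) {k : ℕ} (hyp : y ^ p ^ k = 1)
    (hyt : t * y * t⁻¹ = y⁻¹) : y ∈ stab (B₁ ⊓ B₂) (zc p (B₁ ⊓ B₂) b) := by
  set A := B₁ ⊓ B₂ with hA
  have hcA : ∀ g ∈ centralizer ({b} : Set G), g ∈ centralizer (A : Set G) := fun g hg =>
    C.centralizes_A h F hm hb hb1 (commute_of_mem_centralizer_singleton hg)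
  have hyc := mem_centralizer_singleton_of hyb
  have hyA := hcA y hyc
  have hyN := h.centralizer_le_normalizer_zc hb hyA
  have hy2 : y * y ∈ stab A (zc p A b) := by
    refine ⟨mul_mem hyA hyA, fun u hu => ?_⟩
    obtain ⟨f, i, hf, hi, hti, rfl, -⟩ := C.zc_split h F hm hb hb1 hu
    obtain ⟨f₁, i₁, hf₁, hi₁, hti₁, he₁, -⟩ :=
      C.zc_split h F hm hb hb1 (conj_mem_of_mem_normalizer hyN hi)
    have hyf : ∀ g ∈ A, Commute y g := fun g hg => (mem_centralizer_iff.1 hyA g hg).symm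
    have htf₁ : Commute t f₁ := (commute_of_mem_centralizer_singleton (C.le (C.A_le h F hf₁))).symm
    have hfi : ∀ g ∈ A, ∀ w ∈ zc p A b, Commute g w := fun g hg w hw =>
      mem_centralizer_iff.1 (h.zc_le A b hw).2 g hg
    have h2 : y⁻¹ * i⁻¹ * y = f₁ * i₁⁻¹ := by
      have this : t * (y * i * y⁻¹) * t⁻¹ = t * (f₁ * i₁) * t⁻¹ := by rw [he₁]
      calc y⁻¹ * i⁻¹ * y = (t * y * t⁻¹) * (t * i * t⁻¹) * (t * y * t⁻¹)⁻¹ := by
            rw [hyt, hti, inv_inv]
        _ = t * (y * i * y⁻¹) * t⁻¹ := by group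
        _ = (t * f₁ * t⁻¹) * (t * i₁ * t⁻¹) := by rw [this]; group
        _ = f₁ * i₁⁻¹ := by rw [conj_eq_of_commute htf₁, hti₁]
    have h3 : y * y * i₁ * (y * y)⁻¹ = f₁ * f₁ * i₁ := by
      have h2' : y⁻¹ * i * y = i₁ * f₁⁻¹ := by
        rw [← inv_inj, mul_inv_rev, mul_inv_rev, mul_inv_rev, inv_inv, inv_inv, ← mul_assoc]
        exact h2
      have hi₁' : i₁ = y⁻¹ * i * y * f₁ := by rw [h2', inv_mul_cancel_right]
      calc y * y * i₁ * (y * y)⁻¹ = (y * y) * (y⁻¹ * i * y * f₁) * (y * y)⁻¹ := by rw [hi₁']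
        _ = (y * i * y⁻¹) * ((y * y) * f₁ * (y * y)⁻¹) := by group
        _ = f₁ * i₁ * f₁ := by rw [he₁, conj_eq_of_commute ((hyf _ hf₁).mul_left (hyf _ hf₁))]
        _ = _ := by rw [mul_assoc, (hfi f₁ hf₁ i₁ hi₁).symm.eq, ← mul_assoc]
    have hyy : Commute (y * y) f₁ := (hyf _ hf₁).mul_left (hyf _ hf₁)
    have hi' : i = y⁻¹ * (f₁ * i₁) * y := by rw [← he₁]; group
    have hres : ⁅y * y, i⁆ = f₁ * f₁ := by
      rw [commutatorElement_def]
      calc y * y * i * (y * y)⁻¹ * i⁻¹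
          = y⁻¹ * ((y * y) * f₁ * (y * y)⁻¹ * ((y * y) * i₁ * (y * y)⁻¹)) * y *
              (y⁻¹ * (f₁ * i₁) * y)⁻¹ := by rw [hi']; group
        _ = y⁻¹ * (f₁ * (f₁ * f₁ * i₁)) * y * (y⁻¹ * (f₁ * i₁) * y)⁻¹ := by
              rw [conj_eq_of_commute hyy, h3]
        _ = y⁻¹ * ((f₁ * f₁) * (f₁ * i₁) * (f₁ * i₁)⁻¹) * y := by group
        _ = y⁻¹ * ((f₁ * f₁) * y) := by rw [mul_inv_cancel_right, mul_assoc]
        _ = f₁ * f₁ := by rw [← ((hyf _ hf₁).mul_right (hyf _ hf₁)).eq, inv_mul_cancel_left]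
    have e : ⁅y * y, f * i⁆ = f * ⁅y * y, i⁆ * f⁻¹ := by
      have hyf' : Commute (y * y) f := (hyf _ hf).mul_left (hyf _ hf)
      have e2 : ⁅y * y, f * i⁆ = ⁅y * y, f⁆ * (f * ⁅y * y, i⁆ * f⁻¹) := by
        simp only [commutatorElement_def]; group
      rw [e2, commutatorElement_eq_one_iff_commute.2 hyf', one_mul]
    rw [e, hres]
    exact mul_mem (mul_mem hf (mul_mem hf₁ hf₁)) (inv_mem hf)
  obtain ⟨r, hr⟩ := exists_pow_eq_self_of_coprime (n := 2) (x := y)
    (coprime_two_of_pow h.odd hyp).symm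
  rw [← hr, pow_two]
  exact pow_mem hy2 r

/-- An element of `C(b)` inverted by `t` lies in `O_p(C(b))`. -/
theorem mem_coreP_of_inverted {y : G} (hyb : Commute y b) {k : ℕ} (hyp : y ^ p ^ k = 1)
    (hyt : t * y * t⁻¹ = y⁻¹) : y ∈ coreP p b := by
  have hs := C.mem_stab_of_inverted h F hm hb hb1 hyb hyp hyt
  set A := B₁ ⊓ B₂ with hA
  have hcA : ∀ g ∈ centralizer ({b} : Set G), g ∈ centralizer (A : Set G) := fun g hg =>
    C.centralizes_A h F hm hb hb1 (commute_of_mem_centralizer_singleton hg)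
  set K := stab A (zc p A b) with hK
  have hKp : IsPGroup p K := by
    refine isPGroup_of_coprime_eq_one fun g hg hgo => ?_
    refine h.faithful (C.orderOf_mem h (C.A_le h F hb) hb1) (C.cube h (C.A_le h F hb)) (C.elem_of_le h (C.A_le h F)) hb hgo
      hg.1 (mem_centralizer_iff.2 fun u hu => (commute_of_stab hgo (k := 1) ?_ ?_).symm.eq)
    · rw [pow_one]; exact C.elem.2 _ (C.A_le h F (hg.2 u hu))
    · exact (mem_centralizer_iff.1 hg.1 _ (hg.2 u hu)).symm
  refine le_pCoreOf (N := K) (L := centralizer ({b} : Set G))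
    (fun g hg => mem_centralizer_singleton_of (mem_centralizer_iff.1 hg.1 b hb).symm)
    (fun g hg => mem_normalizer_of_conj fun w hw =>
      ⟨mul_mem (mul_mem (hcA g hg) hw.1) (inv_mem (hcA g hg)), fun u hu => ?_⟩) hKp hs
  have hu' : g⁻¹ * u * g ∈ zc p A b := by
    simpa using conj_mem_of_mem_normalizer
      (h.centralizer_le_normalizer_zc hb (inv_mem (hcA g hg))) hu
  have e : ⁅g * w * g⁻¹, u⁆ = g * ⁅w, g⁻¹ * u * g⁆ * g⁻¹ := by
    simp only [commutatorElement_def]; group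
  rw [e, conj_eq_of_commute (show Commute g ⁅w, g⁻¹ * u * g⁆ from
    (mem_centralizer_iff.1 (hcA g hg) _ (hw.2 _ hu')).symm)]
  exact hw.2 _ hu'

theorem good_mem : ∃ y ∈ zc p (B₁ ⊓ B₂) b, Good p t (x₁ * x₂) (z₁ * z₂) (B₁ ⊓ B₂) y ∧
    Commute y (x₁ * y * x₁⁻¹) ∧ x₁ * y * x₁⁻¹ ∈ zc p (B₁ ⊓ B₂) b := by
  obtain ⟨y, hy, hg⟩ := C.exists_good_zc h F hb hb1
  exact ⟨y, hy, hg, C.good_commute h F hb hy hg,
    conj_mem_of_mem_normalizer (h.centralizer_le_normalizer_zc hb (C.x₁_centralizes h F)) hy⟩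

/-- Transport of active hyperplanes by conjugation. -/
theorem active_conj {a : G} {E' B : Subgroup G} (C' : Cfg p m a E') (hB : Active p a E' B) {g : G}
    (hga : Commute g a) (hgE : g ∈ normalizer (E' : Set G)) :
    Active p a E' (B.map (MulAut.conj g).toMonoidHom) := by
  set B' := B.map (MulAut.conj g).toMonoidHom with hB'
  have hB'le : B' ≤ E' := by
    rintro _ ⟨x, hx, rfl⟩; exact conj_mem_of_mem_normalizer hgE (hB.1 hx)
  refine ⟨hB'le, by rw [hB', card_map_of_injective (MulAut.conj g).injective]; exact hB.2.1,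
    fun hle => hB.2.2 fun e he => mem_centralizer_iff.2 fun x hx => ?_⟩
  have hgs := C'.mem_normalizer_sq h hga
  have hx' : g * x * g⁻¹ ∈ sq a ⊓ centralizer (B' : Set G) := by
    refine ⟨conj_mem_of_mem_normalizer hgs hx.1, mem_centralizer_iff.2 ?_⟩
    rintro _ ⟨y, hy, rfl⟩
    exact ((show Commute y x from mem_centralizer_iff.1 hx.2 y hy).map
      (MulAut.conj g).toMonoidHom).eq
  have := mem_centralizer_iff.1 (hle (conj_mem_of_mem_normalizer hgE he)) _ hx'
  apply (MulAut.conj g).injective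
  simpa using this

/-- The second configuration, centred at `a = x₁x₂`. -/
theorem exists_dual : ∃ (y : G) (E' B B' : Subgroup G) (d : G),
    Cfg p m (x₁ * x₂) E' ∧ Active p (x₁ * x₂) E' B ∧ Active p (x₁ * x₂) E' B' ∧ B ≠ B' ∧
    d ∈ B ⊓ B' ∧ d ≠ 1 ∧ t * d * t⁻¹ = d⁻¹ ∧ d ∈ zc p (B₁ ⊓ B₂) b ∧ b ∈ E' ∧ b ∉ B ∧ b ∉ B' ∧
    t ∈ normalizer (E' : Set G) ∧ B.map (MulAut.conj t).toMonoidHom = B' ∧
    y ∈ zc p (B₁ ⊓ B₂) b ∧ Good p t (x₁ * x₂) (z₁ * z₂) (B₁ ⊓ B₂) y ∧
    E' = (B₁ ⊓ B₂) ⊔ zpowers y ⊔ zpowers (x₁ * y * x₁⁻¹) := by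
  obtain ⟨y, hy, hg, hcomm, hy'⟩ := C.good_mem h F hm hb hb1
  obtain ⟨hEel, hEcard, hEa⟩ := C.good_elem h F hg hcomm
  obtain ⟨hy'p, hy'1, hy'i, hy'a, hy'j, hy'A⟩ := C.good_conj h F hg
  set A := B₁ ⊓ B₂ with hA
  set a := x₁ * x₂ with ha
  set y' := x₁ * y * x₁⁻¹ with hy'd
  set E' := A ⊔ zpowers y ⊔ zpowers y' with hE'
  have C' : Cfg p m a E' :=
    ⟨orderOf_two_of (C.a_sq h F) (C.a_ne h F).1, C.eight_a h F, hEel, hEcard, hEa⟩
  have hat : Commute t a := (C.commute_core h (C.sq_le h (C.a_mem h F))).symm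
  have htA : ∀ x ∈ A, Commute t x := fun x hx =>
    (commute_of_mem_centralizer_singleton (C.le (C.A_le h F hx))).symm
  have hgen : E' ≤ (A ⊔ zc p A b) := sup_le (sup_le le_sup_left
    (zpowers_le.2 (mem_sup_right hy))) (zpowers_le.2 (mem_sup_right hy'))
  have hsplit : ∀ u ∈ E', ∃ α ∈ A, ∃ v ∈ zc p A b, u = α * v ∧ t * v * t⁻¹ = v⁻¹ ∧
      t * u * t⁻¹ = α * v⁻¹ := by
    intro u hu
    have hy'F : y' ∈ centralizer ((A ⊔ zpowers y : Subgroup G) : Set G) :=
      mem_centralizer_iff.2 fun w hw => by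
        obtain ⟨x, hx, k, rfl⟩ := mem_sup_zpowers hg.2.2.2.2.2 hw
        exact ((show Commute x y' from mem_centralizer_iff.1 hy'A x hx).mul_left (hcomm.zpow_left k)).eq
    obtain ⟨w, hw, l, rfl⟩ := mem_sup_zpowers hy'F hu
    obtain ⟨α, hα, k, rfl⟩ := mem_sup_zpowers hg.2.2.2.2.2 hw
    have hv : t * (y ^ k * y' ^ l) * t⁻¹ = (y ^ k * y' ^ l)⁻¹ := by
      rw [← conj_mul, ← conj_zpow, ← conj_zpow, hg.2.2.1, hy'i, inv_zpow, inv_zpow, mul_inv_rev]
      exact ((hcomm.zpow_zpow k l).inv_inv).eq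
    refine ⟨α, hα, y ^ k * y' ^ l, mul_mem (zpow_mem hy k) (zpow_mem hy' l),
      mul_assoc _ _ _, hv, ?_⟩
    rw [mul_assoc α, ← conj_mul, conj_eq_of_commute (htA α hα), hv]
  have htE' : t ∈ normalizer (E' : Set G) := mem_normalizer_of_conj fun u hu => by
    obtain ⟨α, hα, v, -, rfl, -, htu⟩ := hsplit u hu
    rw [htu]
    have hαE : α ∈ E' := mem_sup_left (mem_sup_left hα)
    refine mul_mem hαE (inv_mem ?_)
    have := mul_mem (inv_mem hαE) hu
    rwa [inv_mul_cancel_left] at this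
  have hbE' : b ∈ E' := mem_sup_left (mem_sup_left hb)
  have hb_not : ∀ B, Active p a E' B → b ∉ B := by
    intro B hB hbB
    refine hB.2.2 fun e he => mem_centralizer_iff.2 fun x hx => ?_
    have hxb : Commute x b := (mem_centralizer_iff.1 hx.2 b hbB).symm
    have hxc : ∀ w, w ∈ coreP p b → Commute w a → Commute x w := fun w hw hwa =>
      commute_cores h.odd (C'.sq_le h hx.1) hw hxb hwa
    have hle : E' ≤ centralizer ({x} : Set G) := by
      refine sup_le (sup_le ?_ ?_) ?_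
      · rw [hA, C.A_eq h F hm hb hb1, zpowers_le]
        exact mem_centralizer_singleton_of hxb.symm
      · exact zpowers_le.2 (mem_centralizer_singleton_of (hxc y (h.zc_le A b hy).1 hg.2.2.2.1).symm)
      · exact zpowers_le.2 (mem_centralizer_singleton_of (hxc y' (h.zc_le A b hy').1 hy'a).symm)
    exact (commute_of_mem_centralizer_singleton (hle he)).symm.eq
  obtain ⟨B, hB, hyB⟩ := C'.exists_active_not_mem h
    (mem_sup_left (mem_sup_right (mem_zpowers y)) : y ∈ E') hg.2.1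
  set B' := B.map (MulAut.conj t).toMonoidHom with hB'def
  have hB' : Active p a E' B' := C.active_conj h F hm hb hb1 C' hB hat htE'
  have hsq2 : ∀ α ∈ A, ∀ H : Subgroup G, b ∉ H → α * α ∈ H → α = 1 := by
    intro α hα H hbH hααH
    by_contra hα1
    refine hbH (C.A_le_of_mem h F hm hb hb1 (mul_mem hα hα) (fun e => hα1 ?_) hααH hb)
    exact eq_one_of_inv_eq' hp.out h.odd (C.elem.2 α (C.A_le h F hα)) (inv_eq_of_mul_eq_one_right e)
  have hne : B ≠ B' := by
    intro e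
    have hbB := hb_not B hB
    obtain ⟨k, hk⟩ := C'.exists_adjust h hB hbE' hbB
      (mem_sup_left (mem_sup_right (mem_zpowers y)) : y ∈ E')
    have htk : t * (y * b ^ k) * t⁻¹ ∈ B := e.ge ⟨_, hk, rfl⟩
    rw [← conj_mul, hg.2.2.1, conj_eq_of_commute (htA _ (zpow_mem hb k))] at htk
    have hyb : Commute y (b ^ k) :=
      (show Commute y b from (mem_centralizer_iff.1 hg.2.2.2.2.2 b hb).symm).zpow_right k
    have hbk : b ^ k = 1 := hsq2 _ (zpow_mem hb k) B hbB (by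
      have := mul_mem hk htk
      rwa [show y * b ^ k * (y⁻¹ * b ^ k) = (y * b ^ k * y⁻¹) * b ^ k by group,
        conj_eq_of_commute hyb] at this)
    exact hyB (by rwa [hbk, mul_one] at hk)
  have hcard : Nat.card ↥(B ⊓ B') = p := by
    have h1 := C'.card_inf_active h hB hB' hne
    have h2 := C'.active_card h hB
    rw [← h1, hm, show p ^ 3 = p * (p * p) by ring] at h2
    exact Nat.eq_of_mul_eq_mul_left hp.out.pos (Nat.eq_of_mul_eq_mul_left hp.out.pos h2)
  haveI : Nontrivial ↥(B ⊓ B') := by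
    rw [← Finite.one_lt_card_iff_nontrivial, hcard]; exact hp.out.one_lt
  obtain ⟨⟨d, hd⟩, hd1⟩ := exists_ne (1 : ↥(B ⊓ B'))
  obtain ⟨α, hα, v, hv, hdv, htv, htd⟩ := hsplit d (hB.1 hd.1)
  have htdB : t * d * t⁻¹ ∈ B := by
    obtain ⟨w, hw, e⟩ := hd.2
    rw [← e]
    simpa [conj_conj_of_sq_one (C.sq_t h)] using hw
  have hαv : Commute α v := mem_centralizer_iff.1 (h.zc_le A b hv).2 α hα
  have hα1 : α = 1 := hsq2 α hα B (hb_not B hB) (by
    have := mul_mem hd.1 htdB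
    rwa [htd, hdv, show α * v * (α * v⁻¹) = α * (v * α * v⁻¹) by group,
      conj_eq_of_commute hαv.symm] at this)
  rw [hα1, one_mul] at hdv
  subst hdv
  exact ⟨y, E', B, B', d, C', hB, hB', hne, hd, fun e => hd1 (Subtype.ext e), htv, hv, hbE',
    hb_not B hB, hb_not B' hB', htE', rfl, hy, hg, rfl⟩

/-- Elements of `zc b` inverted by `t` and fixed by `ta`, and those fixed by `a`, commute. -/
theorem commute_cross {u v : G} (hu : u ∈ zc p (B₁ ⊓ B₂) b) (hv : v ∈ zc p (B₁ ⊓ B₂) b)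
    (hut : t * u * t⁻¹ = u⁻¹) (hvt : t * v * t⁻¹ = v⁻¹) (hua : Commute u (t * (x₁ * x₂)))
    (hva : Commute v (x₁ * x₂)) : Commute u v := by
  set a := x₁ * x₂ with ha
  set c := ⁅u, v⁆ with hc
  obtain ⟨e1, -⟩ := commutator_inv_inv (h.zc_class _ b hu hv hu) (h.zc_class _ b hu hv hv)
  have hcz : c ∈ zc p (B₁ ⊓ B₂) b := by
    rw [hc, commutatorElement_def]; exact mul_mem (mul_mem (mul_mem hu hv) (inv_mem hu)) (inv_mem hv)
  have hcA : c ∈ B₁ ⊓ B₂ := C.fixed_mem h F hm hb hb1 hcz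
    (commute_of_conj_eq (by rw [hc, conj_commutator, hut, hvt, e1])).symm
  have hat := C.commute_core h (C.sq_le h (C.a_mem h F))
  have hau : a * u * a⁻¹ = u⁻¹ := by
    have : t * (t * a * u * (t * a)⁻¹) * t⁻¹ = a * u * a⁻¹ := by
      rw [show t * (t * a * u * (t * a)⁻¹) * t⁻¹ = (t * t) * (a * u * a⁻¹) * (t * t)⁻¹ by group,
        C.sq_t h, one_mul, inv_one, mul_one]
    rw [← this, conj_eq_of_commute hua.symm, hut]
  have h1 : a * c * a⁻¹ = c⁻¹ := by
    rw [hc, conj_commutator, hau, conj_eq_of_commute hva.symm]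
    have : Commute ⁅v, u⁆ v := by
      rw [← commutatorElement_inv, ← hc]; exact (h.zc_class _ b hu hv hv).inv_left
    have h2 : Commute ⁅v, u⁆ u := by
      rw [← commutatorElement_inv, ← hc]; exact (h.zc_class _ b hu hv hu).inv_left
    rw [← commutatorElement_inv v u⁻¹, (commutator_inv_inv this h2).2, inv_inv, commutatorElement_inv]
  rw [conj_eq_of_commute (show Commute a c from
    (mem_centralizer_iff.1 (C.a_centralizes h F) c hcA).symm), eq_comm] at h1
  exact commutatorElement_eq_one_iff_commute.1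
    (eq_one_of_inv_eq' hp.out h.odd (h.zc_pow _ b hcz) h1)

/-- `zc b` is abelian. -/
theorem zc_comm {u v : G} (hu : u ∈ zc p (B₁ ⊓ B₂) b) (hv : v ∈ zc p (B₁ ⊓ B₂) b) : Commute u v := by
  obtain ⟨y, E', B, B', d, C', hB, hB', hne, hd, hd1, hdt, hdz, hbE', hbB, hbB', htE', hBB', hy, hg,
    hE'⟩ := C.exists_dual h F hm hb hb1
  set A := B₁ ⊓ B₂ with hA
  set a := x₁ * x₂ with ha
  obtain ⟨x₁', z₁', x₂', z₂', F'⟩ := C'.exists_frame h hB hB' hne
  have hat : Commute a t := C.commute_core h (C.sq_le h (C.a_mem h F))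
  have hda : Commute d a := commute_of_mem_centralizer_singleton (C'.le (hB.1 hd.1))
  -- two elements inverted by `t` and fixed by `ta`
  have hUU : ∀ w ∈ zc p A b, ∀ w' ∈ zc p A b, t * w * t⁻¹ = w⁻¹ → t * w' * t⁻¹ = w'⁻¹ →
      Commute w (t * a) → Commute w' (t * a) → Commute w w' := by
    intro w hw w' hw' hwt hw't hwa hw'a
    have core : ∀ x ∈ zc p A b, t * x * t⁻¹ = x⁻¹ → Commute x (t * a) → x ∈ coreP p d := by
      intro x hx hxt hxa
      refine C'.mem_coreP_of_inverted h F' hm hd hd1 (C.commute_cross h F hm hb hb1 hx hdz hxt hdt hxa hda)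
        (k := 1) (by rw [pow_one]; exact h.zc_pow A b hx) ?_
      have : t * (t * a * x * (t * a)⁻¹) * t⁻¹ = a * x * a⁻¹ := by
        rw [show t * (t * a * x * (t * a)⁻¹) * t⁻¹ = (t * t) * (a * x * a⁻¹) * (t * t)⁻¹ by group,
          C.sq_t h, one_mul, inv_one, mul_one]
      rw [← this, conj_eq_of_commute hxa.symm, hxt]
    set c := ⁅w, w'⁆ with hc
    obtain ⟨e1, -⟩ := commutator_inv_inv (h.zc_class _ b hw hw' hw) (h.zc_class _ b hw hw' hw')
    have hcz : c ∈ zc p A b := by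
      rw [hc, commutatorElement_def]; exact mul_mem (mul_mem (mul_mem hw hw') (inv_mem hw)) (inv_mem hw')
    have hcA : c ∈ A := C.fixed_mem h F hm hb hb1 hcz
      (commute_of_conj_eq (by rw [hc, conj_commutator, hwt, hw't, e1])).symm
    have hcd : c ∈ coreP p d := by
      rw [hc, commutatorElement_def]
      exact mul_mem (mul_mem (mul_mem (core w hw hwt hwa) (core w' hw' hw't hw'a))
        (inv_mem (core w hw hwt hwa))) (inv_mem (core w' hw' hw't hw'a))
    by_contra hne'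
    have hbd : b ∈ coreP p d := C.A_le_of_mem h F hm hb hb1 hcA
      (fun e => hne' (commutatorElement_eq_one_iff_commute.1 e)) hcd hb
    exact hbB (C'.mem_of_coreP h hB hbE' hd.1 hbd)
  have hz1 : ∀ w, Commute w a → Commute (z₁ * w * z₁⁻¹) (t * a) := fun w hw => by
    have := hw.map (MulAut.conj z₁).toMonoidHom
    simp only [MulEquiv.toMonoidHom_eq_coe, MonoidHom.coe_coe, MulAut.conj_apply] at this
    rwa [show z₁ * a * z₁⁻¹ = t * a from C.z₁_conj_a h F] at this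
  have hz1t : ∀ w, t * w * t⁻¹ = w⁻¹ → t * (z₁ * w * z₁⁻¹) * t⁻¹ = (z₁ * w * z₁⁻¹)⁻¹ := fun w hw => by
    have hzt := C.commute_core h (C.sq_le h F.z₁_mem.1)
    calc t * (z₁ * w * z₁⁻¹) * t⁻¹ = (t * z₁) * w * (t * z₁)⁻¹ := by group
      _ = (z₁ * t) * w * (z₁ * t)⁻¹ := by rw [hzt.eq]
      _ = z₁ * (t * w * t⁻¹) * z₁⁻¹ := by group
      _ = (z₁ * w * z₁⁻¹)⁻¹ := by rw [hw, conj_inv]
  have hzn := h.centralizer_le_normalizer_zc hb (C.z₁_centralizes h F)
  -- all inverted elements fixed by `a` or by `ta` commute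
  have hinv : ∀ w ∈ zc p A b, ∀ w' ∈ zc p A b, t * w * t⁻¹ = w⁻¹ → t * w' * t⁻¹ = w'⁻¹ →
      (Commute w a ∨ Commute w (t * a)) → (Commute w' a ∨ Commute w' (t * a)) → Commute w w' := by
    intro w hw w' hw' hwt hw't hwa hw'a
    rcases hwa with hwa | hwa <;> rcases hw'a with hw'a | hw'a
    · have := hUU _ (conj_mem_of_mem_normalizer hzn hw) _ (conj_mem_of_mem_normalizer hzn hw')
        (hz1t w hwt) (hz1t w' hw't) (hz1 w hwa) (hz1 w' hw'a)
      have := this.map (MulAut.conj z₁⁻¹).toMonoidHom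
      simpa [mul_assoc] using this
    · exact (C.commute_cross h F hm hb hb1 hw' hw hw't hwt hw'a hwa).symm
    · exact C.commute_cross h F hm hb hb1 hw hw' hwt hw't hwa hw'a
    · exact hUU w hw w' hw' hwt hw't hwa hw'a
  have hAz : ∀ f ∈ A, ∀ w ∈ zc p A b, Commute f w := fun f hf w hw =>
    mem_centralizer_iff.1 (h.zc_le A b hw).2 f hf
  have hparts : ∀ w ∈ zc p A b, ∀ w' ∈ zc p A b,
      (Commute w a ∨ Commute w (t * a) ∨ Commute w t) →
      (Commute w' a ∨ Commute w' (t * a) ∨ Commute w' t) → Commute w w' := by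
    intro w hw w' hw' h1 h2
    rcases h1 with h1 | h1 | h1
    rotate_left 2
    · exact hAz w (C.fixed_mem h F hm hb hb1 hw h1) w' hw'
    all_goals
      rcases h2 with h2 | h2 | h2
      rotate_left 2
      · exact (hAz w' (C.fixed_mem h F hm hb hb1 hw' h2) w hw).symm
      all_goals
        obtain ⟨f, i, hf, hi, hti, rfl, hsp⟩ := C.zc_split h F hm hb hb1 hw
        obtain ⟨f', i', hf', hi', hti', rfl, hsp'⟩ := C.zc_split h F hm hb hb1 hw'
        have hii : Commute i i' := by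
          refine hinv i hi i' hi' hti hti' ?_ ?_
          · first
              | exact Or.inl (hsp a hat h1.symm).2.symm
              | exact Or.inr (hsp (t * a) ((Commute.refl t).mul_left hat) h1.symm).2.symm
          · first
              | exact Or.inl (hsp' a hat h2.symm).2.symm
              | exact Or.inr (hsp' (t * a) ((Commute.refl t).mul_left hat) h2.symm).2.symm
        exact ((hAz f hf _ hw')).mul_left ((hAz f' hf' i hi).symm.mul_right hii)
  have htA := C.t_mem_centralizer h (C.A_le h F)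
  have hn := h.centralizer_le_normalizer_zc (p := p) hb
  have gen : ∀ W : Subgroup G, (∀ w ∈ zc p A b,
      (Commute w a ∨ Commute w (t * a) ∨ Commute w t) → w ∈ W) → zc p A b ≤ W := fun W hW =>
    le_of_four h.odd (h.zc_isPGroup A b) (C.sq_t h) (C.a_sq h F) hat.symm (C.a_ne h F).2
      (C.a_ne h F).1 (C.ne_one h) (hn htA) (hn (C.a_centralizes h F))
      (fun w hw => hW w hw.1 (Or.inr (Or.inr (commute_of_mem_centralizer_singleton hw.2))))
      (fun w hw => hW w hw.1 (Or.inl (commute_of_mem_centralizer_singleton hw.2)))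
      (fun w hw => hW w hw.1 (Or.inr (Or.inl (commute_of_mem_centralizer_singleton hw.2))))
  have h1 : ∀ w ∈ zc p A b, (Commute w a ∨ Commute w (t * a) ∨ Commute w t) →
      zc p A b ≤ centralizer ({w} : Set G) := fun w hw hw1 =>
    gen _ fun w' hw' hw'1 => mem_centralizer_singleton_of (hparts w' hw' w hw hw'1 hw1)
  exact (commute_of_mem_centralizer_singleton ((gen (centralizer ({u} : Set G)) fun w hw hw1 =>
    mem_centralizer_singleton_of
      (commute_of_mem_centralizer_singleton (h1 w hw hw1 hu)).symm) hv)).symm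

/-- The fixed points of `a` in `zc b` lie in the configuration group at `a`. -/
theorem fixed_a_mem {y : G} (hy : y ∈ zc p (B₁ ⊓ B₂) b)
    (hg : Good p t (x₁ * x₂) (z₁ * z₂) (B₁ ⊓ B₂) y) {u : G} (hu : u ∈ zc p (B₁ ⊓ B₂) b)
    (hua : Commute u (x₁ * x₂)) :
    u ∈ (B₁ ⊓ B₂) ⊔ zpowers y ⊔ zpowers (x₁ * y * x₁⁻¹) := by
  have hy' : x₁ * y * x₁⁻¹ ∈ zc p (B₁ ⊓ B₂) b :=
    conj_mem_of_mem_normalizer (h.centralizer_le_normalizer_zc hb (C.x₁_centralizes h F)) hy
  obtain ⟨hEel, hEcard, hEa⟩ := C.good_elem h F hg (C.good_commute h F hb hy hg)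
  refine h.mem_of_bound (orderOf_two_of (C.a_sq h F) (C.a_ne h F).1) (C.eight_a h F) hEel hEcard.ge hEa
    (h.zc_pow _ b hu) ?_ hua
  have hle : (B₁ ⊓ B₂) ⊔ zpowers y ⊔ zpowers (x₁ * y * x₁⁻¹) ≤ centralizer ({u} : Set G) := by
    refine sup_le (sup_le (fun x hx => mem_centralizer_singleton_of
      (mem_centralizer_iff.1 (h.zc_le _ b hu).2 x hx)) ?_) ?_
    · exact zpowers_le.2 (mem_centralizer_singleton_of (C.zc_comm h F hm hb hb1 hy hu))
    · exact zpowers_le.2 (mem_centralizer_singleton_of (C.zc_comm h F hm hb hb1 hy' hu))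
  exact mem_centralizer_iff.2 fun w hw => (commute_of_mem_centralizer_singleton (hle hw)).eq

/-- No third active hyperplane passes through `b`. -/
theorem no_third (hp3 : p = 3) {B₃ : Subgroup G} (h3 : Active p t E B₃) (hb3 : b ∈ B₃)
    (hne1 : B₃ ≠ B₁) (hne2 : B₃ ≠ B₂) : False := by
  obtain ⟨x, z, hx, hz, hxz⟩ := C.exists_noncommuting h h3
  obtain ⟨⟨hx1, hxt⟩, -⟩ := C.noncommuting h hx hz hxz
  have hxx := C.sq_eq_of_ne h h3 hx hx1 hxt
  have hxA : x ∈ centralizer ((B₁ ⊓ B₂ : Subgroup G) : Set G) :=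
    C.centralizes_A h F hm hb hb1 (mem_centralizer_iff.1 hx.2 b hb3).symm
  have hxa : Commute x (x₁ * x₂) := (C.commute_active h h3 F.act₁ hne1 hx F.x₁_mem).mul_right
    (C.commute_active h h3 F.act₂ hne2 hx F.x₂_mem)
  have hxj : Commute x (z₁ * z₂) := (C.commute_active h h3 F.act₁ hne1 hx F.z₁_mem).mul_right
    (C.commute_active h h3 F.act₂ hne2 hx F.z₂_mem)
  obtain ⟨y, hy, hg, hc, hy'⟩ := C.good_mem h F hm hb hb1
  obtain ⟨hyp, hy1, hyi, hya, hyj, hyA⟩ := hg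
  set w := x * y * x⁻¹ with hw
  have hwz : w ∈ zc p (B₁ ⊓ B₂) b :=
    conj_mem_of_mem_normalizer (h.centralizer_le_normalizer_zc hb hxA) hy
  have hxt' : Commute x t := C.commute_core h (C.sq_le h hx.1)
  have hwg : Good p t (x₁ * x₂) (z₁ * z₂) (B₁ ⊓ B₂) w := by
    refine ⟨by rw [hw, conj_pow, hyp, mul_one, mul_inv_cancel], fun e => hy1 (conj_eq_one_iff.1 e),
      ?_, (hxa.mul_left hya).mul_left hxa.inv_left, (hxj.mul_left hyj).mul_left hxj.inv_left,
      mul_mem (mul_mem hxA hyA) (inv_mem hxA)⟩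
    calc t * (x * y * x⁻¹) * t⁻¹ = (t * x) * y * (t * x)⁻¹ := by group
      _ = (x * t) * y * (x * t)⁻¹ := by rw [hxt'.eq]
      _ = x * (t * y * t⁻¹) * x⁻¹ := by group
      _ = (x * y * x⁻¹)⁻¹ := by rw [hyi, conj_inv]
  have hwy := C.good_line h F ⟨hyp, hy1, hyi, hya, hyj, hyA⟩ hc hwg
    (C.zc_comm h F hm hb hb1 hy hwz) (C.zc_comm h F hm hb hb1 hy' hwz)
  subst hp3
  obtain ⟨k, hk⟩ := mem_zpowers_iff.1 hwy
  have hord : orderOf y = 3 := orderOf_eq_prime hyp hy1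
  have hk3 : y ^ k = y ^ (k % 3) := by
    rw [← zpow_mod_orderOf y k, hord]; norm_num
  have hlast : x * x * y * (x * x)⁻¹ = y⁻¹ := by rw [hxx]; exact hyi
  have hcases : k % 3 = 0 ∨ k % 3 = 1 ∨ k % 3 = 2 := by omega
  have hyy : y ^ (2 : ℤ) = y⁻¹ := by
    rw [eq_inv_iff_mul_eq_one, ← zpow_add_one]; exact_mod_cast hyp
  rw [hk3] at hk
  have hfix : y = y⁻¹ := by
    rcases hcases with e | e | e <;> rw [e] at hk
    · exact absurd (by simpa using hk.symm) hwg.2.1
    · rw [zpow_one] at hk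
      rw [show x * x * y * (x * x)⁻¹ = x * (x * y * x⁻¹) * x⁻¹ by group, ← hw, ← hk, ← hw, ← hk]
        at hlast
      exact hlast
    · rw [hyy] at hk
      rw [show x * x * y * (x * x)⁻¹ = x * (x * y * x⁻¹) * x⁻¹ by group, ← hw, ← hk, ← conj_inv,
        ← hw, ← hk, inv_inv] at hlast
      exact hlast
  exact hy1 (eq_one_of_inv_eq' hp.out (by norm_num) hyp hfix.symm)

end Cfg

end CfsgLib.LocalEven48.KlingerMason
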