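import Cfsg.Agent.CharPLocal.Two
import Cfsg.Agent.Coprime.Generation
import Cfsg.Agent.Components.FStar
import Cfsg.Agent.OddOrder.BG11.Groups
import Cfsg.Agent.OddOrder.BG4.Basic
import Cfsg.Agent.Transfer.Critical
import Cfsg.Agent.Signalizer.Generation

/-!
Elementary tools for the Klinger–Mason theorem: involutions acting on groups of odd prime power
order, elementary abelian extensions, fixed points of `p`-groups.
-/

set_option autoImplicit false

namespace CfsgLib.LocalEven48.KlingerMason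

open Subgroup Cfsg
open scoped commutatorElement

variable {G : Type*} [Group G]

theorem inv_of_sq_one {t : G} (ht : t * t = 1) : t⁻¹ = t := inv_eq_of_mul_eq_one_left ht

theorem mul_self_of_orderOf_two {t : G} (ht : orderOf t = 2) : t * t = 1 := by
  rw [← pow_two, ← ht, pow_orderOf_eq_one]

theorem orderOf_two_of {t : G} (h : t * t = 1) (h1 : t ≠ 1) : orderOf t = 2 :=
  orderOf_eq_prime (by rw [pow_two, h]) h1

theorem mem_zpowers_involution {t x : G} (ht : t * t = 1) (hx : x ∈ zpowers t) : x = 1 ∨ x = t := by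
  obtain ⟨k, rfl⟩ := mem_zpowers_iff.1 hx
  obtain ⟨l, rfl | rfl⟩ := Int.even_or_odd' k
  · left; rw [zpow_mul, zpow_two, ht, one_zpow]
  · right; rw [zpow_add, zpow_mul, zpow_two, ht, one_zpow, one_mul, zpow_one]

/-- An element of odd order equal to its inverse is trivial. -/
theorem eq_one_of_inv_eq {y : G} {p : ℕ} (hp : p.Prime) (hp2 : p ≠ 2) {k : ℕ}
    (hy : y ^ p ^ k = 1) (h : y⁻¹ = y) : y = 1 := by
  have h2 : y ^ 2 = 1 := by rw [pow_two]; nth_rw 1 [← h]; rw [inv_mul_cancel]
  have hcop : Nat.Coprime 2 (p ^ k) :=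
    Nat.Coprime.pow_right k ((Nat.coprime_primes Nat.prime_two hp).2 (Ne.symm hp2))
  simpa [hcop.gcd_eq_one] using pow_gcd_eq_one.2 ⟨h2, hy⟩

theorem eq_one_of_inv_eq' {y : G} {p : ℕ} (hp : p.Prime) (hp2 : p ≠ 2)
    (hy : y ^ p = 1) (h : y⁻¹ = y) : y = 1 :=
  eq_one_of_inv_eq hp hp2 (k := 1) (by rwa [pow_one]) h

/-- An element of order `p` both fixed and inverted by `t` is trivial. -/
theorem eq_one_of_fixed_inverted {t y : G} {p : ℕ} (hp : p.Prime) (hp2 : p ≠ 2) (hy : y ^ p = 1)
    (hi : t * y * t⁻¹ = y⁻¹) (hf : Commute t y) : y = 1 :=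
  eq_one_of_inv_eq' hp hp2 hy (by rw [← hi, hf.eq, mul_inv_cancel_right])

theorem commute_of_mem_centralizer_singleton {a x : G} (h : x ∈ centralizer ({a} : Set G)) :
    Commute x a := mem_centralizer_singleton_iff.1 h

theorem mem_centralizer_singleton_of {a x : G} (h : Commute x a) :
    x ∈ centralizer ({a} : Set G) := mem_centralizer_singleton_iff.2 h

theorem conj_eq_of_commute {a x : G} (h : Commute a x) : a * x * a⁻¹ = x := by
  rw [h.eq, mul_inv_cancel_right]

theorem commute_of_conj_eq {a x : G} (h : a * x * a⁻¹ = x) : Commute a x :=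
  mul_inv_eq_iff_eq_mul.1 h

/-- An element commuting with a commutator value of a class two pair. -/
theorem commutator_inv_inv {y z : G} (hy : Commute ⁅y, z⁆ y) (hz : Commute ⁅y, z⁆ z) :
    ⁅y⁻¹, z⁻¹⁆ = ⁅y, z⁆ ∧ ⁅y, z⁻¹⁆ = ⁅y, z⁆⁻¹ := by
  set c := ⁅y, z⁆ with hc
  have e1 : ⁅y, z⁻¹⁆ = z⁻¹ * c⁻¹ * z := by rw [hc]; simp only [commutatorElement_def]; group
  have e1' : ⁅y, z⁻¹⁆ = c⁻¹ := by
    rw [e1, mul_assoc, hz.inv_left.eq, inv_mul_cancel_left]
  refine ⟨?_, e1'⟩
  have e2 : ⁅y⁻¹, z⁻¹⁆ = y⁻¹ * ⁅y, z⁻¹⁆⁻¹ * y := by simp only [commutatorElement_def]; group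
  rw [e2, e1', inv_inv, mul_assoc, hy.eq, inv_mul_cancel_left]

theorem conj_commutator (a y z : G) :
    a * ⁅y, z⁆ * a⁻¹ = ⁅a * y * a⁻¹, a * z * a⁻¹⁆ := by
  simp only [commutatorElement_def]; group

theorem mem_normalizer_of_conj [Finite G] {H : Subgroup G} {g : G}
    (h : ∀ x ∈ H, g * x * g⁻¹ ∈ H) : g ∈ normalizer (H : Set G) := mem_normalizer_fintype h

theorem conj_mem_of_mem_normalizer {H : Subgroup G} {g x : G} (hg : g ∈ normalizer (H : Set G))
    (hx : x ∈ H) : g * x * g⁻¹ ∈ H := (mem_normalizer_iff.1 hg x).1 hx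

theorem normalizer_inf_le {H K : Subgroup G} {g : G} (hH : g ∈ normalizer (H : Set G))
    (hK : g ∈ normalizer (K : Set G)) : g ∈ normalizer ((H ⊓ K : Subgroup G) : Set G) :=
  inf_normalizer_le_normalizer_inf ⟨hH, hK⟩

theorem mem_normalizer_centralizer {H : Subgroup G} {g : G} (hg : g ∈ normalizer (H : Set G)) :
    g ∈ normalizer (centralizer (H : Set G) : Set G) :=
  CharPLocal.normalizer_le_normalizer_centralizer H hg

theorem mem_normalizer_centralizer_singleton {a g : G} (h : Commute g a) :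
    g ∈ normalizer (centralizer ({a} : Set G) : Set G) :=
  le_normalizer (mem_centralizer_singleton_of h)

variable [Finite G] {p : ℕ} [hp : Fact p.Prime]

theorem coprime_two (hp2 : p ≠ 2) : Nat.Coprime 2 p :=
  (Nat.coprime_primes Nat.prime_two hp.out).2 (Ne.symm hp2)

/-- An involution moving a group of odd prime power order inverts an element of order `p`. -/
theorem exists_inverted (hp2 : p ≠ 2) {N : Subgroup G} (hN : IsPGroup p N) {t : G}
    (ht : t * t = 1) (hn : t ∈ normalizer (N : Set G)) (h : t ∉ centralizer (N : Set G)) :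
    ∃ y ∈ N, y ^ p = 1 ∧ y ≠ 1 ∧ t * y * t⁻¹ = y⁻¹ := by
  obtain ⟨x, hx, hne⟩ : ∃ x ∈ N, ¬ x * t = t * x := by
    by_contra hcon
    push Not at hcon
    exact h (mem_centralizer_iff.2 hcon)
  set c := x⁻¹ * (t * x * t⁻¹) with hc
  have hcN : c ∈ N := mul_mem (inv_mem hx) (conj_mem_of_mem_normalizer hn hx)
  have hc1 : c ≠ 1 := fun e => hne (by
    have : x = t * x * t⁻¹ := inv_mul_eq_one.1 (hc ▸ e)
    nth_rw 1 [this]; rw [inv_mul_cancel_right])
  have hinv : t * c * t⁻¹ = c⁻¹ := by
    rw [hc, inv_of_sq_one ht]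
    calc t * (x⁻¹ * (t * x * t)) * t = t * x⁻¹ * t * x * (t * t) := by group
      _ = t * x⁻¹ * t * x := by rw [ht, mul_one]
      _ = (x⁻¹ * (t * x * t))⁻¹ := by
          rw [mul_inv_rev, mul_inv_rev, mul_inv_rev, inv_of_sq_one ht, inv_inv]
          simp only [mul_assoc]
  obtain ⟨k, hk⟩ := IsPGroup.iff_orderOf.1 hN ⟨c, hcN⟩
  rw [Subgroup.orderOf_mk] at hk
  obtain ⟨k, rfl⟩ : ∃ l, k = l + 1 := Nat.exists_eq_succ_of_ne_zero fun e => hc1 (by
    rwa [e, pow_zero, orderOf_eq_one_iff] at hk)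
  refine ⟨c ^ p ^ k, N.pow_mem hcN _, by rw [← pow_mul, ← pow_succ, ← hk, pow_orderOf_eq_one],
    fun e => ?_, by rw [← conj_pow, hinv, inv_pow]⟩
  have := orderOf_dvd_of_pow_eq_one e
  rw [hk] at this
  have := (Nat.pow_dvd_pow_iff_le_right hp.out.one_lt).1 this
  omega

/-- Generation by the centralizers of the three involutions of a four group. -/
theorem le_of_four (hp2 : p ≠ 2) {N : Subgroup G} (hN : IsPGroup p N) {t a : G}
    (ht : t * t = 1) (ha : a * a = 1) (hta : Commute t a) (hat : a ≠ t) (ha1 : a ≠ 1) (ht1 : t ≠ 1)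
    (htN : t ∈ normalizer (N : Set G)) (haN : a ∈ normalizer (N : Set G))
    {W : Subgroup G} (h0 : N ⊓ centralizer ({t} : Set G) ≤ W)
    (h1 : N ⊓ centralizer ({a} : Set G) ≤ W)
    (h2 : N ⊓ centralizer ({t * a} : Set G) ≤ W) : N ≤ W := by
  have h2t : IsElementaryAbelian 2 (zpowers t) :=
    ⟨inferInstance, fun x hx => by
      rcases mem_zpowers_involution ht hx with rfl | rfl
      · exact one_pow 2
      · rw [pow_two, ht]⟩
  set V := zpowers t ⊔ zpowers a with hV
  have hac : a ∈ centralizer (zpowers t : Set G) := by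
    rw [zpowers_eq_closure, centralizer_closure]
    exact mem_centralizer_singleton_of hta.symm
  have hVe : IsElementaryAbelian 2 V :=
    OddOrder.BG11.elem_sup_zpowers h2t (by rw [pow_two, ha]) hac
  haveI := hVe.1
  have hatmem : a ∉ zpowers t := fun h => by
    rcases mem_zpowers_involution ht h with e | e
    · exact ha1 e
    · exact hat e
  have hncyc : ¬ IsCyclic V := by
    intro hc
    obtain ⟨g, hg⟩ := hc.exists_generator
    obtain ⟨g, hgV⟩ := g
    have hg2 : g * g = 1 := by rw [← pow_two]; exact hVe.2 g hgV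
    have key : ∀ x ∈ V, x = 1 ∨ x = g := fun x hx => by
      obtain ⟨k, hk⟩ := mem_zpowers_iff.1 (hg ⟨x, hx⟩)
      exact mem_zpowers_involution hg2 (mem_zpowers_iff.2 ⟨k, congrArg Subtype.val hk⟩)
    rcases key t (mem_sup_left (mem_zpowers t)) with e | e
    · exact ht1 e
    rcases key a (mem_sup_right (mem_zpowers a)) with e' | e'
    · exact ha1 e'
    exact hat (e'.trans e.symm)
  have hmem : ∀ x ∈ V, x = 1 ∨ x = t ∨ x = a ∨ x = t * a := by
    intro x hx
    rw [hV, ← SetLike.mem_coe, coe_mul_of_right_le_normalizer_left (zpowers t) (zpowers a)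
      ((zpowers_le.2 hac).trans (centralizer_le_normalizer _))] at hx
    obtain ⟨u, hu, v, hv, rfl⟩ := Set.mem_mul.1 hx
    rcases mem_zpowers_involution ht hu with rfl | rfl <;>
      rcases mem_zpowers_involution ha hv with rfl | rfl <;> simp
  have hcop : (Nat.card V).Coprime (Nat.card N) := by
    obtain ⟨k, hk⟩ := IsPGroup.iff_card.1 (Signalizer.isPGroup_of_elab hVe : IsPGroup 2 V)
    obtain ⟨l, hl⟩ := IsPGroup.iff_card.1 hN
    rw [hk, hl]
    exact Nat.Coprime.pow k l (coprime_two hp2)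
  refine Coprime.le_of_forall_inf_centralizer_le hncyc ?_ hcop fun x hx hx1 => ?_
  · exact sup_le (zpowers_le.2 htN) (zpowers_le.2 haN)
  · rcases hmem x hx with rfl | rfl | rfl | rfl
    · exact absurd rfl hx1
    · exact h0
    · exact h1
    · exact h2

/-- An involution of a four group centralizing the centralizers of the other two. -/
theorem mem_centralizer_of_four (hp2 : p ≠ 2) {N : Subgroup G} (hN : IsPGroup p N) {t a : G}
    (ht : t * t = 1) (ha : a * a = 1) (hta : Commute t a) (hat : a ≠ t) (ha1 : a ≠ 1) (ht1 : t ≠ 1)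
    (htN : t ∈ normalizer (N : Set G)) (haN : a ∈ normalizer (N : Set G))
    (h1 : N ⊓ centralizer ({a} : Set G) ≤ centralizer ({t} : Set G))
    (h2 : N ⊓ centralizer ({t * a} : Set G) ≤ centralizer ({t} : Set G)) :
    t ∈ centralizer (N : Set G) := by
  have hle := le_of_four hp2 hN ht ha hta hat ha1 ht1 htN haN inf_le_right h1 h2
  exact mem_centralizer_iff.2 fun y hy => (commute_of_mem_centralizer_singleton (hle hy)).eq

/-- If `x` fixes `t` and carries `a` to `ta`, then `t` moves `C_N(a)` when it moves `N`. -/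
theorem not_mem_centralizer_inf_of_swap (hp2 : p ≠ 2) {N : Subgroup G} (hN : IsPGroup p N)
    {t a x : G} (ht : t * t = 1) (ha : a * a = 1) (hta : Commute t a) (hat : a ≠ t) (ha1 : a ≠ 1)
    (ht1 : t ≠ 1) (htN : t ∈ normalizer (N : Set G)) (haN : a ∈ normalizer (N : Set G))
    (hxN : x ∈ normalizer (N : Set G)) (hxt : Commute x t) (hxa : x * a * x⁻¹ = t * a)
    (h : t ∉ centralizer (N : Set G)) :
    t ∉ centralizer ((N ⊓ centralizer ({a} : Set G) : Subgroup G) : Set G) := by
  intro hc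
  have h1 : N ⊓ centralizer ({a} : Set G) ≤ centralizer ({t} : Set G) := fun y hy =>
    mem_centralizer_singleton_of (mem_centralizer_iff.1 hc y hy)
  refine h (mem_centralizer_of_four hp2 hN ht ha hta hat ha1 ht1 htN haN h1 fun y hy => ?_)
  set y' := x⁻¹ * y * x with hy'
  have hy'N : y' ∈ N := by
    simpa [hy'] using conj_mem_of_mem_normalizer (inv_mem hxN) hy.1
  have hy'a : Commute y' a := by
    have e : a = x⁻¹ * (t * a) * x := by rw [← hxa]; group
    have := (commute_of_mem_centralizer_singleton hy.2).map (MulAut.conj x⁻¹).toMonoidHom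
    simp only [MulEquiv.toMonoidHom_eq_coe, MonoidHom.coe_coe, MulAut.conj_apply, inv_inv] at this
    rw [hy', e]; exact this
  have hy't : Commute y' t :=
    commute_of_mem_centralizer_singleton (h1 ⟨hy'N, mem_centralizer_singleton_of hy'a⟩)
  have := hy't.map (MulAut.conj x).toMonoidHom
  simp only [MulEquiv.toMonoidHom_eq_coe, MonoidHom.coe_coe, MulAut.conj_apply, hy'] at this
  rw [conj_eq_of_commute hxt, show x * (x⁻¹ * y * x) * x⁻¹ = y by group] at this
  exact mem_centralizer_singleton_of this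

/-- Every element of a group of odd prime power order is a fixed times an inverted element. -/
theorem exists_fixed_mul_inverted (hp2 : p ≠ 2) {N : Subgroup G} (hN : IsPGroup p N) {t : G}
    (ht : t * t = 1) (hn : t ∈ normalizer (N : Set G)) {w : G} (hw : w ∈ N) :
    ∃ f i : G, f ∈ N ∧ i ∈ N ∧ Commute t f ∧ t * i * t⁻¹ = i⁻¹ ∧ w = f * i ∧
      ∀ a : G, Commute a t → Commute a w → Commute a f ∧ Commute a i := by
  set c := w⁻¹ * (t * w * t⁻¹) with hc
  have hcN : c ∈ N := mul_mem (inv_mem hw) (conj_mem_of_mem_normalizer hn hw)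
  obtain ⟨l, hl⟩ := IsPGroup.iff_orderOf.1 hN ⟨c, hcN⟩
  rw [Subgroup.orderOf_mk] at hl
  have hodd : Odd (orderOf c) := by
    rw [hl]; exact (hp.out.odd_of_ne_two hp2).pow
  obtain ⟨s, hs⟩ := hodd
  set k := s + 1
  have hk : c ^ k * c ^ k = c := by
    rw [← pow_add, show k + k = orderOf c + 1 by omega, pow_succ, pow_orderOf_eq_one, one_mul]
  have hinv : t * c * t⁻¹ = c⁻¹ := by
    rw [hc, inv_of_sq_one ht]
    calc t * (w⁻¹ * (t * w * t)) * t = t * w⁻¹ * t * w * (t * t) := by group
      _ = t * w⁻¹ * t * w := by rw [ht, mul_one]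
      _ = (w⁻¹ * (t * w * t))⁻¹ := by
          rw [mul_inv_rev, mul_inv_rev, mul_inv_rev, inv_of_sq_one ht, inv_inv]
          simp only [mul_assoc]
  refine ⟨w * c ^ k, (c ^ k)⁻¹, mul_mem hw (N.pow_mem hcN _), inv_mem (N.pow_mem hcN _), ?_, ?_,
    by group, fun a hat haw => ?_⟩
  · refine commute_of_conj_eq ?_
    calc t * (w * c ^ k) * t⁻¹ = (t * w * t⁻¹) * (t * c * t⁻¹) ^ k := by rw [conj_pow]; group
      _ = w * (c * (c ^ k)⁻¹) := by
          rw [hinv, inv_pow, ← mul_assoc]; congr 1; rw [hc]; group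
      _ = w * c ^ k := by nth_rw 1 [← hk]; rw [mul_inv_cancel_right]
  · rw [← conj_inv, ← conj_pow, hinv, inv_pow]
  · have hac : Commute a c := by
      rw [hc]
      exact haw.inv_right.mul_right ((hat.mul_right haw).mul_right hat.inv_right)
    exact ⟨haw.mul_right (hac.pow_right k), (hac.pow_right k).inv_right⟩

theorem card_elem_sup {A : Subgroup G} {x : G} (hx : x ^ p = 1)
    (hc : x ∈ centralizer (A : Set G)) (hnot : x ∉ A) :
    Nat.card ↥(A ⊔ zpowers x) = p * Nat.card A := by
  have hx1 : x ≠ 1 := fun e => hnot (e ▸ one_mem A)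
  have ho : orderOf x = p := orderOf_eq_prime hx hx1
  have hinf : A ⊓ zpowers x = ⊥ := by
    refine disjoint_iff.1 (disjoint_def.2 fun {y} hyA hy => ?_)
    by_contra hy1
    obtain ⟨k, rfl⟩ := mem_zpowers_iff.1 hy
    refine hnot ?_
    have hcard : Nat.card (zpowers x) = p := by rw [Nat.card_zpowers, ho]
    have hz : zpowers (x ^ k) = zpowers x := by
      refine Subgroup.eq_of_le_of_card_ge (zpowers_le.2 (zpow_mem (mem_zpowers x) k)) ?_
      rw [hcard, Nat.card_zpowers]
      have hd : orderOf (x ^ k) ∣ p := by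
        rw [← hcard]; exact (Subgroup.orderOf_dvd_natCard (zpowers x) (zpow_mem (mem_zpowers x) k))
      rcases (Nat.dvd_prime hp.out).1 hd with e | e
      · exact absurd (orderOf_eq_one_iff.1 e) hy1
      · exact e.ge
    exact zpowers_le.2 hyA (hz.ge (mem_zpowers x))
  rw [Coprime.card_sup_eq ((zpowers_le.2 hc).trans (centralizer_le_normalizer _)) hinf,
    Nat.card_zpowers, ho, mul_comm]

theorem mem_sup_zpowers {A : Subgroup G} {x y : G} (hc : x ∈ centralizer (A : Set G))
    (hy : y ∈ A ⊔ zpowers x) : ∃ u ∈ A, ∃ k : ℤ, y = u * x ^ k := by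
  obtain ⟨u, hu, v, hv, rfl⟩ :=
    Coprime.exists_mul_of_mem_sup ((zpowers_le.2 hc).trans (centralizer_le_normalizer _)) hy
  obtain ⟨k, rfl⟩ := mem_zpowers_iff.1 hv
  exact ⟨u, hu, k, rfl⟩

/-- A `p`-group fixes an element of order `p` of a nontrivial `p`-group it normalizes. -/
theorem exists_fixed_prime {E N : Subgroup G} (hE : IsPGroup p E) (hN : IsPGroup p N)
    (hn : E ≤ normalizer (N : Set G)) (hne : N ≠ ⊥) :
    ∃ y ∈ N, y ≠ 1 ∧ y ^ p = 1 ∧ y ∈ centralizer (E : Set G) := by
  suffices h : N ⊓ centralizer (E : Set G) ≠ ⊥ by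
    haveI : Nontrivial ↥(N ⊓ centralizer (E : Set G)) := (nontrivial_iff_ne_bot _).2 h
    obtain ⟨y, hy⟩ := exists_prime_orderOf_dvd_card' (G := ↥(N ⊓ centralizer (E : Set G))) p
      ((hN.to_le inf_le_left).card_eq_or_dvd.resolve_left Finite.one_lt_card.ne')
    exact ⟨y, y.2.1, fun e => hp.out.one_lt.ne' (by rw [← hy, ← Subgroup.orderOf_coe, e, orderOf_one]),
      by rw [← hy, ← Subgroup.orderOf_coe, pow_orderOf_eq_one], y.2.2⟩
  intro hbot
  have key : ∀ n (U : Subgroup G), Nat.card U ≤ n → U ≤ N → E ≤ normalizer (U : Set G) → U ≠ ⊥ →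
      False := by
    intro n
    induction n with
    | zero => intro U hU; exact absurd hU (by simp [Nat.card_pos.ne'])
    | succ n ih =>
      intro U hU hUN hEU hUne
      have hlt := CharPLocal.commutator_lt_of_isPGroup (hN.to_le hUN) hE hEU hUne
      by_cases hc : ⁅U, E⁆ = ⊥
      · exact hUne (le_bot_iff.1 (hbot ▸ le_inf hUN (commutator_eq_bot_iff_le_centralizer.1 hc)))
      · refine ih _ ?_ (hlt.le.trans hUN)
          (le_sup_right.trans (Coprime.sup_le_normalizer_commutator U E)) hc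
        have : Nat.card ↥⁅U, E⁆ < Nat.card U := by
          refine lt_of_le_of_ne (Nat.le_of_dvd Nat.card_pos (card_dvd_of_le hlt.le)) fun e => hlt.ne ?_
          exact Subgroup.eq_of_le_of_card_ge hlt.le e.ge
        omega
  exact key _ N le_rfl le_rfl hn hne

/-- An element of odd order normalizing an abelian 2-group centralizes it once it centralizes
its involutions. -/
theorem mem_centralizer_of_abelian_two {A : Subgroup G} (hA : IsPGroup 2 A)
    (hcomm : ∀ x ∈ A, ∀ y ∈ A, Commute x y) {e : G} (he : Odd (orderOf e))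
    (hn : e ∈ normalizer (A : Set G)) (hfix : ∀ x ∈ A, x * x = 1 → Commute e x) :
    e ∈ centralizer (A : Set G) := by
  suffices h : ∀ n, ∀ x ∈ A, orderOf x ≤ n → Commute e x from
    mem_centralizer_iff.2 fun x hx => (h _ x hx le_rfl).symm.eq
  intro n
  induction n with
  | zero => intro x _ hle; exact absurd hle (Nat.not_le.2 (orderOf_pos x))
  | succ n ih =>
    intro x hx hle
    by_cases h1 : x = 1
    · subst h1; exact Commute.one_right e
    have hev : 2 ∣ orderOf x := by
      obtain ⟨k, hk⟩ := IsPGroup.iff_orderOf.1 hA ⟨x, hx⟩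
      rw [Subgroup.orderOf_mk] at hk
      rcases k with - | k
      · exact absurd (orderOf_eq_one_iff.1 (by simpa using hk)) h1
      · rw [hk]; exact dvd_pow_self 2 (Nat.succ_ne_zero k)
    have hsq : Commute e (x * x) := by
      refine ih _ (mul_mem hx hx) ?_
      rw [← pow_two, orderOf_pow_of_dvd two_ne_zero hev]
      have := Nat.div_lt_self (orderOf_pos x) (by norm_num : 1 < 2)
      omega
    set u := x⁻¹ * (e * x * e⁻¹) with hu
    have huA : u ∈ A := mul_mem (inv_mem hx) (conj_mem_of_mem_normalizer hn hx)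
    have hu2 : u * u = 1 := by
      have hc := hcomm _ (inv_mem hx) _ (conj_mem_of_mem_normalizer hn hx)
      calc u * u = x⁻¹ * x⁻¹ * ((e * x * e⁻¹) * (e * x * e⁻¹)) := by
            rw [hu]; exact hc.symm.mul_mul_mul_comm _ _
        _ = (x * x)⁻¹ * (e * (x * x) * e⁻¹) := by group
        _ = 1 := by rw [conj_eq_of_commute hsq, inv_mul_cancel]
    have hcu := hfix u huA hu2
    have key : ∀ k : ℕ, e ^ k * x * (e ^ k)⁻¹ = x * u ^ k := by
      intro k
      induction k with
      | zero => simp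
      | succ k ihk =>
        calc e ^ (k + 1) * x * (e ^ (k + 1))⁻¹ = e * (e ^ k * x * (e ^ k)⁻¹) * e⁻¹ := by
              rw [pow_succ']; group
          _ = (e * x * e⁻¹) * (e * u ^ k * e⁻¹) := by rw [ihk]; group
          _ = x * u ^ (k + 1) := by
              rw [conj_eq_of_commute (hcu.pow_right k), pow_succ', ← mul_assoc]
              congr 1; rw [hu]; group
    have hue : u ^ orderOf e = 1 := by
      have := key (orderOf e)
      rw [pow_orderOf_eq_one, one_mul, inv_one, mul_one] at this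
      exact mul_eq_left.mp this.symm
    have hu1 : u = 1 := by
      have hg : Nat.gcd 2 (orderOf e) = 1 :=
        (Nat.prime_two.coprime_iff_not_dvd.2 he.not_two_dvd_nat).gcd_eq_one
      simpa [hg] using pow_gcd_eq_one.2 ⟨(pow_two u).trans hu2, hue⟩
    exact commute_of_conj_eq (inv_mul_eq_one.1 (hu ▸ hu1)).symm

end CfsgLib.LocalEven48.KlingerMason
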